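import Cfsg.Agent.Lib.FiTwentyFourType.ChkDefs

/-!
Kernel checks for the group of order 512: ChkSemi.
-/

set_option autoImplicit false
set_option Elab.async false
set_option maxRecDepth 100000

namespace CfsgLib.FiTwentyFourType

open CfsgLib.CosetEnum (strict)
open CfsgLib.Fi22USix (V6 el code vec nrm)
open CfsgLib.LargeFischer (bMap bComp bId gC pEls xF oddF sigF)

theorem semi_ok_0 : semOK 0 = true := by decide +kernel

theorem semi_ok_1 : semOK 1 = true := by decide +kernel

theorem semi_ok_2 : semOK 2 = true := by decide +kernel

end CfsgLib.FiTwentyFourType
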