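import Cfsg.Agent.Lib.FiTwentyFourType.ChkDefs

/-!
Kernel checks for the group of order 512: ChkWit.
-/

set_option autoImplicit false
set_option Elab.async false
set_option maxRecDepth 100000

namespace CfsgLib.FiTwentyFourType

open CfsgLib.CosetEnum (strict)
open CfsgLib.Fi22USix (V6 el code vec nrm)
open CfsgLib.LargeFischer (bMap bComp bId gC pEls xF oddF sigF)

theorem wit_ok : (List.range 32).all (fun r => (List.range 16).all fun s =>
    witOK (16 * r + s) (el512 (16 * r + s)) ((witPos.getD r []).getD s 0)) = true := by decide +kernel

end CfsgLib.FiTwentyFourType
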