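import Cfsg.Agent.Lib.FiTwentyFourType.ChkBase
import Cfsg.Agent.Lib.FiTwentyFourType.ChkWit
import Cfsg.Agent.Lib.FiTwentyFourType.ChkSemi0
import Cfsg.Agent.Lib.FiTwentyFourType.ChkSemi1
import Cfsg.Agent.Lib.FiTwentyFourType.ChkSemi2
import Cfsg.Agent.Lib.FiTwentyFourType.ChkSemi3
import Cfsg.Agent.Lib.FiTwentyFourType.ChkSemi4
import Cfsg.Agent.Lib.FiTwentyFourType.ChkSemiFix0
import Cfsg.Agent.Lib.FiTwentyFourType.ChkSemiFix1
import Cfsg.Agent.Lib.FiTwentyFourType.ChkSemiFix2
import Cfsg.Agent.Lib.FiTwentyFourType.ChkInner0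
import Cfsg.Agent.Lib.FiTwentyFourType.ChkInner1

/-!
The kernel checks gathered.
-/

set_option autoImplicit false

namespace CfsgLib.FiTwentyFourType

theorem semi_ok : ∀ k : Fin 13, semOK k = true := by
  intro k; fin_cases k
  · exact semi_ok_0
  · exact semi_ok_1
  · exact semi_ok_2
  · exact semi_ok_3
  · exact semi_ok_4
  · exact semi_ok_5
  · exact semi_ok_6
  · exact semi_ok_7
  · exact semi_ok_8
  · exact semi_ok_9
  · exact semi_ok_10
  · exact semi_ok_11
  · exact semi_ok_12

theorem semi_fix : ∀ k : Fin 13, fixOK (k + 7) 64 64 = true := by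
  intro k; fin_cases k
  · exact semi_fix_0
  · exact semi_fix_1
  · exact semi_fix_2
  · exact semi_fix_3
  · exact semi_fix_4
  · exact semi_fix_5
  · exact semi_fix_6
  · exact semi_fix_7
  · exact semi_fix_8
  · exact semi_fix_9
  · exact semi_fix_10
  · exact semi_fix_11
  · exact semi_fix_12

theorem inner_ok : ∀ k : Fin 7, fixOK k 256 16 = true ∧
    allEls.countP (fun c => small8 (diffs k c)) < 128 := by
  intro k; fin_cases k
  · exact inner_ok_0
  · exact inner_ok_1
  · exact inner_ok_2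
  · exact inner_ok_3
  · exact inner_ok_4
  · exact inner_ok_5
  · exact inner_ok_6

end CfsgLib.FiTwentyFourType
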