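import Cfsg.Agent.Lib.FiTwentyFourType.ChkDefs

/-!
Kernel checks for the group of order 512: ChkBase.
-/

set_option autoImplicit false
set_option Elab.async false
set_option maxRecDepth 100000

namespace CfsgLib.FiTwentyFourType

open CfsgLib.CosetEnum (strict)
open CfsgLib.Fi22USix (V6 el code vec nrm)
open CfsgLib.LargeFischer (bMap bComp bId gC pEls xF oddF sigF)

theorem nb_ok : (List.range 4096).all (fun n => decide (nrm (vec n) = bif nb n then 1 else 0)) = true := by
  decide +kernel

theorem d_word : dCols = bComp (xC 1) (bComp (xC 1) (bComp oC (xC 1))) := by decide +kernel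

theorem d_ok : bComp dCols dCols = bId ∧ pEls.all (fun c => !decide (c = dCols)) = true ∧
    (∀ k : Fin 6, bComp dCols (bComp (gC k) dCols) = pEls.getD (dTab.getD k 0) [] ∧ dTab.getD k 0 < 256) := by
  decide +kernel

theorem hi_ok : hiEls = pEls.map (bComp dCols) := by decide +kernel

theorem rep_ok : repIdx.length = 20 ∧ repIdx.all (fun i => Nat.blt i 512) = true ∧ allEls.length = 512 := by
  decide +kernel

end CfsgLib.FiTwentyFourType
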