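import Cfsg.Agent.Lib.LargeFischer.SylowChecks
import Cfsg.Agent.Lib.FiTwentyFourType.Data

/-!
The tests on the group of order 512 and the representatives of its involutions.
-/

set_option autoImplicit false
set_option Elab.async false
set_option maxRecDepth 100000

namespace CfsgLib.FiTwentyFourType

open CfsgLib.CosetEnum (strict)
open CfsgLib.Fi22USix (V6 el code vec nrm)
open CfsgLib.LargeFischer (bMap bComp bId gC pEls xF oddF sigF)

/-- membership -/
noncomputable def memB (v : ℕ) (l : List ℕ) : Bool := l.any (Nat.beq v)

/-- the parity of the norm on codes -/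
noncomputable def nb (n : ℕ) : Bool :=
  strict ((n ||| n / 2) &&& 1365) fun m => strict (m ^^^ m / 4) fun x =>
    Nat.beq ((x ^^^ x / 16 ^^^ x / 256) % 2) 1

/-- the polar form on codes -/
noncomputable def pb (a b : ℕ) : Bool := Bool.xor (nb (a ^^^ b)) (Bool.xor (nb a) (nb b))

/-- the columns of all 512 elements -/
def allEls : List (List ℕ) := pEls ++ hiEls

/-- an element -/
def el512 (i : ℕ) : List ℕ := allEls.getD i []

/-- a column list turns the scalar to a given scalar -/
noncomputable def turnC (a : ℕ) (c : List ℕ) : Bool :=
  (List.range 12).all fun i =>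
    Nat.beq (bMap c (code (el 2 • vec (2 ^ i)))) (code (el a • vec (c.getD i 0)))

/-- the columns of a generator of the stabiliser of the off vector -/
def xC (k : Fin 2) : List ℕ := (List.range 12).map fun i => code (xF k (vec (2 ^ i)))

/-- the columns of the swap -/
def oC : List ℕ := (List.range 12).map fun i => code (oddF (vec (2 ^ i)))

/-- the vectors fixed by a representative -/
def fixOf (k : ℕ) : List ℕ := repFix.getD k []

/-- the columns of a representative -/
def repC (k : ℕ) : List ℕ := el512 (repIdx.getD k 0)

/-- the differences on the fixed vectors -/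
noncomputable def diffs (k : ℕ) (c : List ℕ) : List ℕ :=
  (fixOf k).map fun v => strict (bMap c v) fun x => x ^^^ v

/-- adjoin the first vector outside -/
noncomputable def grow (S imgs : List ℕ) : List ℕ :=
  strict ((imgs.filter fun v => !memB v S).headD 0) fun p => S ++ S.map fun s => s ^^^ p

/-- all vectors lie in a list -/
noncomputable def inAll (S imgs : List ℕ) : Bool := imgs.all fun v => memB v S

/-- the differences span at most two vectors -/
noncomputable def small2 (imgs : List ℕ) : Bool := inAll (grow [0] imgs) imgs

/-- the differences span at most four vectors -/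
noncomputable def small4 (imgs : List ℕ) : Bool := inAll (grow (grow [0] imgs) imgs) imgs

/-- the differences span at most eight vectors -/
noncomputable def small8 (imgs : List ℕ) : Bool := inAll (grow (grow (grow [0] imgs) imgs) imgs) imgs

/-- the labels of a semilinear representative -/
def labOf (k : ℕ) : List ℕ := (labTab.getD k []).flatten

/-- the groups of four behind the labels -/
def keysOf (k : ℕ) : List (List ℕ) := keyTab.getD k []

/-- a label is right -/
noncomputable def labOK (ks : List (List ℕ)) (imgs : List ℕ) (j : ℕ) : Bool :=
  bif small2 imgs then Nat.beq j 1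
  else bif small4 imgs then
    Nat.ble 2 j && Nat.blt j (ks.length + 2) && inAll (ks.getD (j - 2) []) imgs
  else true

/-- a group of four -/
noncomputable def keyOK (K : List ℕ) : Bool :=
  Nat.beq K.length 4 && Nat.beq (K.getD 0 1) 0 && Nat.beq (K.getD 3 0) (K.getD 1 0 ^^^ K.getD 2 0)

/-- the fixed vectors of a representative are right -/
noncomputable def fixOK (k fx pp : ℕ) : Bool :=
  (fixOf k).all (fun v => Nat.blt v 4096 && Nat.beq (bMap (repC k) v) v) &&
  Nat.beq ((List.range 4096).countP fun n => Nat.beq (bMap (repC k) n) n) fx &&
  Nat.beq ((List.range 4096).countP fun n => (fixOf k).all fun v => !pb n v) pp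

/-- the semilinear checks -/
noncomputable def semOK (k : ℕ) : Bool :=
  (List.range 4096).all (fun n => bif Nat.beq (bMap (repC (k + 7)) n) n then
    (fixOf (k + 7)).all (fun v => !pb n v) else true) &&
  Nat.beq (labOf k).length 512 &&
  (allEls.zip (labOf k)).all (fun p => labOK (keysOf k) (diffs (k + 7) p.1) p.2) &&
  Nat.blt ((labOf k).countP (Nat.beq 1)) 32 &&
  (List.range (keysOf k).length).all (fun j =>
    Nat.blt ((labOf k).countP (Nat.beq 1) + (labOf k).countP (Nat.beq (j + 2))) 32 &&
    keyOK ((keysOf k).getD j []) &&
    (List.range j).all fun i => !inAll ((keysOf k).getD j []) ((keysOf k).getD i []))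

/-- the witness of an element is right -/
noncomputable def witOK (i : ℕ) (c : List ℕ) (q : ℕ) : Bool :=
  bif decide (bComp c c = bId) && !decide (c = bId) && ((Nat.blt i 256 && turnC 2 c) || turnC 3 c) then
    Nat.blt q witList.length && Nat.beq (witList.getD q (0, 0, 0)).1 i &&
    Nat.blt (witList.getD q (0, 0, 0)).2.2 512 && Nat.blt (witList.getD q (0, 0, 0)).2.1 20 &&
    (bif turnC 3 c then Nat.ble 7 (witList.getD q (0, 0, 0)).2.1
      else Nat.blt (witList.getD q (0, 0, 0)).2.1 7) &&
    decide (bComp (el512 (witList.getD q (0, 0, 0)).2.2) (repC (witList.getD q (0, 0, 0)).2.1) =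
      bComp c (el512 (witList.getD q (0, 0, 0)).2.2))
  else true

end CfsgLib.FiTwentyFourType
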