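import Cfsg.Agent.Lib.FiTwentyFourType.Invol

/-!
The transvection swapping two coordinates: a hyperplane of its fixed space, the singular vectors
perpendicular to it, and the maps fixing it.
-/

set_option autoImplicit false
set_option maxRecDepth 100000
set_option linter.style.haveILetI false

namespace CfsgLib.FiTwentyFourType

open CfsgLib.HePres (K4)
open CfsgLib.Fi22USix (V6 el code vec vec_code nrm hval)
open CfsgLib.USixUFour (InP)
open CfsgLib.LargeFischer (KKp oP oddF bas)

/-- generators of the hyperplane -/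
def Lc : List ℕ := [5, 10, 16, 64, 128, 256, 512, 1024, 2048]

/-- membership in the hyperplane on codes -/
noncomputable def lB (n : ℕ) : Bool := Nat.beq (n % 4) (n / 4 % 4) && !pb n 16

/-- perpendicular to the hyperplane and singular, on codes -/
noncomputable def rB (n : ℕ) : Bool := (Lc.all fun v => !pb n v) && !nb n

theorem trans_checks : Lc.all (fun n => Nat.blt n 4096 && lB n) = true ∧ (List.range 4096).countP lB = 512 ∧
    (List.range 4096).countP rB ≤ 4 ∧
    (List.range 4096).all (fun n => bif rB n then decide (vec n = 0 ∨ InP 0 (vec n)) else true) = true ∧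
    (List.range 4096).all (fun n => bif lB n then decide (oddF (vec n) = vec n) else true) = true := by
  decide +kernel

theorem last_coord : ∀ w0 w1 : K4, w0 + w1 = 1 →
    w0 * (w0 * w0) + w1 * (w1 * w1) = 1 → (w0 = 1 ∧ w1 = 0) ∨ (w0 = 0 ∧ w1 = 1) := by decide +kernel

/-- membership in the hyperplane -/
def InL (v : V6) : Prop := lB (code v) = true

theorem inL_card : Nat.card {v : V6 // InL v} = 512 := by
  rw [← trans_checks.2.1, ← USixUFour.count_vec]; rfl

theorem inL_fix {v : V6} (h : InL v) : oP 0 v = v := by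
  have h1 := USixUFour.all_vec trans_checks.2.2.2.2 v
  rw [show lB (code v) = true from h, cond_true, decide_eq_true_eq, vec_code] at h1
  exact h1

theorem lc_mem {n : ℕ} (hn : n ∈ Lc) : InL (vec n) := by
  have h := List.all_eq_true.mp trans_checks.1 n hn
  rw [Bool.and_eq_true, Nat.blt_eq] at h
  show lB (code (vec n)) = true
  rw [code_of_lt h.1]
  exact h.2

/-- singular vectors perpendicular to the hyperplane: zero or points, at most four -/
theorem rad_sing : (∀ w, (∀ v, InL v → bf w v = 0) → nrm w = 0 → w = 0 ∨ InP 0 w) ∧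
    Nat.card {w : V6 // (∀ v, InL v → bf w v = 0) ∧ nrm w = 0} ≤ 4 := by
  have key : ∀ w, (∀ v, InL v → bf w v = 0) → nrm w = 0 → rB (code w) = true := by
    intro w hw hn
    rw [rB, Bool.and_eq_true, List.all_eq_true]
    refine ⟨fun n hn' => ?_, ?_⟩
    · have hlt : n < 4096 := by
        have h := List.all_eq_true.mp trans_checks.1 n hn'
        rw [Bool.and_eq_true, Nat.blt_eq] at h
        exact h.1
      rw [Bool.not_eq_true', ← code_of_lt hlt, pb_spec]
      exact hw _ (lc_mem hn')
    · have h := of_decide_eq_true (USixUFour.all_vec nb_ok w)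
      rw [vec_code, hn] at h
      cases hb : nb (code w) with
      | false => rfl
      | true => rw [hb, cond_true] at h; exact absurd h zero_ne_one
  refine ⟨fun w hw hn => ?_, ?_⟩
  · have h1 := USixUFour.all_vec trans_checks.2.2.2.1 w
    rw [key w hw hn, cond_true, decide_eq_true_eq, vec_code] at h1
    exact h1
  · refine le_trans (Nat.card_le_card_of_injective (fun w => (⟨w.1, key _ w.2.1 w.2.2⟩ : {w : V6 // rB (code w) = true}))
      fun a b e => Subtype.ext (congrArg Subtype.val e :)) ?_
    rw [USixUFour.count_vec]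
    exact trans_checks.2.2.1

theorem lc_vals : vec 5 = bas 0 + bas 1 ∧ vec 16 = bas 2 ∧ vec 64 = bas 3 ∧ vec 128 = el 2 • bas 3 ∧
    vec 256 = bas 4 ∧ vec 1024 = bas 5 := by decide +kernel

theorem bas_hval : ∀ (w : V6) (i : Fin 6), hval w (bas i) = w i := fun w i => by
  fin_cases i <;> simp [Fi22USix.hval, bas]

/-- a map fixing the hyperplane is trivial or the swap -/
theorem fixer {f : Equiv.Perm V6} (hf : f ∈ ExtS) (h : ∀ v, InL v → f v = v) : f = 1 ∨ f = oP 0 := by
  obtain ⟨e5, e16, e64, e128, e256, e1024⟩ := lc_vals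
  have h3 : f (bas 3) = bas 3 := e64 ▸ h _ (lc_mem (by decide))
  have hlin : Turn (el 2) f := hf.2.2.1.resolve_right fun hs => by
    have h3' : f (el 2 • bas 3) = el 2 • bas 3 := e128 ▸ h _ (lc_mem (by decide))
    rw [hs, h3] at h3'
    exact el_mul.2.2.2.2 (by simpa [bas] using (congrFun h3' 3).symm)
  have h2 : f (bas 2) = bas 2 := e16 ▸ h _ (lc_mem (by decide))
  have h4 : f (bas 4) = bas 4 := e256 ▸ h _ (lc_mem (by decide))
  have h5 : f (bas 5) = bas 5 := e1024 ▸ h _ (lc_mem (by decide))
  have h01 : f (bas 0 + bas 1) = bas 0 + bas 1 := e5 ▸ h _ (lc_mem (by decide))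
  obtain ⟨g, hg, rfl⟩ := exists_stab_of_linear hf hlin
  change ∀ v, InL v → USixUFour.mv g v = v at h
  change USixUFour.mv g (bas 2) = bas 2 at h2
  change USixUFour.mv g (bas 3) = bas 3 at h3
  change USixUFour.mv g (bas 4) = bas 4 at h4
  change USixUFour.mv g (bas 5) = bas 5 at h5
  change USixUFour.mv g (bas 0 + bas 1) = bas 0 + bas 1 at h01
  set w := USixUFour.mv g (bas 0) with hw
  have hi : ∀ i : Fin 6, USixUFour.mv g (bas i) = bas i → i ≠ 0 → w i = 0 := fun i e hi => by
    rw [← bas_hval w i, hw]
    conv_lhs => rw [← e]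
    rw [USixUFour.mv_hval, bas_hval]
    simp [bas, hi]
  have w2 := hi 2 h2 (by decide)
  have w3 := hi 3 h3 (by decide)
  have w4 := hi 4 h4 (by decide)
  have w5 := hi 5 h5 (by decide)
  have hsum : w 0 + w 1 = 1 := by
    have e : hval w (bas 0 + bas 1) = hval (bas 0) (bas 0 + bas 1) := by
      conv_lhs => rw [hw, ← h01]
      exact USixUFour.mv_hval g _ _
    rw [(LargeFischer.hval_add _ _ w).2, (LargeFischer.hval_add _ _ (bas 0)).2, bas_hval, bas_hval, bas_hval,
      bas_hval] at e
    simpa [bas] using e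
  have hnorm : w 0 * (w 0 * w 0) + w 1 * (w 1 * w 1) = 1 := by
    have e : nrm w = nrm (bas 0) := USixUFour.mv_nrm g _
    rw [show nrm (bas 0) = 1 by decide +kernel] at e
    simpa [Fi22USix.nrm, w2, w3, w4, w5] using e
  have hw01 : w = bas 0 ∨ w = bas 1 := by
    rcases last_coord _ _ hsum hnorm with ⟨a, b⟩ | ⟨a, b⟩
    · left; funext i; fin_cases i <;> simp [bas, a, b, w2, w3, w4, w5]
    · right; funext i; fin_cases i <;> simp [bas, a, b, w2, w3, w4, w5]
  have h1 : USixUFour.mv g (bas 1) = w + (bas 0 + bas 1) := by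
    rw [hw]
    conv_rhs => rw [← h01, USixUFour.mv_add, ← add_assoc, v6_self, zero_add]
  rcases hw01 with e | e
  · left
    refine (congrArg USixUFour.act (?_ : g = 1)).trans (map_one _)
    refine USixUFour.su_ext fun v => ?_
    rw [USixUFour.mv_one, ← LargeFischer.bas_sum v]
    simp only [Fin.sum_univ_six, USixUFour.mv_add, USixUFour.mv_smul, h1, h2, h3, h4, h5, ← hw, e,
      ← add_assoc, v6_self, zero_add]
  · right
    rw [← LargeFischer.act_odEl]
    refine congrArg USixUFour.act (USixUFour.su_ext fun v => ?_)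
    rw [LargeFischer.odEl_apply]
    conv_lhs => rw [← LargeFischer.bas_sum v]
    have h1' : USixUFour.mv g (bas 1) = bas 0 := by
      rw [h1, e, add_comm (bas 0) (bas 1), ← add_assoc, v6_self, zero_add]
    simp only [Fin.sum_univ_six, USixUFour.mv_add, USixUFour.mv_smul, h1', h2, h3, h4, h5, ← hw, e]
    funext i
    fin_cases i <;> simp [bas, oddF, Equiv.swap_apply_def]

end CfsgLib.FiTwentyFourType
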