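import Cfsg.Agent.Lib.FiTwentyFourType.Frame
import Cfsg.Agent.Lib.FiTwentyFourType.Trans

/-!
Coordinates of the centraliser with image between the core and its normaliser.
-/

set_option autoImplicit false
set_option maxRecDepth 100000
set_option linter.style.haveILetI false
set_option linter.unusedSectionVars false

namespace CfsgLib.FiTwentyFourType

open CfsgLib.Extraspecial
open CfsgLib.LargeFischer (CZ QG mem_QG of_mem_QG KKp oP AddPerm)
open CfsgLib.HePres (K4)
open CfsgLib.Fi22USix (V6 el code vec nrm hval)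
open CfsgLib.USixUFour (mv act coreK InP)
open scoped commutatorElement

variable {G : Type*} [Group G] [Finite G] {z : G}

/-- the centraliser in coordinates -/
structure CX (z : G) (Q K : Subgroup (CZ z)) (v : CZ z → V6) (ρ : CZ z →* Equiv.Perm V6) : Prop where
  st : Setting (QG Q) z
  card : Nat.card (QG Q) = 2 ^ 13
  vmul : ∀ x ∈ Q, ∀ y ∈ Q, v (x * y) = v x + v y
  vzero : ∀ x ∈ Q, (v x = 0 ↔ (x : G) = 1 ∨ (x : G) = z)
  vsq : ∀ x ∈ Q, ((x : G) * x = 1 ↔ nrm (v x) = 0)
  vsurj : ∀ a, ∃ x ∈ Q, v x = a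
  vconj : ∀ h x : CZ z, x ∈ Q → v (h * x * h⁻¹) = ρ h (v x)
  ker : ∀ h, ρ h = 1 ↔ h ∈ Q
  ext : ∀ h, ρ h ∈ ExtS
  core : ∀ h, ρ h ∈ KKp ↔ h ∈ K
  onto : ∀ f ∈ KKp, ∃ h ∈ K, ρ h = f
  scal : ∃ x ∈ K, x ^ 3 = 1 ∧ ∀ u, ρ x u = el 2 • u
  qn : Q.Normal

variable {L : Type} [Field L] [Fintype L] {Q M K : Subgroup (CZ z)} {π : K →* Cfsg.PSU 4 L 3}

theorem k4_cases' (c : K4) (h0 : c ≠ 0) (h1 : c ≠ 1) : c = el 2 ∨ c = el 3 := by
  rcases LargeFischer.k4_cases c with h | h | h | h
  exacts [absurd h h0, absurd h h1, Or.inl h, Or.inr h]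

theorem pow_three_el : el 2 ^ (2 ^ 14) = el 2 := by
  have h3 : el 2 ^ 3 = 1 := by decide +kernel
  rw [← pow_mod_orderOf]
  have ho : orderOf (el 2) ∣ 3 := orderOf_dvd_of_pow_eq_one h3
  rcases (Nat.dvd_prime Nat.prime_three).mp ho with h | h
  · exact absurd (orderOf_eq_one_iff.mp h) (by decide +kernel)
  · rw [h]; norm_num

/-- the coordinates exist -/
theorem exists_cx [hQn : Q.Normal] (hz : orderOf z = 2) (hF : Cfsg.generalizedFittingSubgroup (CZ z) = Q)
    (hQ : Cfsg.IsExtraspecial 2 Q) (hcard : Nat.card Q = 2 ^ 13) (l : Lay Q M K π) :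
    ∃ (v : CZ z → V6) (ρ : CZ z →* Equiv.Perm V6), CX z Q K v ρ := by
  classical
  obtain ⟨e, u, σ, P⟩ := exists_pre_of Q hz hF hQ (by rw [hcard])
  obtain ⟨φ, x, hφa, hφq, hx, hxQ, hxs, hNs, hMK, hKM⟩ := exists_frame l P
  let ρ : CZ z →* Equiv.Perm V6 := MonoidHom.mk'
    (fun h => (φ.trans (σ h).1.toEquiv).trans φ.symm) fun g h => Equiv.ext fun a => by
      show φ.symm ((σ (g * h)).1 (φ a)) = φ.symm ((σ g).1 (φ (φ.symm ((σ h).1 (φ a)))))
      rw [map_mul, φ.apply_symm_apply]; rfl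
  have hρ : ∀ h a, ρ h a = φ.symm ((σ h).1 (φ a)) := fun _ _ => rfl
  have hφ0 : φ 0 = 0 := by
    have h := hφa 0 0
    rw [add_zero] at h
    exact left_eq_add.mp h
  have hφs : ∀ a b, φ.symm (a + b) = φ.symm a + φ.symm b := fun a b =>
    φ.injective (by rw [hφa, φ.apply_symm_apply, φ.apply_symm_apply, φ.apply_symm_apply])
  have hadd : ∀ h a b, ρ h (a + b) = ρ h a + ρ h b := fun h a b => by
    simp only [hρ]; rw [hφa, map_add, hφs]
  have hnrm : ∀ h a, nrm (ρ h a) = nrm a := fun h a => by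
    rw [hρ, ← hφq, φ.apply_symm_apply, ← hφq]
    exact congrArg LargeFischer.ιK ((σ h).2 (φ a))
  have hker : ∀ h, ρ h = 1 ↔ h ∈ Q := fun h => by
    rw [← P.ker]
    constructor
    · intro e1
      refine Subtype.ext (LinearEquiv.ext fun a => ?_)
      have h1 := Equiv.congr_fun e1 (φ.symm a)
      rw [hρ, φ.apply_symm_apply, Equiv.Perm.one_apply] at h1
      exact φ.symm.injective h1
    · intro e1
      refine Equiv.ext fun a => ?_
      rw [hρ, e1]; exact φ.symm_apply_apply a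
  haveI := l.nN
  haveI := l.nM
  have hkeep : ∀ h a, InP 0 a → InP 0 (ρ h a) := fun h => by
    refine LargeFischer.keep_points (ρ h) (hnrm h) (by
      have h' := hadd h 0 0
      rw [add_zero] at h'
      exact left_eq_add.mp h') fun c hc => ?_
    obtain ⟨m, hm, e1⟩ := hKM c hc
    obtain ⟨c', hc', e2⟩ := hMK (h⁻¹ * m * h) (by simpa using l.nM.conj_mem m hm h⁻¹)
    refine ⟨c', hc', ?_⟩
    have h2 : ρ (h⁻¹ * m * h) = act c' := Equiv.ext e2
    have h1 : ρ m = act c := Equiv.ext e1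
    rw [← h2, ← h1, ← map_inv, ← map_mul, ← map_mul]
    congr 1; group
  have hkeep' : ∀ h a, InP 0 (ρ h a) ↔ InP 0 a := fun h a => ⟨fun ha => by
    have h1 := hkeep h⁻¹ _ ha
    rwa [← Equiv.Perm.mul_apply, ← map_mul, inv_mul_cancel, map_one, Equiv.Perm.one_apply] at h1, hkeep h a⟩
  have hxρ : ∀ a, ρ x a = el 2 • a := fun a => by rw [hρ]; exact hxs a
  have hext : ∀ h, ρ h ∈ ExtS := by
    intro h
    obtain ⟨c, hc⟩ := hNs (h * x * h⁻¹) (l.nN.conj_mem x hx h)
    have hturn : ∀ a, ρ h (el 2 • a) = c • ρ h a := fun a => by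
      rw [← hxρ, ← hc]
      show (ρ h * ρ x) a = ρ (h * x * h⁻¹) (ρ h a)
      rw [← Equiv.Perm.mul_apply, ← map_mul, ← map_mul]
      congr 2; group
    have hb : ∀ a b, c • a = c • b → a = b := fun a b e1 => by
      rw [← hc, ← hc] at e1
      exact (ρ (h * x * h⁻¹)).injective e1
    have hc0 : c ≠ 0 := fun e0 => by
      subst e0
      exact LargeFischer.v0_spec.2.2.1 (hb LargeFischer.v0 0 (by simp))
    have hc1 : c ≠ 1 := fun e1 => hxQ (by
      subst e1
      have h1 : h * x * h⁻¹ ∈ Q := (hker _).mp (Equiv.ext fun a => by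
        rw [hρ, hc, one_smul, Equiv.Perm.one_apply])
      have := hQn.conj_mem _ h1 h⁻¹
      simpa [mul_assoc] using this)
    refine ⟨hadd h, hnrm h, ?_, hkeep' h⟩
    rcases k4_cases' c hc0 hc1 with rfl | rfl
    · exact Or.inl hturn
    · exact Or.inr hturn
  have honto : ∀ f ∈ KKp, ∃ h ∈ K, ρ h = f := by
    rintro _ ⟨c, hc, rfl⟩
    obtain ⟨m, hm, e1⟩ := hKM c hc
    exact ⟨m, hm, Equiv.ext e1⟩
  refine ⟨fun h => φ.symm (u h), ρ, P.st, P.card, ?_, ?_, ?_, ?_, ?_, hker, hext, ?_, honto, ?_, hQn⟩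
  · intro a ha b hb; rw [P.umul a ha b hb, hφs]
  · intro a ha
    rw [φ.symm_apply_eq, hφ0, P.uzero a ha]
  · intro a ha
    rw [P.usq a ha, ← hφq, φ.apply_symm_apply]
    exact ⟨fun h => by rw [h]; rfl, fun h => LargeFischer.ιK_inj _ 0 h⟩
  · intro a
    obtain ⟨w, hw, e1⟩ := P.usurj (φ a)
    exact ⟨w, hw, by rw [e1, φ.symm_apply_apply]⟩
  · intro h a ha
    rw [P.uconj h a ha, hρ, φ.apply_symm_apply]
  · intro h
    constructor
    · intro hh
      obtain ⟨m, hm, e1⟩ := honto _ hh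
      have h2 : ρ (m⁻¹ * h) = 1 := by rw [map_mul, map_inv, e1, inv_mul_cancel]
      have := mul_mem hm ((l.leN.trans l.leM) ((hker _).mp h2))
      rwa [mul_inv_cancel_left] at this
    · intro hh
      obtain ⟨c, hc, e1⟩ := hMK h hh
      exact ⟨c, hc, (Equiv.ext e1).symm⟩
  · refine ⟨x ^ (2 ^ 14), pow_mem (l.leM hx) _, ?_, fun a => ?_⟩
    · have hxq : x ^ 3 ∈ Q := by
        refine (hker _).mp (Equiv.ext fun a => ?_)
        rw [map_pow, pow_succ, pow_two, Equiv.Perm.mul_apply, Equiv.Perm.mul_apply, hxρ, hxρ, hxρ, smul_smul, smul_smul,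
          show el 2 * el 2 * el 2 = 1 by decide +kernel, one_smul, Equiv.Perm.one_apply]
      have hpow : (x ^ 3) ^ (2 ^ 14) = 1 := by
        have h13 : (⟨x ^ 3, hxq⟩ : Q) ^ (2 ^ 13) = 1 := hcard ▸ pow_card_eq_one'
        have h14 : (⟨x ^ 3, hxq⟩ : Q) ^ (2 ^ 14) = 1 := by
          rw [pow_succ (n := 13), pow_mul, h13, one_pow]
        exact congrArg Subtype.val h14
      rw [← pow_mul, mul_comm, pow_mul]
      exact hpow
    · conv_rhs => rw [← pow_three_el]
      have key : ∀ n : ℕ, ρ (x ^ n) a = (el 2 ^ n) • a := by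
        intro n
        induction n with
        | zero => rw [pow_zero, pow_zero, map_one, Equiv.Perm.one_apply, one_smul]
        | succ n ih => rw [pow_succ', pow_succ', map_mul, Equiv.Perm.mul_apply, ih, hxρ, mul_smul]
      exact key _

namespace CX

variable {v : CZ z → V6} {ρ : CZ z →* Equiv.Perm V6} (C : CX z Q K v ρ)
include C

theorem q_le : Q ≤ K := fun q hq => (C.core q).mp (by rw [(C.ker q).mpr hq]; exact one_mem _)

theorem v_one : v 1 = 0 := (C.vzero 1 (one_mem Q)).mpr (Or.inl rfl)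

theorem v_inv {x : CZ z} (hx : x ∈ Q) : v x⁻¹ = v x := by
  have h := C.vmul x hx x⁻¹ (inv_mem hx)
  rw [mul_inv_cancel, C.v_one] at h
  exact (v6_eq h.symm).symm

theorem sq_mem (h : CZ z) : h * h ∈ K := (C.core _).mp (by rw [map_mul]; exact ext_sq (C.ext h))

theorem comm_mem (a b : CZ z) : ⁅a, b⁆ ∈ K := by
  have e : ⁅a, b⁆ = (a * b) * (a * b) * ((b⁻¹ * a⁻¹ * b) * (b⁻¹ * a⁻¹ * b)) * (b⁻¹ * b⁻¹) := by
    simp only [commutatorElement_def]; group
  rw [e]
  exact mul_mem (mul_mem (C.sq_mem _) (C.sq_mem _)) (C.sq_mem _)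

/-- elements of the extraspecial group with the same image differ by the central involution -/
theorem eq_cases {x y : CZ z} (hx : x ∈ Q) (hy : y ∈ Q) (h : v x = v y) :
    (y : G) = x ∨ (y : G) = z * x := by
  have h0 : v (x⁻¹ * y) = 0 := by
    rw [C.vmul _ (inv_mem hx) _ hy, C.v_inv hx, h]
    exact v6_self _
  rcases (C.vzero _ (mul_mem (inv_mem hx) hy)).mp h0 with e | e
  · exact Or.inl (inv_mul_eq_one.mp e).symm
  · refine Or.inr ((C.st.z_comm (mem_QG hx)).symm.trans ?_).symm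
    have e' : (x : G)⁻¹ * y = z := e
    exact (eq_inv_mul_iff_mul_eq.mp e'.symm)

/-- two elements of the extraspecial group commute exactly when their images are perpendicular -/
theorem comm_iff {p q : CZ z} (hp : p ∈ Q) (hq : q ∈ Q) :
    bf (v p) (v q) = 0 ↔ (p : G) * q = q * p := by
  have hz := C.st.zz
  have hcz : ∀ {a : CZ z}, a ∈ Q → (a : G) * z = z * a := fun ha => C.st.z_comm (mem_QG ha)
  have hval' : ∀ x ∈ Q, (x : G) * x = bif decide (nrm (v x) = 0) then 1 else z := fun x hx => by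
    by_cases h : nrm (v x) = 0
    · rw [decide_eq_true h]; exact (C.vsq x hx).mpr h
    · rw [decide_eq_false h]
      exact (C.st.sq_cases (mem_QG hx)).resolve_left fun e => h ((C.vsq x hx).mp e)
  rcases C.st.comm_cases (mem_QG hq) (mem_QG hp) with hc | hc
  · have hqp : (q : G) * p = p * q := by rw [mul_inv_eq_iff_eq_mul.mp hc]
    refine ⟨fun _ => hqp.symm, fun _ => ?_⟩
    have e : ((p * q : CZ z) : G) * (p * q : CZ z) = ((p : G) * p) * ((q : G) * q) := by
      show (p : G) * q * ((p : G) * q) = _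
      rw [mul_assoc, ← mul_assoc (q : G), hqp]; group
    rw [hval' _ (mul_mem hp hq), hval' p hp, hval' q hq, C.vmul p hp q hq] at e
    rw [bf]
    have hne : (1 : G) ≠ z := fun h => C.st.ne_one h.symm
    rcases LargeFischer.nrm_bool (v p + v q) with a | a <;> rcases LargeFischer.nrm_bool (v p) with b | b <;>
      rcases LargeFischer.nrm_bool (v q) with c | c <;> rw [a, b, c] at e ⊢ <;>
      simp [hz, hne, hne.symm, k4_self] at e ⊢
  · have hqp : (q : G) * p = z * (p * q) := by rw [mul_inv_eq_iff_eq_mul.mp hc, mul_assoc]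
    refine ⟨fun h => ?_, fun h => ?_⟩
    · exfalso
      have e : ((p * q : CZ z) : G) * (p * q : CZ z) = z * (((p : G) * p) * ((q : G) * q)) := by
        show (p : G) * q * ((p : G) * q) = _
        calc (p : G) * q * (p * q) = p * ((q : G) * p) * q := by group
          _ = ((p : G) * z) * (p * q * q) := by rw [hqp]; group
          _ = _ := by rw [hcz hp]; group
      rw [hval' _ (mul_mem hp hq), hval' p hp, hval' q hq, C.vmul p hp q hq] at e
      rw [bf] at h
      have hne : (1 : G) ≠ z := fun h => C.st.ne_one h.symm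
      rcases LargeFischer.nrm_bool (v p + v q) with a | a <;> rcases LargeFischer.nrm_bool (v p) with b | b <;>
        rcases LargeFischer.nrm_bool (v q) with c | c <;> rw [a, b, c] at e h <;>
        simp [hz, hne, hne.symm, k4_self] at e h
    · exfalso
      rw [h] at hqp
      exact C.st.ne_one (mul_eq_right.mp hqp.symm)

theorem conj_same {x y : CZ z} (hx : x ∈ Q) (hy : y ∈ Q) (h : v x = v y) (hne : v x ≠ 0) :
    ∃ w ∈ Q, w * x * w⁻¹ = y := by
  rcases C.eq_cases hx hy h with e | e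
  · exact ⟨1, one_mem _, Subtype.ext (by simp [e])⟩
  · have h1 := mt (C.vzero x hx).mpr hne
    push Not at h1
    obtain ⟨w, hw, hwx⟩ := C.st.exists_move (mem_QG hx) h1.1 h1.2
    obtain ⟨w', hw', rfl⟩ := hw
    exact ⟨w', hw', Subtype.ext (hwx.trans e.symm)⟩

end CX

end CfsgLib.FiTwentyFourType
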