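import Cfsg.Agent.Lib.LargeFischer.SylowGroup
import Cfsg.Agent.Lib.LargeFischer.Linear
import Mathlib.FieldTheory.Finite.GaloisField

/-!
The normaliser of the triple cover of `U₄(3)` among the semilinear maps of the hermitian space: four
cosets over the core, with elementary abelian quotient.
-/

set_option autoImplicit false
set_option maxRecDepth 100000
set_option linter.style.haveILetI false

namespace CfsgLib.FiTwentyFourType

open CfsgLib.HePres (K4)
open CfsgLib.Fi22USix (V6 SU62 el code vec vec_code hval nrm)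
open CfsgLib.USixUFour (mv act coreK stabP InP)
open CfsgLib.LargeFischer (AddPerm KKp oP oF oddF sigF)
open scoped commutatorElement

/-- a map turning the scalar into a given scalar -/
def Turn (a : K4) (f : Equiv.Perm V6) : Prop := ∀ v, f (el 2 • v) = a • f v

theorem el_mul : el 2 * el 2 = el 3 ∧ el 3 * el 3 = el 2 ∧ el 2 * el 3 = 1 ∧ el 3 * el 2 = 1 ∧ el 2 ≠ el 3 := by
  decide +kernel

theorem turn_three {a : K4} {f : Equiv.Perm V6} (h : Turn a f) (v : V6) : f (el 3 • v) = (a * a) • f v := by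
  rw [← el_mul.1, mul_smul, h, h, mul_smul]

theorem turn_unique {f : Equiv.Perm V6} (h : Turn (el 2) f) : ¬ Turn (el 3) f := by
  intro h'
  have e := congrFun ((h (f.symm (LargeFischer.bas 0))).symm.trans (h' _)) 0
  simp [LargeFischer.bas] at e
  exact el_mul.2.2.2.2 e

theorem addPerm_inv {f : Equiv.Perm V6} (hf : AddPerm f) : AddPerm f⁻¹ := fun u w => f.injective (by
  rw [hf]; simp)

/-- the normaliser of the core -/
noncomputable def ExtS : Subgroup (Equiv.Perm V6) where
  carrier := {f | AddPerm f ∧ (∀ v, nrm (f v) = nrm v) ∧ (Turn (el 2) f ∨ Turn (el 3) f) ∧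
    ∀ v, InP 0 (f v) ↔ InP 0 v}
  one_mem' := ⟨fun _ _ => rfl, fun _ => rfl, Or.inl fun _ => rfl, fun _ => Iff.rfl⟩
  mul_mem' := by
    rintro f g ⟨fa, fn, ft, fp⟩ ⟨ga, gn, gt, gp⟩
    refine ⟨LargeFischer.add_mul' fa ga, fun v => (fn _).trans (gn v), ?_, fun v => (fp _).trans (gp v)⟩
    rcases ft with ft | ft <;> rcases gt with gt | gt
    · exact Or.inl fun v => by rw [Equiv.Perm.mul_apply, gt, ft]; rfl
    · exact Or.inr fun v => by rw [Equiv.Perm.mul_apply, gt, turn_three ft, el_mul.1]; rfl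
    · exact Or.inr fun v => by rw [Equiv.Perm.mul_apply, gt, ft]; rfl
    · exact Or.inl fun v => by rw [Equiv.Perm.mul_apply, gt, turn_three ft, el_mul.2.1]; rfl
  inv_mem' := by
    rintro f ⟨fa, fn, ft, fp⟩
    refine ⟨addPerm_inv fa, fun v => ?_, ?_, fun v => ?_⟩
    · conv_rhs => rw [← f.apply_symm_apply v]
      exact (fn _).symm
    · rcases ft with ft | ft
      · exact Or.inl fun v => f.injective (by rw [ft]; simp)
      · exact Or.inr fun v => f.injective (by rw [turn_three ft, el_mul.2.1]; simp)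
    · rw [← fp]; simp

theorem stab_inv {g : SU62} (hg : g ∈ stabP) : act g ∈ ExtS :=
  ⟨fun u w => USixUFour.mv_add g u w, fun v => USixUFour.mv_nrm g v,
    Or.inl fun v => USixUFour.mv_smul g (el 2) v, fun v => hg v⟩

theorem kkp_le_ext : KKp ≤ ExtS := by
  rintro _ ⟨c, hc, rfl⟩
  exact stab_inv (USixUFour.coreK_stab hc)

theorem kkp_turn {f : Equiv.Perm V6} (hf : f ∈ KKp) : Turn (el 2) f := fun v => LargeFischer.kkp_smul hf _ v

theorem oP_ext (o : Fin 3) : oP o ∈ ExtS := by
  have hodd : oP 0 ∈ ExtS := LargeFischer.act_odEl ▸ stab_inv LargeFischer.odEl_mem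
  have hsig : oP 1 ∈ ExtS := ⟨LargeFischer.sig_add, fun v => (LargeFischer.oF_spec 1 v).1,
    Or.inr fun v => by
      show sigF (el 2 • v) = _
      rw [LargeFischer.sig_el, el_mul.1]; rfl, fun v => (LargeFischer.oF_spec 1 v).2⟩
  fin_cases o
  · exact hodd
  · exact hsig
  · have e : oP 2 = oP 1 * oP 0 := Equiv.ext fun v => rfl
    exact e ▸ mul_mem hsig hodd

theorem oP_turn : Turn (el 2) (oP 0) ∧ Turn (el 3) (oP 1) ∧ Turn (el 3) (oP 2) := by
  refine ⟨fun v => rfl, fun v => ?_, fun v => ?_⟩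
  · show sigF (el 2 • v) = _
    rw [LargeFischer.sig_el, el_mul.1]; rfl
  · show sigF (el 2 • oddF v) = _
    rw [LargeFischer.sig_el, el_mul.1]; rfl

theorem oP_two : oP 2 = oP 1 * oP 0 := Equiv.ext fun _ => rfl

theorem oP_invol (o : Fin 3) : oP o * oP o = 1 := LargeFischer.oP_sq o

/-- the linear elements come from the stabiliser of the points -/
theorem exists_stab_of_linear {f : Equiv.Perm V6} (hf : f ∈ ExtS) (ht : Turn (el 2) f) :
    ∃ g ∈ stabP, act g = f := by
  obtain ⟨fa, fn, -, fp⟩ := hf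
  obtain ⟨A, hA, hAh⟩ := LargeFischer.exists_mat f fa ht fn
  obtain ⟨g, hg, hgv⟩ := LargeFischer.exists_stab hAh fun v hv => by rw [← hA]; exact (fp v).mpr hv
  exact ⟨g, hg, Equiv.ext fun v => (hgv v).trans (hA v).symm⟩

theorem linear_cases {f : Equiv.Perm V6} (hf : f ∈ ExtS) (ht : Turn (el 2) f) : f ∈ KKp ∨ oP 0 * f ∈ KKp := by
  obtain ⟨g, hg, rfl⟩ := exists_stab_of_linear hf ht
  rcases LargeFischer.stab_split hg with h | h
  · exact Or.inl ⟨g, h, rfl⟩
  · exact Or.inr ⟨_, h, by rw [map_mul, LargeFischer.act_odEl]⟩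

/-- every element lies in one of four cosets of the core -/
theorem ext_cases {f : Equiv.Perm V6} (hf : f ∈ ExtS) :
    f ∈ KKp ∨ ∃ o : Fin 3, oP o * f ∈ KKp := by
  by_cases h : Turn (el 2) f
  · rcases linear_cases hf h with h' | h'
    · exact Or.inl h'
    · exact Or.inr ⟨0, h'⟩
  · have h3 : Turn (el 3) f := hf.2.2.1.resolve_left h
    have hl : Turn (el 2) (oP 1 * f) := fun v => by
      rw [Equiv.Perm.mul_apply, h3, turn_three oP_turn.2.1, el_mul.2.1]; rfl
    rcases linear_cases (mul_mem (oP_ext 1) hf) hl with h' | h'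
    · exact Or.inr ⟨1, h'⟩
    · refine Or.inr ⟨2, ?_⟩
      rw [← mul_assoc] at h'
      rwa [show oP 2 = oP 0 * oP 1 from Equiv.ext fun v => rfl]

theorem od_not_kkp : oP 0 ∉ KKp := by
  rintro ⟨c, hc, e⟩
  have : c = LargeFischer.odEl := LargeFischer.act_inj (e.trans LargeFischer.act_odEl.symm)
  exact LargeFischer.od_not_core (this ▸ hc)

theorem semi_not_kkp {f : Equiv.Perm V6} (ht : Turn (el 3) f) : f ∉ KKp := fun h =>
  turn_unique (kkp_turn h) ht

theorem oP_not_kkp (o : Fin 3) : oP o ∉ KKp := by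
  fin_cases o
  exacts [od_not_kkp, semi_not_kkp oP_turn.2.1, semi_not_kkp oP_turn.2.2]

/-- some field of order nine -/
theorem exists_nine : ∃ (K : Type) (_ : Field K) (_ : Fintype K), Fintype.card K = 9 := by
  haveI : Fact (Nat.Prime 3) := ⟨Nat.prime_three⟩
  haveI := Fintype.ofFinite (GaloisField 3 2)
  refine ⟨GaloisField 3 2, inferInstance, inferInstance, ?_⟩
  rw [← Nat.card_eq_fintype_card, GaloisField.card 3 2 (by norm_num)]
  norm_num

theorem kkp_comm : ⁅KKp, KKp⁆ = KKp := by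
  obtain ⟨K, _, _, hK⟩ := exists_nine
  exact LargeFischer.kkp_perfect hK

/-- the core is normal -/
theorem kkp_conj {f k : Equiv.Perm V6} (hf : f ∈ ExtS) (hk : k ∈ KKp) : f * k * f⁻¹ ∈ KKp := by
  have hlin : ∀ a ∈ KKp, f * a * f⁻¹ ∈ ExtS ∧ Turn (el 2) (f * a * f⁻¹) := by
    intro a ha
    refine ⟨mul_mem (mul_mem hf (kkp_le_ext ha)) (inv_mem hf), fun v => ?_⟩
    have hfi := (inv_mem hf : f⁻¹ ∈ ExtS).2.2.1
    rcases hf.2.2.1 with ft | ft
    · have hi : f⁻¹ (el 2 • v) = el 2 • f⁻¹ v := f.injective (by rw [ft]; simp)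
      rw [Equiv.Perm.mul_apply, hi, Equiv.Perm.mul_apply, kkp_turn ha, ft]
      rfl
    · have hi : f⁻¹ (el 2 • v) = el 3 • f⁻¹ v := f.injective (by rw [turn_three ft, el_mul.2.1]; simp)
      rw [Equiv.Perm.mul_apply, hi, Equiv.Perm.mul_apply, LargeFischer.kkp_smul ha, turn_three ft, el_mul.2.1]
      rfl
  have key : KKp ≤ KKp.comap (MulAut.conj f).toMonoidHom := by
    conv_lhs => rw [← kkp_comm]
    refine Subgroup.commutator_le.mpr fun a ha b hb => ?_
    show f * ⁅a, b⁆ * f⁻¹ ∈ KKp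
    rw [show f * ⁅a, b⁆ * f⁻¹ = ⁅f * a * f⁻¹, f * b * f⁻¹⁆ by simp only [commutatorElement_def]; group]
    obtain ⟨x, hx, ex⟩ := exists_stab_of_linear (hlin a ha).1 (hlin a ha).2
    obtain ⟨y, hy, ey⟩ := exists_stab_of_linear (hlin b hb).1 (hlin b hb).2
    refine ⟨⁅x, y⁆, ?_, by rw [map_commutatorElement, ex, ey]⟩
    rw [show ⁅x, y⁆ = (x * y) * (x * y) * ((y⁻¹ * x⁻¹ * y) * (y⁻¹ * x⁻¹ * y)) * (y⁻¹ * y⁻¹) by
      simp only [commutatorElement_def]; group]
    exact mul_mem (mul_mem (USixUFour.sq_mem (mul_mem hx hy))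
      (USixUFour.sq_mem (mul_mem (mul_mem (inv_mem hy) (inv_mem hx)) hy))) (USixUFour.sq_mem (inv_mem hy))
  exact key hk

/-- squares fall into the core -/
theorem ext_sq {f : Equiv.Perm V6} (hf : f ∈ ExtS) : f * f ∈ KKp := by
  rcases ext_cases hf with h | ⟨o, h⟩
  · exact mul_mem h h
  · have e : f * f = oP o * (oP o * f) * (oP o)⁻¹ * (oP o * f) := by
      have hinv : (oP o)⁻¹ = oP o := inv_eq_of_mul_eq_one_right (oP_invol o)
      rw [hinv, show oP o * (oP o * f) * oP o * (oP o * f) = (oP o * oP o) * f * (oP o * oP o) * f by group,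
        oP_invol, one_mul, mul_one]
    exact e ▸ mul_mem (kkp_conj (oP_ext o) h) h

/-- the elements with the same class differ by the core -/
theorem same_coset {o : Fin 3} {f g : Equiv.Perm V6} (hf : oP o * f ∈ KKp) (hg : oP o * g ∈ KKp) : f⁻¹ * g ∈ KKp := by
  have := mul_mem (inv_mem hf) hg
  rwa [show (oP o * f)⁻¹ * (oP o * g) = f⁻¹ * g by group] at this

theorem cosets_ne {o p : Fin 3} {f : Equiv.Perm V6} (ho : oP o * f ∈ KKp) (hp : oP p * f ∈ KKp) : o = p := by
  have h := mul_mem ho (inv_mem hp)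
  rw [show oP o * f * (oP p * f)⁻¹ = oP o * oP p by
    rw [mul_inv_rev, inv_eq_of_mul_eq_one_right (oP_invol p)]; group] at h
  by_contra hne
  have e01 : oP 0 * oP 1 = oP 2 := Equiv.ext fun v => rfl
  have e10 : oP 1 * oP 0 = oP 2 := oP_two.symm
  have key : oP o * oP p = oP (3 - o - p) ∨ oP p * oP o = oP (3 - o - p) := by
    fin_cases o <;> fin_cases p <;> first
      | exact absurd rfl hne
      | exact Or.inl e01
      | exact Or.inl e10
      | exact Or.inl (by show oP 0 * oP 2 = oP 1; rw [← e01, ← mul_assoc, oP_invol, one_mul])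
      | exact Or.inr (by show oP 0 * oP 2 = oP 1; rw [← e01, ← mul_assoc, oP_invol, one_mul])
      | exact Or.inl (by show oP 1 * oP 2 = oP 0; rw [← e10, ← mul_assoc, oP_invol, one_mul])
      | exact Or.inr (by show oP 1 * oP 2 = oP 0; rw [← e10, ← mul_assoc, oP_invol, one_mul])
  refine oP_not_kkp (3 - o - p) ?_
  rcases key with e | e
  · exact e ▸ h
  · have := inv_mem h
    rw [mul_inv_rev, inv_eq_of_mul_eq_one_right (oP_invol o), inv_eq_of_mul_eq_one_right (oP_invol p)] at this
    exact e ▸ this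

theorem ext_card : Nat.card ExtS = 2 ^ 9 * 76545 := by
  classical
  let sel : Option (Fin 3) → Equiv.Perm V6 := fun o => o.elim 1 oP
  have hsel : ∀ o, sel o ∈ ExtS := fun o => by cases o <;> [exact one_mem _; exact oP_ext _]
  let F : Option (Fin 3) × KKp → ExtS := fun p => ⟨sel p.1 * p.2, mul_mem (hsel p.1) (kkp_le_ext p.2.2)⟩
  have hF : Function.Bijective F := by
    constructor
    · rintro ⟨o, a⟩ ⟨p, b⟩ e
      have e' : sel o * (a : Equiv.Perm V6) = sel p * b := congrArg Subtype.val e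
      have ho : o = p := by
        cases o <;> cases p <;> simp only [sel, Option.elim, one_mul] at e'
        · rfl
        · rename_i q
          exact absurd (show oP q ∈ KKp by
            rw [← mul_inv_cancel_right (oP q) (b : Equiv.Perm V6), ← e']; exact mul_mem a.2 (inv_mem b.2))
            (oP_not_kkp q)
        · rename_i q
          exact absurd (show oP q ∈ KKp by
            rw [← mul_inv_cancel_right (oP q) (a : Equiv.Perm V6), e']; exact mul_mem b.2 (inv_mem a.2))
            (oP_not_kkp q)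
        · rename_i q r
          refine congrArg some (cosets_ne (f := oP q * (a : Equiv.Perm V6)) ?_ ?_)
          · rw [← mul_assoc, oP_invol, one_mul]; exact a.2
          · rw [e', ← mul_assoc, oP_invol, one_mul]; exact b.2
      subst ho
      rw [Subtype.ext (mul_left_cancel e')]
    · rintro ⟨f, hf⟩
      rcases ext_cases hf with h | ⟨o, h⟩
      · exact ⟨(none, ⟨f, h⟩), Subtype.ext (one_mul f)⟩
      · exact ⟨(some o, ⟨_, h⟩), Subtype.ext (by show oP o * (oP o * f) = f; rw [← mul_assoc, oP_invol, one_mul])⟩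
  rw [← Nat.card_congr (Equiv.ofBijective F hF), Nat.card_prod, LargeFischer.kkp_card,
    Nat.card_eq_fintype_card, Fintype.card_option, Fintype.card_fin]
  norm_num

end CfsgLib.FiTwentyFourType
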