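import Cfsg.Agent.Lib.FiTwentyFourType.ChkDefs

/-!
Soundness of the tests on spans of small lists of codes.
-/

set_option autoImplicit false

namespace CfsgLib.FiTwentyFourType

open CfsgLib.CosetEnum (strict strict_eq)

theorem memB_iff {v : ℕ} {l : List ℕ} : memB v l = true ↔ v ∈ l := by
  simp [memB, List.any_eq_true]

theorem inAll_iff {S l : List ℕ} : inAll S l = true ↔ ∀ v ∈ l, v ∈ S := by
  simp [inAll, List.all_eq_true, memB_iff]

/-- a list of codes forming a group -/
def Grp (G : List ℕ) : Prop := 0 ∈ G ∧ G.Nodup ∧ ∀ a ∈ G, ∀ b ∈ G, a ^^^ b ∈ G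

theorem grp_zero : Grp [0] := ⟨List.mem_singleton_self 0, List.nodup_singleton 0, by simp⟩

theorem grow_eq (G l : List ℕ) :
    grow G l = G ++ G.map fun s => s ^^^ (l.filter fun v => !memB v G).headD 0 := by
  rw [grow, strict_eq]

theorem subset_grow {G l : List ℕ} {a : ℕ} (h : a ∈ G) : a ∈ grow G l := by
  rw [grow_eq]; exact List.mem_append_left _ h

theorem inAll_grow {G l : List ℕ} (h : inAll G l = true) : inAll (grow G l) l = true :=
  inAll_iff.mpr fun v hv => subset_grow (inAll_iff.mp h v hv)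

/-- adjoining a vector outside doubles the group -/
theorem grow_step {G l : List ℕ} {S : Finset ℕ} (hG : Grp G) (hS : ∀ a ∈ S, ∀ b ∈ S, a ^^^ b ∈ S)
    (hGS : ∀ a ∈ G, a ∈ S) (hl : ∀ a ∈ l, a ∈ S) (hn : inAll G l = false) :
    Grp (grow G l) ∧ (∀ a ∈ grow G l, a ∈ S) ∧ (grow G l).length = 2 * G.length := by
  obtain ⟨w, hw, hwG⟩ : ∃ w ∈ l, w ∉ G := by
    by_contra h
    push Not at h
    rw [inAll_iff.mpr h] at hn
    exact Bool.noConfusion hn
  rw [grow_eq]
  set p := (l.filter fun v => !memB v G).headD 0 with hp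
  obtain ⟨hpl, hpG⟩ : p ∈ l ∧ p ∉ G := by
    have hne : (l.filter fun v => !memB v G) ≠ [] := fun e => by
      have : w ∈ (l.filter fun v => !memB v G) := by
        rw [List.mem_filter]
        refine ⟨hw, ?_⟩
        rw [Bool.not_eq_true', ← Bool.not_eq_true, memB_iff]
        exact hwG
      rw [e] at this
      exact List.not_mem_nil this
    have hm : p ∈ (l.filter fun v => !memB v G) := by
      rw [hp, List.headD_eq_head?_getD, List.head?_eq_some_head hne]
      exact List.head_mem hne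
    rw [List.mem_filter, Bool.not_eq_true', ← Bool.not_eq_true, memB_iff] at hm
    exact hm
  obtain ⟨h0, hnd, hcl⟩ := hG
  refine ⟨⟨List.mem_append_left _ h0, ?_, ?_⟩, ?_, by rw [List.length_append, List.length_map]; ring⟩
  · refine List.Nodup.append hnd (hnd.map fun a b e => Nat.xor_left_inj.mp e) ?_
    intro a ha ha'
    obtain ⟨b, hb, rfl⟩ := List.mem_map.mp ha'
    refine hpG ?_
    have := hcl b hb _ ha
    rwa [← Nat.xor_assoc, Nat.xor_self, Nat.zero_xor] at this
  · intro a ha b hb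
    rw [List.mem_append, List.mem_map] at ha hb ⊢
    rcases ha with ha | ⟨a, ha, rfl⟩ <;> rcases hb with hb | ⟨b, hb, rfl⟩
    · exact Or.inl (hcl a ha b hb)
    · exact Or.inr ⟨a ^^^ b, hcl a ha b hb, Nat.xor_assoc _ _ _⟩
    · exact Or.inr ⟨a ^^^ b, hcl a ha b hb, by rw [Nat.xor_assoc, Nat.xor_comm b p, Nat.xor_assoc]⟩
    · refine Or.inl ?_
      rw [Nat.xor_comm b p, Nat.xor_assoc, ← Nat.xor_assoc p p b, Nat.xor_self, Nat.zero_xor]
      exact hcl a ha b hb
  · intro a ha
    rw [List.mem_append, List.mem_map] at ha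
    rcases ha with ha | ⟨a, ha, rfl⟩
    · exact hGS a ha
    · exact hS _ (hGS a ha) _ (hl p hpl)

theorem full_of_length {G l : List ℕ} {S : Finset ℕ} (hG : Grp G) (hGS : ∀ a ∈ G, a ∈ S)
    (hl : ∀ a ∈ l, a ∈ S) (hc : S.card ≤ G.length) : G.toFinset = S ∧ inAll G l = true := by
  have e : G.toFinset = S := by
    refine Finset.eq_of_subset_of_card_le (fun a ha => hGS a (List.mem_toFinset.mp ha)) ?_
    rwa [List.toFinset_card_of_nodup hG.2.1]
  exact ⟨e, inAll_iff.mpr fun v hv => List.mem_toFinset.mp (e ▸ hl v hv)⟩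

/-- a closed set of at most eight codes passes -/
theorem small8_of {l : List ℕ} {S : Finset ℕ} (h0 : 0 ∈ S) (hS : ∀ a ∈ S, ∀ b ∈ S, a ^^^ b ∈ S)
    (hc : S.card ≤ 8) (hl : ∀ a ∈ l, a ∈ S) : small8 l = true := by
  unfold small8
  have h0' : ∀ a ∈ [0], a ∈ S := by simp [h0]
  cases e0 : inAll [0] l with
  | true => exact inAll_grow (inAll_grow (inAll_grow e0))
  | false =>
    obtain ⟨g1, s1, l1⟩ := grow_step grp_zero hS h0' hl e0
    cases e1 : inAll (grow [0] l) l with
    | true => exact inAll_grow (inAll_grow e1)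
    | false =>
      obtain ⟨g2, s2, l2⟩ := grow_step g1 hS s1 hl e1
      cases e2 : inAll (grow (grow [0] l) l) l with
      | true => exact inAll_grow e2
      | false =>
        obtain ⟨g3, s3, l3⟩ := grow_step g2 hS s2 hl e2
        refine (full_of_length g3 s3 hl ?_).2
        rw [l3, l2, l1, List.length_singleton]
        omega

theorem small2_of {l : List ℕ} {S : Finset ℕ} (h0 : 0 ∈ S) (hS : ∀ a ∈ S, ∀ b ∈ S, a ^^^ b ∈ S)
    (hc : S.card ≤ 2) (hl : ∀ a ∈ l, a ∈ S) : small2 l = true := by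
  unfold small2
  cases e0 : inAll [0] l with
  | true => exact inAll_grow e0
  | false =>
    obtain ⟨g1, s1, l1⟩ := grow_step grp_zero hS (by simp [h0]) hl e0
    refine (full_of_length g1 s1 hl ?_).2
    rw [l1, List.length_singleton]
    omega

/-- outside the pairs a closed set of four is the span, and lies in any good group of four holding the list -/
theorem four_of {l : List ℕ} {S : Finset ℕ} (h0 : 0 ∈ S) (hS : ∀ a ∈ S, ∀ b ∈ S, a ^^^ b ∈ S)
    (hc : S.card ≤ 4) (hl : ∀ a ∈ l, a ∈ S) (h2 : small2 l = false) :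
    small4 l = true ∧ ∀ K : List ℕ, keyOK K = true → inAll K l = true → K.toFinset = S := by
  have e0 : inAll [0] l = false := by
    cases e : inAll [0] l with
    | false => rfl
    | true =>
      have h := inAll_grow e
      rw [show inAll (grow [0] l) l = small2 l from rfl, h2] at h
      exact Bool.noConfusion h
  obtain ⟨g1, s1, l1⟩ := grow_step grp_zero hS (by simp [h0]) hl e0
  obtain ⟨g2, s2, l2⟩ := grow_step g1 hS s1 hl h2
  have hlen : (grow (grow [0] l) l).length = 4 := by rw [l2, l1]; rfl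
  obtain ⟨heq, hall⟩ := full_of_length g2 s2 hl (by omega)
  refine ⟨hall, fun K hK hKl => ?_⟩
  simp only [keyOK, Bool.and_eq_true] at hK
  obtain ⟨⟨hlK', hK0'⟩, hK3'⟩ := hK
  have hlK : K.length = 4 := Nat.eq_of_beq_eq_true hlK'
  have hK0 : K.getD 0 1 = 0 := Nat.eq_of_beq_eq_true hK0'
  have hK3 : K.getD 3 0 = K.getD 1 0 ^^^ K.getD 2 0 := Nat.eq_of_beq_eq_true hK3'
  clear hlK' hK0' hK3'
  match K, hlK with
  | [x, a, b, c], _ =>
    simp only [List.getD_cons_zero, List.getD_cons_succ] at hK0 hK3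
    subst hK0; subst hK3
    have hcl : ∀ u ∈ ([0, a, b, a ^^^ b] : List ℕ), ∀ w ∈ ([0, a, b, a ^^^ b] : List ℕ),
        u ^^^ w ∈ ([0, a, b, a ^^^ b] : List ℕ) := by
      intro u hu w hw
      simp only [List.mem_cons, List.not_mem_nil, or_false] at hu hw ⊢
      have e1 : b ^^^ a = a ^^^ b := Nat.xor_comm b a
      have e2 : a ^^^ (a ^^^ b) = b := by rw [← Nat.xor_assoc, Nat.xor_self, Nat.zero_xor]
      have e3 : b ^^^ (a ^^^ b) = a := by rw [Nat.xor_comm a b, ← Nat.xor_assoc, Nat.xor_self, Nat.zero_xor]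
      have e4 : a ^^^ b ^^^ a = b := by rw [Nat.xor_comm (a ^^^ b) a, e2]
      have e5 : a ^^^ b ^^^ b = a := by rw [Nat.xor_assoc, Nat.xor_self, Nat.xor_zero]
      rcases hu with rfl | rfl | rfl | rfl <;> rcases hw with rfl | rfl | rfl | rfl <;>
        simp only [Nat.xor_self, Nat.zero_xor, Nat.xor_zero, e1, e2, e3, e4, e5, true_or, or_true]
    have hK : ∀ v ∈ l, v ∈ ([0, a, b, a ^^^ b] : List ℕ) := inAll_iff.mp hKl
    have hG : ∀ v ∈ grow (grow [0] l) l, v ∈ ([0, a, b, a ^^^ b] : List ℕ) := by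
      have step : ∀ G : List ℕ, (∀ v ∈ G, v ∈ ([0, a, b, a ^^^ b] : List ℕ)) →
          ∀ v ∈ grow G l, v ∈ ([0, a, b, a ^^^ b] : List ℕ) := by
        intro G hG v hv
        rw [grow_eq, List.mem_append, List.mem_map] at hv
        rcases hv with hv | ⟨s, hs, rfl⟩
        · exact hG v hv
        · refine hcl _ (hG s hs) _ ?_
          by_cases hne : (l.filter fun v => !memB v G) = []
          · rw [hne]; exact List.mem_cons_self ..
          · rw [List.headD_eq_head?_getD, List.head?_eq_some_head hne]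
            exact hK _ (List.mem_filter.mp (List.head_mem hne)).1
      exact step _ (step _ (by simp))
    symm
    rw [← heq]
    refine Finset.eq_of_subset_of_card_le (fun v hv => List.mem_toFinset.mpr (hG v (List.mem_toFinset.mp hv))) ?_
    rw [List.toFinset_card_of_nodup g2.2.1, hlen]
    exact List.toFinset_card_le _

end CfsgLib.FiTwentyFourType
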