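import Cfsg.Agent.Lib.FiTwentyFourType.Syl
import Cfsg.Agent.Lib.FiTwentyFourType.Span

/-!
Involutions of the core and semilinear involutions: their fixed spaces, and bounds on 2-groups that move
the fixed space only a little.
-/

set_option autoImplicit false
set_option maxRecDepth 100000
set_option linter.style.haveILetI false

namespace CfsgLib.FiTwentyFourType

open CfsgLib.CosetEnum (strict strict_eq)
open CfsgLib.HePres (K4)
open CfsgLib.Fi22USix (V6 el code vec vec_code nrm hval)
open CfsgLib.LargeFischer (AddPerm colsOf bMap bComp bId KKp code_xor)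

/-- the polar form of the norm -/
def bf (u v : V6) : K4 := nrm (u + v) + nrm u + nrm v

theorem k4_self : ∀ a : K4, a + a = 0 := by decide +kernel

theorem v6_self (a : V6) : a + a = 0 := funext fun i => k4_self (a i)

theorem v6_sub {a b c : V6} (h : a + b = c) : a = c + b := by
  rw [← h, add_assoc, v6_self, add_zero]

theorem v6_eq {a b : V6} (h : a + b = 0) : a = b := by rw [v6_sub h, zero_add]

theorem bf_eq (u v : V6) : bf u v = hval u v + hval u v * hval u v := by
  rw [bf, LargeFischer.nrm_add]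
  have h2 : (2 : K4) = 0 := HePres.K4.two_eq_zero
  linear_combination (nrm u + nrm v) * h2

theorem bf_comm (u v : V6) : bf u v = bf v u := by rw [bf, bf, add_comm u v]; ring

theorem bf_add_right (u v w : V6) : bf u (v + w) = bf u v + bf u w := by
  have h2 : (2 : K4) = 0 := HePres.K4.two_eq_zero
  rw [bf_eq, bf_eq, bf_eq, (LargeFischer.hval_add v w u).2]
  linear_combination (hval u v * hval u w) * h2

theorem bf_add_left (u v w : V6) : bf (u + v) w = bf u w + bf v w := by
  rw [bf_comm, bf_add_right, bf_comm w u, bf_comm w v]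

theorem bf_zero (u : V6) : bf u 0 = 0 := by
  have h := bf_add_right u 0 0
  rw [add_zero, k4_self] at h
  exact h

theorem bf_self (u : V6) : bf u u = 0 := by
  rw [bf, v6_self, show nrm (0 : V6) = 0 by decide +kernel, zero_add, k4_self]

theorem bf_values (u v : V6) : bf u v = 0 ∨ bf u v = 1 := by
  rcases LargeFischer.nrm_bool (u + v) with a | a <;> rcases LargeFischer.nrm_bool u with b | b <;>
    rcases LargeFischer.nrm_bool v with c | c <;> rw [bf, a, b, c] <;> decide +kernel

theorem bf_map {f : Equiv.Perm V6} (hf : f ∈ ExtS) (u v : V6) : bf (f u) (f v) = bf u v := by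
  rw [bf, bf, ← hf.1, hf.2.1, hf.2.1, hf.2.1]

theorem add_zero_perm {f : Equiv.Perm V6} (hf : f ∈ ExtS) : f 0 = 0 := by
  have h := hf.1 0 0
  rw [add_zero, v6_self] at h
  exact h

/-- the image of the difference is perpendicular to the fixed vectors -/
theorem diff_perp {f : Equiv.Perm V6} (hf : f ∈ ExtS) {v : V6} (hv : f v = v) (x : V6) :
    bf (f x + x) v = 0 := by
  rw [bf_add_left]
  conv_lhs => arg 1; rw [← hv, bf_map hf]
  exact k4_self _

/-- a closed set -/
def Closed (S : Finset V6) : Prop := (0 : V6) ∈ S ∧ ∀ a ∈ S, ∀ b ∈ S, a + b ∈ S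

/-- perpendicular to all fixed vectors -/
def PerpFix (f : Equiv.Perm V6) (w : V6) : Prop := ∀ v, f v = v → bf w v = 0

theorem pb_spec (u v : V6) : pb (code u) (code v) = false ↔ bf u v = 0 := by
  have hn : ∀ w : V6, nrm w = bif nb (code w) then 1 else 0 := fun w => by
    have h := of_decide_eq_true (USixUFour.all_vec nb_ok w)
    rwa [vec_code] at h
  rw [bf, hn, hn, hn, code_xor, pb]
  cases nb (code u ^^^ code v) <;> cases nb (code u) <;> cases nb (code v) <;> decide +kernel

theorem code_inj {u v : V6} (h : code u = code v) : u = v := by rw [← vec_code u, h, vec_code]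

theorem code_of_lt {n : ℕ} (h : n < 4096) : code (vec n) = n := USixUFour.code_vec ⟨n, h⟩

theorem code_zero : code (0 : V6) = 0 := by decide +kernel

theorem turnC_of {f : Equiv.Perm V6} (hf : f ∈ ExtS) {a : ℕ} (h : Turn (el a) f) :
    turnC a (colsOf f) = true := by
  rw [turnC, List.all_eq_true]
  intro i hi
  rw [← LargeFischer.cols_apply (ext_add hf), h]
  have e : (colsOf f).getD i 0 = code (f (vec (2 ^ i))) := by
    rw [colsOf, List.getD_eq_getElem _ _ (by simpa using List.mem_range.mp hi), List.getElem_map, List.getElem_range]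
  rw [e, vec_code]
  exact Nat.beq_refl _

theorem turnC_three {f : Equiv.Perm V6} (hf : f ∈ ExtS) (h : Turn (el 2) f) : turnC 3 (colsOf f) = false := by
  rw [← Bool.not_eq_true, turnC, List.all_eq_true]
  intro hall
  have h0 := hall 0 (List.mem_range.mpr (by norm_num))
  rw [← LargeFischer.cols_apply (ext_add hf), h] at h0
  have e : (colsOf f).getD 0 0 = code (f (vec (2 ^ 0))) := by
    rw [colsOf, List.getD_eq_getElem _ _ (by simp), List.getElem_map, List.getElem_range]
  rw [e, vec_code] at h0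
  have h1 := code_inj (Nat.eq_of_beq_eq_true h0)
  obtain ⟨i, hi⟩ : ∃ i, f (vec (2 ^ 0)) i ≠ 0 := by
    by_contra hall0
    push Not at hall0
    have : vec (2 ^ 0) = 0 := f.injective ((funext hall0).trans (add_zero_perm hf).symm)
    revert this
    decide +kernel
  exact el_mul.2.2.2.2 (mul_right_cancel₀ hi (congrFun h1 i))

theorem turn_conj {f g : Equiv.Perm V6} (hg : g ∈ ExtS) (hf : Turn (el 2) f) : Turn (el 2) (g * f * g⁻¹) := by
  intro v
  simp only [Equiv.Perm.mul_apply]
  rcases hg.2.2.1 with ft | ft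
  · have hi : g⁻¹ (el 2 • v) = el 2 • g⁻¹ v := g.injective (by rw [ft]; simp)
    rw [hi, hf, ft]
  · have hi : g⁻¹ (el 2 • v) = el 3 • g⁻¹ v := g.injective (by rw [turn_three ft, el_mul.2.1]; simp)
    rw [hi, turn_three hf, el_mul.1, turn_three ft, el_mul.2.1]

theorem el512_ext {f : Equiv.Perm V6} {i : ℕ} (hf : f ∈ P512) (h : colsOf f = el512 i) {g : Equiv.Perm V6}
    (hg : g ∈ P512) (h' : colsOf g = el512 i) : f = g :=
  LargeFischer.cols_inj (ext_add (p512_le hf)) (ext_add (p512_le hg)) (h.trans h'.symm)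

theorem sylP_of_kkp {f : Equiv.Perm V6} (hf : f ∈ P512) (hk : f ∈ KKp) : f ∈ LargeFischer.sylP := by
  refine hf.resolve_right fun h => od_not_kkp ?_
  have hdk : dEl ∈ Sh2 := by
    have h1 := mul_mem (sylP_sh2 h) (inv_mem (Or.inl hk : f ∈ Sh2))
    rwa [mul_inv_cancel_right] at h1
  have hx : LargeFischer.xGen 1 ∈ Sh2 := Or.inl (LargeFischer.xGen_mem 1).1
  have h0 : LargeFischer.oP 0 ∈ Sh2 := by
    have h2 := mul_mem (mul_mem (inv_mem (mul_mem hx hx)) hdk) (inv_mem hx)
    rwa [dEl, show (LargeFischer.xGen 1 * LargeFischer.xGen 1)⁻¹ *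
      (LargeFischer.xGen 1 * (LargeFischer.xGen 1 * (LargeFischer.oP 0 * LargeFischer.xGen 1))) *
      (LargeFischer.xGen 1)⁻¹ = LargeFischer.oP 0 by group] at h2
  rcases h0 with h0 | h0
  · exact h0
  · exfalso
    have := cosets_ne (o := (2 : Fin 3)) (p := (0 : Fin 3)) (f := LargeFischer.oP 0) h0
      (by rw [oP_invol]; exact one_mem _)
    exact absurd this (by decide)

/-- an involution of the core or a semilinear one is conjugate to a representative -/
theorem exists_rep {X : Subgroup (Equiv.Perm V6)} (hX : X ≤ ExtS) (h2 : IsPGroup 2 X) {f : Equiv.Perm V6}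
    (hfX : f ∈ X) (hsq : f * f = 1) (hne : f ≠ 1) (hty : f ∈ KKp ∨ Turn (el 3) f) :
    ∃ g ∈ ExtS, ∃ k : ℕ, k < 20 ∧ (f ∈ KKp → k < 7) ∧ (Turn (el 3) f → 7 ≤ k) ∧
      colsOf (g * f * g⁻¹) = repC k ∧ ∀ x ∈ X, g * x * g⁻¹ ∈ P512 := by
  obtain ⟨g, hg, hgX⟩ := exists_conj hX h2
  have hfP := hgX f hfX
  obtain ⟨i, hi, ec, hisyl⟩ := p512_listed hfP
  have hfE := p512_le hfP
  have hsq' : bComp (el512 i) (el512 i) = bId := by
    rw [← ec, ← LargeFischer.cols_mul (ext_add hfE), show g * f * g⁻¹ * (g * f * g⁻¹) = g * (f * f) * g⁻¹ by group,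
      hsq, mul_one, mul_inv_cancel, LargeFischer.cols_one]
  have hne' : el512 i ≠ bId := fun e => hne (by
    have : g * f * g⁻¹ = 1 := LargeFischer.cols_inj (ext_add hfE) (ext_add (one_mem ExtS))
      (by rw [ec, e, LargeFischer.cols_one])
    exact conj_eq_one_iff.mp this)
  have hcase : (g * f * g⁻¹ ∈ KKp ∧ f ∈ KKp) ∨ (Turn (el 3) (g * f * g⁻¹) ∧ Turn (el 3) f) := by
    rcases hty with h | h
    · exact Or.inl ⟨kkp_conj hg h, h⟩
    · refine Or.inr ⟨hfE.2.2.1.resolve_left fun hl => ?_, h⟩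
      have hl' := turn_conj (inv_mem hg) hl
      rw [show g⁻¹ * (g * f * g⁻¹) * g⁻¹⁻¹ = f by group] at hl'
      exact turn_unique hl' h
  have hcond : (decide (bComp (el512 i) (el512 i) = bId) && !decide (el512 i = bId) &&
      ((Nat.blt i 256 && turnC 2 (el512 i)) || turnC 3 (el512 i))) = true := by
    simp only [hsq', hne', decide_true, decide_false, Bool.not_false, Bool.true_and, Bool.or_eq_true,
      Bool.and_eq_true]
    rcases hcase with ⟨h, -⟩ | ⟨h, -⟩
    · exact Or.inl ⟨Nat.blt_eq.mpr (hisyl (sylP_of_kkp hfP h)), ec ▸ turnC_of hfE (kkp_turn h)⟩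
    · exact Or.inr (ec ▸ turnC_of hfE h)
  have hw := List.all_eq_true.mp (List.all_eq_true.mp wit_ok (i / 16) (List.mem_range.mpr (by omega)))
    (i % 16) (List.mem_range.mpr (Nat.mod_lt _ (by norm_num)))
  rw [Nat.div_add_mod, witOK, hcond] at hw
  simp only [cond_true, Bool.and_eq_true, Nat.blt_eq, decide_eq_true_eq] at hw
  obtain ⟨⟨⟨⟨-, ha⟩, hk⟩, hkind⟩, hcomp⟩ := hw
  generalize hwd : witList.getD ((witPos.getD (i / 16) []).getD (i % 16) 0) (0, 0, 0) = w at ha hk hkind hcomp
  obtain ⟨A, hA, eA⟩ := p512_onto ha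
  have hr : repIdx.getD w.2.1 0 < 512 := by
    have h1 : w.2.1 < repIdx.length := by rw [rep_ok.1]; exact hk
    rw [List.getD_eq_getElem _ _ h1]
    exact Nat.blt_eq.mp (List.all_eq_true.mp rep_ok.2.1 _ (List.getElem_mem h1))
  obtain ⟨R, hR, eR⟩ := p512_onto hr
  have heq : A * R = g * f * g⁻¹ * A := by
    refine LargeFischer.cols_inj (ext_add (p512_le (mul_mem hA hR))) (ext_add (p512_le (mul_mem hfP hA))) ?_
    rw [LargeFischer.cols_mul (ext_add (p512_le hA)), LargeFischer.cols_mul (ext_add hfE), eA, eR, ec]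
    exact hcomp
  have hconj : A⁻¹ * g * f * (A⁻¹ * g)⁻¹ = R := by
    rw [show A⁻¹ * g * f * (A⁻¹ * g)⁻¹ = A⁻¹ * (g * f * g⁻¹ * A) by group, ← heq, inv_mul_cancel_left]
  refine ⟨A⁻¹ * g, mul_mem (inv_mem (p512_le hA)) hg, w.2.1, hk, ?_, ?_, by rw [hconj]; exact eR, fun x hx => ?_⟩
  · intro hfk
    rw [← ec, turnC_three hfE (kkp_turn (kkp_conj hg hfk))] at hkind
    exact Nat.blt_eq.mp hkind
  · intro hfs
    rcases hcase with ⟨-, h⟩ | ⟨h, -⟩
    · exact absurd h (semi_not_kkp hfs)
    rw [← ec, turnC_of hfE h] at hkind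
    exact Nat.ble_eq.mp hkind
  · rw [show A⁻¹ * g * x * (A⁻¹ * g)⁻¹ = A⁻¹ * (g * x * g⁻¹) * A by group]
    exact mul_mem (mul_mem (inv_mem hA) (hgX x hx)) hA

theorem countP_fin (p : ℕ → Bool) (n : ℕ) : Nat.card {i : Fin n // p i = true} = (List.range n).countP p := by
  rw [List.countP_eq_length_filter, ← List.toFinset_card_of_nodup (List.nodup_range.filter _),
    ← Nat.card_eq_finsetCard]
  exact Nat.card_congr
    { toFun := fun i => ⟨i.1.1, List.mem_toFinset.mpr (List.mem_filter.mpr ⟨List.mem_range.mpr i.1.2, i.2⟩)⟩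
      invFun := fun i => ⟨⟨i.1, List.mem_range.mp (List.mem_filter.mp (List.mem_toFinset.mp i.2)).1⟩,
        (List.mem_filter.mp (List.mem_toFinset.mp i.2)).2⟩
      left_inv := fun i => rfl
      right_inv := fun i => rfl }

theorem el512_map : allEls = (List.range 512).map el512 := by
  refine List.ext_getElem (by rw [List.length_map, List.length_range]; exact rep_ok.2.2) fun i h1 h2 => ?_
  rw [List.getElem_map, List.getElem_range, el512, List.getD_eq_getElem _ _ h1]

/-- a conjugated 2-group whose elements pass a test is counted -/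
theorem card_le_count {X : Subgroup (Equiv.Perm V6)} (g : Equiv.Perm V6) (hgX : ∀ x ∈ X, g * x * g⁻¹ ∈ P512)
    (test : ℕ → Bool) (hp : ∀ x ∈ X, ∀ i, i < 512 → colsOf (g * x * g⁻¹) = el512 i → test i = true) :
    Nat.card X ≤ (List.range 512).countP test := by
  rw [← countP_fin]
  choose idx hidx hcol _ using fun x : X => p512_listed (hgX x x.2)
  refine Nat.card_le_card_of_injective
    (fun x => (⟨⟨idx x, hidx x⟩, hp x x.2 _ (hidx x) (hcol x)⟩ : {i : Fin 512 // test i = true})) fun x y e => ?_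
  have e' : idx x = idx y := congrArg (fun u : {i : Fin 512 // test i = true} => (u.1 : ℕ)) e
  have h1 : g * (x : Equiv.Perm V6) * g⁻¹ = g * y * g⁻¹ :=
    el512_ext (hgX x x.2) (hcol x) (hgX y y.2) (by rw [e']; exact hcol y)
  exact Subtype.ext (mul_left_cancel (mul_right_cancel h1))

/-- the fixed space of a conjugate of a representative -/
theorem rep_fix {f g : Equiv.Perm V6} (hg : g ∈ ExtS) (hf : f ∈ ExtS) {k fx pp : ℕ}
    (hk : colsOf (g * f * g⁻¹) = repC k) (h : fixOK k fx pp = true) :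
    Nat.card {v : V6 // f v = v} = fx ∧ Nat.card {w : V6 // PerpFix f w} ≤ pp ∧
      ∀ n ∈ fixOf k, n < 4096 ∧ f (g⁻¹ (vec n)) = g⁻¹ (vec n) := by
  simp only [fixOK, Bool.and_eq_true, List.all_eq_true] at h
  obtain ⟨⟨hF, hc⟩, hp⟩ := h
  set R := g * f * g⁻¹ with hR
  have hRE : R ∈ ExtS := mul_mem (mul_mem hg hf) (inv_mem hg)
  have happ : ∀ v, code (R v) = bMap (repC k) (code v) := fun v => by
    rw [LargeFischer.cols_apply (ext_add hRE), hk]
  have hRv : ∀ v, R (g v) = g v ↔ f v = v := fun v => by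
    rw [hR, Equiv.Perm.mul_apply, Equiv.Perm.mul_apply, Equiv.Perm.coe_inv, Equiv.symm_apply_apply]
    exact g.injective.eq_iff
  have hlist : ∀ n ∈ fixOf k, n < 4096 ∧ f (g⁻¹ (vec n)) = g⁻¹ (vec n) := by
    intro n hn
    obtain ⟨h1, h2⟩ := hF n hn
    rw [Nat.blt_eq] at h1
    refine ⟨h1, (hRv _).mp ?_⟩
    rw [Equiv.Perm.coe_inv, Equiv.apply_symm_apply]
    refine code_inj ?_
    rw [happ, code_of_lt h1]
    exact Nat.eq_of_beq_eq_true h2
  refine ⟨?_, ?_, hlist⟩
  · rw [← Nat.eq_of_beq_eq_true hc, ← USixUFour.count_vec]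
    refine Nat.card_congr (Equiv.subtypeEquiv g fun v => ?_)
    constructor
    · intro h1
      show Nat.beq _ _ = true
      rw [← happ, (hRv v).mpr h1]; exact Nat.beq_refl _
    · intro h1
      refine (hRv v).mp (code_inj ?_)
      rw [happ]; exact Nat.eq_of_beq_eq_true h1
  · rw [← Nat.eq_of_beq_eq_true hp, ← USixUFour.count_vec]
    refine Nat.card_le_card_of_injective (fun w => ⟨g w.1, ?_⟩) fun a b e => Subtype.ext (g.injective (congrArg Subtype.val e))
    rw [List.all_eq_true]
    intro n hn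
    obtain ⟨h1, h2⟩ := hlist n hn
    rw [Bool.not_eq_true', ← code_of_lt h1, pb_spec]
    have := w.2 _ h2
    rw [← bf_map hg] at this
    simpa using this

/-- the perpendicular of the fixed space is the image of the difference -/
theorem perp_range {f : Equiv.Perm V6} (hf : f ∈ ExtS) {fx pp : ℕ} (hfx : Nat.card {v : V6 // f v = v} = fx)
    (hpp : Nat.card {w : V6 // PerpFix f w} ≤ pp) (hprod : fx * pp ≤ 4096) {w : V6} (hw : PerpFix f w) :
    ∃ x, f x + x = w := by
  classical
  let φ : V6 →+ V6 := AddMonoidHom.mk' (fun x => f x + x) fun a b => by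
    show f (a + b) + (a + b) = _
    rw [hf.1]; abel
  have hker : Nat.card φ.ker = fx := hfx ▸ Nat.card_congr (Equiv.subtypeEquivRight fun x => by
    rw [AddMonoidHom.mem_ker]
    exact ⟨fun h => v6_eq h, fun h => by show f x + x = 0; rw [h, v6_self]⟩)
  have hcard := AddSubgroup.card_eq_card_quotient_mul_card_addSubgroup φ.ker
  have h4096 : Nat.card V6 = 4096 := by
    rw [Nat.card_fun, Nat.card_fin, Nat.card_eq_fintype_card, HePres.K4.card_eq]; norm_num
  rw [Nat.card_congr (QuotientAddGroup.quotientKerEquivRange φ).toEquiv, hker, h4096] at hcard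
  have hle : (φ.range : Set V6) ⊆ {w | PerpFix f w} := by
    rintro _ ⟨x, rfl⟩ v hv
    exact diff_perp hf hv x
  have hfxpos : 0 < fx := by
    rcases Nat.eq_zero_or_pos fx with h | h
    · rw [h] at hcard; omega
    · exact h
  have hcr : Nat.card {w : V6 // PerpFix f w} ≤ Nat.card φ.range :=
    hpp.trans (Nat.le_of_mul_le_mul_left (hprod.trans (by rw [hcard, mul_comm])) hfxpos)
  have e : (φ.range : Set V6) = {w | PerpFix f w} :=
    Set.eq_of_subset_of_ncard_le hle (by rw [← Nat.card_coe_set_eq, ← Nat.card_coe_set_eq]; exact hcr) (Set.toFinite _)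
  have hmem : w ∈ (φ.range : Set V6) := e ▸ hw
  exact hmem

theorem isPGroup_zpowers {f : Equiv.Perm V6} (hsq : f * f = 1) : IsPGroup 2 (Subgroup.zpowers f) := by
  haveI := Fact.mk Nat.prime_two
  rintro ⟨a, n, rfl⟩
  refine ⟨1, Subtype.ext ?_⟩
  show (f ^ n) ^ 2 = 1
  rw [← zpow_natCast, ← zpow_mul, mul_comm, zpow_mul, zpow_natCast, pow_two, hsq, one_zpow]

theorem inner_facts {f : Equiv.Perm V6} (hk : f ∈ KKp) (hsq : f * f = 1) (hne : f ≠ 1) :
    Nat.card {v : V6 // f v = v} = 256 ∧ ∀ w, PerpFix f w → ∃ x, f x + x = w := by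
  have hf := kkp_le_ext hk
  obtain ⟨g, hg, k, -, hk7, -, hc, -⟩ := exists_rep (Subgroup.zpowers_le.mpr hf) (isPGroup_zpowers hsq)
    (Subgroup.mem_zpowers f) hsq hne (Or.inl hk)
  obtain ⟨h1, h2, -⟩ := rep_fix hg hf hc ((inner_ok ⟨k, hk7 hk⟩).1)
  exact ⟨h1, fun w hw => perp_range hf h1 h2 (by norm_num) hw⟩

theorem semi_facts {f : Equiv.Perm V6} (hf : f ∈ ExtS) (ht : Turn (el 3) f) (hsq : f * f = 1) :
    Nat.card {v : V6 // f v = v} = 64 ∧ (∀ w, PerpFix f w → ∃ x, f x + x = w) ∧
      ∀ v, f v = v → ∃ x, f x + x = v := by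
  have hne : f ≠ 1 := fun e => by
    subst e
    exact turn_unique (f := 1) (fun _ => rfl) ht
  obtain ⟨g, hg, k, hk20, -, hk7, hc, -⟩ := exists_rep (Subgroup.zpowers_le.mpr hf) (isPGroup_zpowers hsq)
    (Subgroup.mem_zpowers f) hsq hne (Or.inr ht)
  have hk := hk7 ht
  obtain ⟨j, rfl⟩ : ∃ j, k = j + 7 := ⟨k - 7, by omega⟩
  obtain ⟨h1, h2, h3⟩ := rep_fix hg hf hc (semi_fix ⟨j, by omega⟩)
  refine ⟨h1, fun w hw => perp_range hf h1 h2 (by norm_num) hw, fun v hv => ?_⟩
  have hs := semi_ok ⟨j, by omega⟩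
  simp only [semOK, Bool.and_eq_true] at hs
  have hiso := List.all_eq_true.mp hs.1.1.1.1 (code (g v)) (List.mem_range.mpr (Fi22USix.code_lt _))
  have hgv : bMap (repC (j + 7)) (code (g v)) = code (g v) := by
    rw [← hc, ← LargeFischer.cols_apply (ext_add (mul_mem (mul_mem hg hf) (inv_mem hg)))]
    simp [hv]
  rw [hgv, Nat.beq_refl, cond_true, List.all_eq_true] at hiso
  -- perpendicular to the listed vectors, hence in the image
  classical
  let φ : V6 →+ V6 := AddMonoidHom.mk' (fun x => f x + x) fun a b => by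
    show f (a + b) + (a + b) = _
    rw [hf.1]; abel
  let S : Set V6 := {w | ∀ n ∈ fixOf (j + 7), bf w (g⁻¹ (vec n)) = 0}
  have hsub : (φ.range : Set V6) ⊆ S := by
    rintro _ ⟨x, rfl⟩ n hn
    exact diff_perp hf (h3 n hn).2 x
  have hScard : Nat.card S ≤ 64 := by
    have hfix := semi_fix ⟨j, by omega⟩
    simp only [fixOK, Bool.and_eq_true] at hfix
    rw [← Nat.eq_of_beq_eq_true hfix.2, ← USixUFour.count_vec]
    refine Nat.card_le_card_of_injective (fun w => ⟨g w.1, ?_⟩) fun a b e =>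
      Subtype.ext (g.injective (congrArg Subtype.val e))
    rw [List.all_eq_true]
    intro n hn
    rw [Bool.not_eq_true', ← code_of_lt (h3 n hn).1, pb_spec]
    have := w.2 n hn
    rw [← bf_map hg] at this
    simpa using this
  have hker : Nat.card φ.ker = 64 := h1 ▸ Nat.card_congr (Equiv.subtypeEquivRight fun x => by
    rw [AddMonoidHom.mem_ker]
    exact ⟨fun h => v6_eq h, fun h => by show f x + x = 0; rw [h, v6_self]⟩)
  have hcard := AddSubgroup.card_eq_card_quotient_mul_card_addSubgroup φ.ker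
  have h4096 : Nat.card V6 = 4096 := by
    rw [Nat.card_fun, Nat.card_fin, Nat.card_eq_fintype_card, HePres.K4.card_eq]; norm_num
  rw [Nat.card_congr (QuotientAddGroup.quotientKerEquivRange φ).toEquiv, hker, h4096] at hcard
  have hr : Nat.card φ.range = 64 := by omega
  have e : (φ.range : Set V6) = S := Set.eq_of_subset_of_ncard_le hsub (by
    rw [← Nat.card_coe_set_eq, ← Nat.card_coe_set_eq]
    exact hScard.trans hr.ge) (Set.toFinite _)
  have hvS : v ∈ S := fun n hn => by
    have := hiso n hn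
    rw [Bool.not_eq_true', ← code_of_lt (h3 n hn).1, pb_spec] at this
    rw [← bf_map hg]
    simpa using this
  exact (e ▸ hvS : v ∈ (φ.range : Set V6))

/-- the differences of a conjugate on the listed vectors lie in the codes of the conjugated set -/
theorem diffs_mem {g x f : Equiv.Perm V6} (hg : g ∈ ExtS) (hx : x ∈ ExtS) {k i : ℕ}
    (hc : colsOf (g * x * g⁻¹) = el512 i)
    (hfix : ∀ n ∈ fixOf k, n < 4096 ∧ f (g⁻¹ (vec n)) = g⁻¹ (vec n))
    {S : Finset V6} (hS : ∀ v, f v = v → x v + v ∈ S) :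
    ∀ a ∈ diffs k (el512 i), a ∈ S.image fun v => code (g v) := by
  intro a ha
  obtain ⟨n, hn, rfl⟩ := List.mem_map.mp ha
  obtain ⟨h1, h2⟩ := hfix n hn
  rw [Finset.mem_image]
  refine ⟨x (g⁻¹ (vec n)) + g⁻¹ (vec n), hS _ h2, ?_⟩
  rw [strict_eq, ← hc]
  conv_rhs => arg 2; rw [← code_of_lt h1]
  rw [show bMap (colsOf (g * x * g⁻¹)) n = bMap (colsOf (g * x * g⁻¹)) (code (vec n)) by rw [code_of_lt h1],
    ← LargeFischer.cols_apply (ext_add (mul_mem (mul_mem hg hx) (inv_mem hg))), ← code_xor, hg.1]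
  simp

theorem image_closed {g : Equiv.Perm V6} (hg : g ∈ ExtS) {S : Finset V6} (hS : Closed S) :
    0 ∈ S.image (fun v => code (g v)) ∧
    (∀ a ∈ S.image (fun v => code (g v)), ∀ b ∈ S.image (fun v => code (g v)),
      a ^^^ b ∈ S.image fun v => code (g v)) ∧ (S.image fun v => code (g v)).card ≤ S.card := by
  refine ⟨Finset.mem_image.mpr ⟨0, hS.1, by rw [add_zero_perm hg]; exact code_zero⟩, ?_, Finset.card_image_le⟩
  intro a ha b hb
  obtain ⟨u, hu, rfl⟩ := Finset.mem_image.mp ha
  obtain ⟨w, hw, rfl⟩ := Finset.mem_image.mp hb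
  exact Finset.mem_image.mpr ⟨u + w, hS.2 u hu w hw, by rw [hg.1, code_xor]⟩

/-- few elements of a 2-group move the fixed space of an inner involution into eight vectors -/
theorem inner_small {X : Subgroup (Equiv.Perm V6)} (hX : X ≤ ExtS) (h2 : IsPGroup 2 X) {f : Equiv.Perm V6}
    (hfX : f ∈ X) (hk : f ∈ KKp) (hsq : f * f = 1) (hne : f ≠ 1)
    (hmove : ∀ x ∈ X, ∃ S : Finset V6, Closed S ∧ S.card ≤ 8 ∧ ∀ v, f v = v → x v + v ∈ S) :
    Nat.card X < 128 := by
  obtain ⟨g, hg, k, -, hk7, -, hc, hgX⟩ := exists_rep hX h2 hfX hsq hne (Or.inl hk)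
  obtain ⟨hok, hcount⟩ := inner_ok ⟨k, hk7 hk⟩
  obtain ⟨-, -, hfix⟩ := rep_fix hg (hX hfX) hc hok
  refine lt_of_le_of_lt (card_le_count g hgX (fun i => small8 (diffs k (el512 i))) fun x hx i _ hi => ?_) ?_
  · obtain ⟨S, hS, hcS, hmv⟩ := hmove x hx
    obtain ⟨h0, hcl, hle⟩ := image_closed hg hS
    exact small8_of h0 hcl (hle.trans hcS) (diffs_mem hg (hX hx) hi hfix hmv)
  · rw [el512_map, List.countP_map] at hcount
    exact hcount

/-- fewer still for a semilinear involution and four vectors -/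
theorem semi_small {X : Subgroup (Equiv.Perm V6)} (hX : X ≤ ExtS) (h2 : IsPGroup 2 X) {f : Equiv.Perm V6}
    (hfX : f ∈ X) (ht : Turn (el 3) f) (hsq : f * f = 1) {S : Finset V6} (hS : Closed S) (hcS : S.card ≤ 4)
    (hmove : ∀ x ∈ X, (∀ v, f v = v → x v + v ∈ S) ∨
      ∃ T : Finset V6, Closed T ∧ T.card ≤ 2 ∧ ∀ v, f v = v → x v + v ∈ T) :
    Nat.card X < 32 := by
  classical
  have hne : f ≠ 1 := fun e => by
    subst e
    exact turn_unique (f := 1) (fun _ => rfl) ht
  obtain ⟨g, hg, k, hk20, -, hk7, hc, hgX⟩ := exists_rep hX h2 hfX hsq hne (Or.inr ht)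
  have hk := hk7 ht
  obtain ⟨j, rfl⟩ : ∃ j, k = j + 7 := ⟨k - 7, by omega⟩
  obtain ⟨-, -, hfix⟩ := rep_fix hg (hX hfX) hc (semi_fix ⟨j, by omega⟩)
  have hs := semi_ok ⟨j, by omega⟩
  simp only [semOK, Bool.and_eq_true, Nat.blt_eq] at hs
  obtain ⟨⟨⟨⟨-, hlen⟩, hlab⟩, h1⟩, hkeys⟩ := hs
  have hlen' : (labOf j).length = 512 := Nat.eq_of_beq_eq_true hlen
  have hzip : ∀ i, i < 512 → labOK (keysOf j) (diffs (j + 7) (el512 i)) ((labOf j).getD i 0) = true := by
    intro i hi
    have h1 : i < allEls.length := by rw [rep_ok.2.2]; exact hi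
    have h2 : i < (labOf j).length := by rw [hlen']; exact hi
    have hm : (el512 i, (labOf j).getD i 0) ∈ allEls.zip (labOf j) := by
      rw [List.mem_iff_getElem]
      refine ⟨i, by rw [List.length_zip]; omega, ?_⟩
      rw [List.getElem_zip, el512, List.getD_eq_getElem _ _ h1, List.getD_eq_getElem _ _ h2]
    exact List.all_eq_true.mp hlab _ hm
  obtain ⟨h0, hcl, hle⟩ := image_closed hg hS
  set T' := S.image (fun v => code (g v)) with hT'
  have key : ∀ x ∈ X, ∀ i, i < 512 → colsOf (g * x * g⁻¹) = el512 i →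
      (labOf j).getD i 0 = 1 ∨ ∃ a, a < (keysOf j).length ∧ (labOf j).getD i 0 = a + 2 ∧
        ((keysOf j).getD a []).toFinset = T' := by
    intro x hx i hi hcx
    have hl := hzip i hi
    cases hs2 : small2 (diffs (j + 7) (el512 i)) with
    | true =>
      rw [labOK, hs2, cond_true] at hl
      exact Or.inl (Nat.eq_of_beq_eq_true hl)
    | false =>
      have hin : ∀ a ∈ diffs (j + 7) (el512 i), a ∈ T' := by
        rcases hmove x hx with h | ⟨T, hT, hcT, hmv⟩
        · exact diffs_mem hg (hX hx) hcx hfix h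
        · obtain ⟨t0, tcl, tle⟩ := image_closed hg hT
          rw [small2_of t0 tcl (tle.trans hcT) (diffs_mem hg (hX hx) hcx hfix hmv)] at hs2
          exact Bool.noConfusion hs2
      obtain ⟨hs4, hkey⟩ := four_of h0 hcl (hle.trans hcS) hin hs2
      rw [labOK, hs2, cond_false, hs4, cond_true] at hl
      simp only [Bool.and_eq_true, Nat.ble_eq, Nat.blt_eq] at hl
      obtain ⟨⟨hl2, hlk⟩, hlall⟩ := hl
      refine Or.inr ⟨(labOf j).getD i 0 - 2, by omega, by omega, hkey _ ?_ hlall⟩
      have := List.all_eq_true.mp hkeys _ (List.mem_range.mpr (show (labOf j).getD i 0 - 2 < (keysOf j).length by omega))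
      simp only [Bool.and_eq_true] at this
      exact this.1.2
  have hmap : ∀ p : ℕ → Bool, (List.range 512).countP (fun i => p ((labOf j).getD i 0)) = (labOf j).countP p := by
    intro p
    have e : labOf j = (List.range 512).map fun i => (labOf j).getD i 0 :=
      List.ext_getElem (by rw [List.length_map, List.length_range, hlen']) fun i a b => by
        rw [List.getElem_map, List.getElem_range, List.getD_eq_getElem _ _ a]
    conv_rhs => rw [e, List.countP_map]
    rfl
  by_cases hex : ∃ x ∈ X, ∃ i, i < 512 ∧ colsOf (g * x * g⁻¹) = el512 i ∧ (labOf j).getD i 0 ≠ 1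
  · obtain ⟨x0, hx0, i0, hi0, hc0, hl0⟩ := hex
    obtain ⟨a0, ha0, -, ea0⟩ := (key x0 hx0 i0 hi0 hc0).resolve_left hl0
    refine lt_of_le_of_lt (card_le_count g hgX
      (fun i => Nat.beq 1 ((labOf j).getD i 0) || Nat.beq (a0 + 2) ((labOf j).getD i 0)) fun x hx i hi hcx => ?_) ?_
    · rcases key x hx i hi hcx with e | ⟨a, ha, e, ea⟩
      · rw [e]; rfl
      · have haa : a = a0 := by
          by_contra hne
          have hd : ∀ b c, b < (keysOf j).length → c < b →
              inAll ((keysOf j).getD b []) ((keysOf j).getD c []) = false := fun b c hb hcb => by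
            have := List.all_eq_true.mp hkeys b (List.mem_range.mpr hb)
            simp only [Bool.and_eq_true] at this
            have := List.all_eq_true.mp this.2 c (List.mem_range.mpr hcb)
            simpa using this
          have heq : ∀ b c, ((keysOf j).getD b []).toFinset = ((keysOf j).getD c []).toFinset →
              inAll ((keysOf j).getD b []) ((keysOf j).getD c []) = true := fun b c e =>
            inAll_iff.mpr fun v hv => List.mem_toFinset.mp (e ▸ List.mem_toFinset.mpr hv)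
          rcases Nat.lt_or_gt_of_ne hne with h | h
          · exact Bool.noConfusion ((heq a0 a (ea0.trans ea.symm)).symm.trans (hd a0 a ha0 h))
          · exact Bool.noConfusion ((heq a a0 (ea.trans ea0.symm)).symm.trans (hd a a0 ha h))
        rw [e, haa, Nat.beq_refl, Bool.or_true]
    · rw [hmap (fun l => Nat.beq 1 l || Nat.beq (a0 + 2) l)]
      have h3 := List.all_eq_true.mp hkeys a0 (List.mem_range.mpr ha0)
      simp only [Bool.and_eq_true, Nat.blt_eq] at h3
      refine lt_of_le_of_lt ?_ h3.1.1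
      induction labOf j with
      | nil => simp
      | cons l ls ih =>
        simp only [List.countP_cons]
        cases Nat.beq 1 l <;> cases Nat.beq (a0 + 2) l <;> simp <;> omega
  · push Not at hex
    refine lt_of_le_of_lt (card_le_count g hgX (fun i => Nat.beq 1 ((labOf j).getD i 0)) fun x hx i hi hcx => ?_) ?_
    · rw [hex x hx i hi hcx]; rfl
    · rw [hmap (Nat.beq 1)]; exact h1

end CfsgLib.FiTwentyFourType
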