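import Cfsg.Agent.Lib.LargeFischer.Co
import Cfsg.Agent.Lib.FiTwentyFourType.Invol

/-!
The layers without a condition on the index: the middle one rotates without fixed points and gives the
coordinates. (The arguments are those of `LargeFischer.fix_free` and `LargeFischer.exists_frame`.)
-/

set_option autoImplicit false
set_option maxRecDepth 100000
set_option linter.style.haveILetI false
set_option linter.unusedSectionVars false
set_option maxHeartbeats 800000

namespace CfsgLib.FiTwentyFourType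

open Matrix CfsgLib.Extraspecial
open CfsgLib.LargeFischer hiding Layers fix_free exists_frame exists_pre
open CfsgLib.HePres (K4)
open CfsgLib.Fi22USix (V6 SU62 el code vec vec_code hval nrm)
open CfsgLib.USixUFour (InP mv act coreK dv dg subK Triple)

variable {G : Type*} [Group G] [Finite G] {z : G} {K : Type} [Field K] [Fintype K]

/-- the layers above the extraspecial group -/
structure Lay (Q : Subgroup (CZ z)) (N M : Subgroup (CZ z)) (π : M →* Cfsg.PSU 4 K 3) : Prop where
  nN : N.Normal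
  nM : M.Normal
  hK : Fintype.card K = 9
  leN : Q ≤ N
  leM : N ≤ M
  cardN : Nat.card N = 3 * Nat.card Q
  surj : Function.Surjective π
  ker : π.ker = N.subgroupOf M

variable {Q N M : Subgroup (CZ z)} {π : M →* Cfsg.PSU 4 K 3}

/-- a subgroup of the top layer with the middle one and the commutators is everything -/
theorem Lay.eq_top (l : Lay Q N M π) {C : Subgroup M} (h1 : N.subgroupOf M ≤ C)
    (h2 : commutator M ≤ C) : C = ⊤ := by
  have hc : (⊤ : Subgroup _) ≤ C.map π := by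
    refine le_trans ?_ (Subgroup.map_mono h2)
    rw [commutator_def, Subgroup.map_commutator, Subgroup.map_top_of_surjective _ l.surj, ← commutator_def,
      psu_perfect l.hK]
  have h := Subgroup.comap_map_eq π C
  rw [top_le_iff.mp hc, Subgroup.comap_top, l.ker, sup_eq_left.mpr h1] at h
  exact h.symm

theorem Lay.axis (l : Lay Q N M π) (hQ : Nat.card Q = 2 ^ 13) :
    ∃ x ∈ N, x ∉ Q ∧ x ^ 3 = 1 ∧ ∀ n ∈ N, ∃ i : Fin 3, ∃ q ∈ Q, n = x ^ (i : ℕ) * q := by
  haveI := Fact.mk Nat.prime_three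
  have h3 : (3 : ℕ) ∣ Nat.card N := by rw [l.cardN]; exact dvd_mul_right _ _
  obtain ⟨⟨x, hx⟩, ho⟩ := exists_prime_orderOf_dvd_card' (G := N) 3 h3
  rw [Subgroup.orderOf_mk] at ho
  have hxQ : x ∉ Q := fun h => by
    have h1 : orderOf (⟨x, h⟩ : Q) ∣ Nat.card Q := orderOf_dvd_natCard _
    rw [Subgroup.orderOf_mk, ho, hQ] at h1
    norm_num at h1
  have hx3 : x ^ 3 = 1 := by rw [← ho]; exact pow_orderOf_eq_one x
  refine ⟨x, hx, hxQ, hx3, ?_⟩
  let f : Fin 3 × Q → N := fun p => ⟨x ^ (p.1 : ℕ) * p.2, mul_mem (pow_mem hx _) (l.leN p.2.2)⟩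
  have hf : Function.Injective f := by
    rintro ⟨i, a⟩ ⟨j, b⟩ e
    have e' : x ^ (i : ℕ) * (a : CZ z) = x ^ (j : ℕ) * b := congrArg Subtype.val e
    have hq : (x ^ (j : ℕ))⁻¹ * x ^ (i : ℕ) ∈ Q := by
      rw [show (x ^ (j : ℕ))⁻¹ * x ^ (i : ℕ) = (b : CZ z) * (a : CZ z)⁻¹ by
        rw [eq_mul_inv_iff_mul_eq, mul_assoc, e', inv_mul_cancel_left]]
      exact mul_mem b.2 (inv_mem a.2)
    have hij : i = j := by
      have hx2 : x * x ∉ Q := fun h => hxQ (by
        have h4 := mul_mem h h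
        rwa [show x * x * (x * x) = x from by
          rw [← mul_assoc, ← pow_two, ← pow_succ, ← pow_succ, pow_succ, hx3, one_mul]] at h4)
      fin_cases i <;> fin_cases j <;> first
        | rfl
        | (exfalso; simp [pow_two] at hq; first | exact hxQ hq | exact hx2 hq |
            (have h4 := inv_mem hq; simp at h4; first | exact hxQ h4 | exact hx2 h4))
    subst hij
    rw [Subtype.ext (mul_left_cancel e')]
  have hb : Function.Bijective f := by
    refine (Nat.bijective_iff_injective_and_card f).mpr ⟨hf, ?_⟩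
    rw [Nat.card_prod, Nat.card_fin, l.cardN]
  intro n hn
  obtain ⟨⟨i, q⟩, e⟩ := hb.2 ⟨n, hn⟩
  exact ⟨i, q, q.2, (congrArg Subtype.val e).symm⟩

theorem fix_free {Q : Subgroup (CZ z)} [Q.Normal] {N M : Subgroup (CZ z)} {π : M →* Cfsg.PSU 4 K 3}
    (l : Lay Q N M π) {e : Fin 6 → ZMod 2} {u : CZ z → Coord 6} {σ : CZ z →* isoGrp e}
    (P : Pre z Q e u σ) :
    ∃ x ∈ N, x ∉ Q ∧ x ^ 3 = 1 ∧ (∀ n ∈ N, ∃ i : Fin 3, ∃ q ∈ Q, n = x ^ (i : ℕ) * q) ∧
      (∀ v, (σ x).1 ((σ x).1 v) = v + (σ x).1 v) ∧ ∀ m ∈ M, σ m * σ x = σ x * σ m := by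
  classical
  have hQ : Nat.card Q = 2 ^ 13 :=
    (Subgroup.card_map_of_injective (Subgroup.subtype_injective (CZ z))).symm.trans P.card
  obtain ⟨x, hx, hxQ, hx3, hN⟩ := l.axis hQ
  haveI := l.nN
  -- the middle layer acts through the powers
  have hσN : ∀ n ∈ N, σ n = 1 ∨ σ n = σ x ∨ σ n = σ x * σ x := by
    intro n hn
    obtain ⟨i, q, hq, rfl⟩ := hN n hn
    rw [map_mul, (P.ker q).mpr hq, mul_one, map_pow]
    fin_cases i
    · exact Or.inl (pow_zero _)
    · exact Or.inr (Or.inl (pow_one _))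
    · exact Or.inr (Or.inr (pow_two _))
  have hL3 : σ x * σ x * σ x = 1 := by rw [← map_mul, ← map_mul, ← pow_two, ← pow_succ, hx3, map_one]
  have hLne : σ x ≠ 1 := fun h => hxQ ((P.ker x).mp h)
  have hconj : ∀ m : M, σ m * σ x * (σ m)⁻¹ = σ x ∨ σ m * σ x * (σ m)⁻¹ = σ x * σ x := by
    intro m
    rcases hσN _ (l.nN.conj_mem x hx m) with h | h | h
    · refine absurd ?_ hLne
      rw [map_mul, map_mul, map_inv] at h
      exact conj_eq_one_iff.mp h
    all_goals rw [map_mul, map_mul, map_inv] at h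
    · exact Or.inl h
    · exact Or.inr h
  let C : Subgroup M :=
    { carrier := {m | σ m * σ x * (σ m)⁻¹ = σ x}
      one_mem' := by simp
      mul_mem' := fun {a b} ha hb => by
        simp only [Set.mem_ofPred_eq, Subgroup.coe_mul, map_mul, _root_.mul_inv_rev] at *
        calc _ = σ a * (σ b * σ x * (σ b)⁻¹) * (σ a)⁻¹ := by group
          _ = _ := by rw [hb, ha]
      inv_mem' := fun {a} ha => by
        simp only [Set.mem_ofPred_eq, InvMemClass.coe_inv, map_inv, inv_inv] at *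
        conv_lhs => rw [← ha]
        group }
  have hC : C = ⊤ := by
    refine l.eq_top ?_ ?_
    · intro m hm
      show σ m * σ x * (σ m)⁻¹ = σ x
      have hm' : (m : CZ z) ∈ N := hm
      rcases hσN _ hm' with h | h | h <;> rw [h] <;> group
    · rw [commutator_def, Subgroup.commutator_le]
      intro a _ b _
      show σ ((a * b * a⁻¹ * b⁻¹ : M) : CZ z) * σ x * (σ ((a * b * a⁻¹ * b⁻¹ : M) : CZ z))⁻¹ = σ x
      simp only [Subgroup.coe_mul, InvMemClass.coe_inv, map_mul, map_inv]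
      exact comm_fix hL3 (hconj a) (hconj b)
  have hcomm : ∀ m ∈ M, σ m * σ x = σ x * σ m := fun m hm => by
    have h : σ m * σ x * (σ m)⁻¹ = σ x := (hC ▸ Subgroup.mem_top (⟨m, hm⟩ : M) : (⟨m, hm⟩ : M) ∈ C)
    exact mul_inv_eq_iff_eq_mul.mp h
  refine ⟨x, hx, hxQ, hx3, hN, ?_, hcomm⟩
  let L : Coord 6 ≃ₗ[ZMod 2] Coord 6 := (σ x).1
  have hL : ∀ v, L (L (L v)) = v := fun v =>
    LinearEquiv.congr_fun (congrArg Subtype.val hL3) v
  have hLm : ∀ m ∈ M, ∀ v, (σ m).1 (L v) = L ((σ m).1 v) := fun m hm v =>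
    LinearEquiv.congr_fun (congrArg Subtype.val (hcomm m hm)) v
  let p : Coord 6 →ₗ[ZMod 2] Coord 6 := LinearMap.id + L.toLinearMap + L.toLinearMap.comp L.toLinearMap
  let d : Coord 6 →ₗ[ZMod 2] Coord 6 := LinearMap.id + L.toLinearMap
  have hp : ∀ v, p v = v + L v + L (L v) := fun _ => rfl
  have hd : ∀ v, d v = v + L v := fun _ => rfl
  by_contra hne
  push Not at hne
  obtain ⟨v0, hv0⟩ := hne
  let W0 := LinearMap.ker d
  let W1 := LinearMap.ker p
  have hW0 : ∀ v, v ∈ W0 ↔ L v = v := fun v => by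
    rw [LinearMap.mem_ker, hd]
    constructor
    · intro h
      calc L v = v + (v + L v) := by rw [← add_assoc, two_self, zero_add]
        _ = v := by rw [h, add_zero]
    · intro h; rw [h, two_self]
  have hpm : ∀ v, p v ∈ W0 := fun v => by
    rw [hW0, hp, map_add, map_add, hL]; abel
  have hqm : ∀ v, v + p v ∈ W1 := fun v => by
    rw [LinearMap.mem_ker, map_add, hp (p v), (hW0 _).mp (hpm v), (hW0 _).mp (hpm v)]
    rw [show p v + (p v + p v + p v) = (p v + p v) + (p v + p v) by abel, two_self]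
  let j : W0 × W1 → Coord 6 := fun w => (w.1 : Coord 6) + w.2
  have hj : Function.Bijective j := by
    refine ⟨?_, fun v => ⟨(⟨p v, hpm v⟩, ⟨_, hqm v⟩), ?_⟩⟩
    · have hpj : ∀ w : W0 × W1, p (j w) = w.1 := fun w => by
        show p (_ + _) = _
        rw [map_add, LinearMap.mem_ker.mp w.2.2, add_zero, hp, (hW0 _).mp w.1.2, (hW0 _).mp w.1.2, two_self,
          zero_add]
      rintro ⟨a, b⟩ ⟨a', b'⟩ h
      have ha : a = a' := Subtype.ext (by simpa [hpj] using congrArg p h)
      subst ha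
      obtain rfl : b = b' := Subtype.ext (add_left_cancel h)
      rfl
    · show p v + (v + p v) = v
      rw [add_comm v, ← add_assoc, two_self, zero_add]
  have hcard : Nat.card W0 * Nat.card W1 = 4096 := by
    rw [← Nat.card_prod, Nat.card_congr (Equiv.ofBijective j hj)]
    simp [Nat.card_eq_fintype_card]
  have h0 : 2 ≤ Nat.card W0 := by
    haveI : Nontrivial W0 := ⟨⟨⟨p v0, hpm v0⟩, 0, fun h => hv0 ?_⟩⟩
    · exact Finite.one_lt_card
    · have h1 : v0 + L v0 + L (L v0) = 0 := congrArg Subtype.val h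
      calc L (L v0) = (v0 + L v0 + L (L v0)) + (v0 + L v0) := by
            rw [show v0 + L v0 + L (L v0) + (v0 + L v0) = (v0 + L v0) + (v0 + L v0) + L (L v0) by abel,
              two_self, zero_add]
        _ = _ := by rw [h1, zero_add]
  have h1 : Nat.card W1 % 3 = 1 := by
    have hmem : ∀ w ∈ W1, L w ∈ W1 := fun w hw => by
      rw [LinearMap.mem_ker, hp] at hw ⊢
      rw [← map_add, ← map_add, hw, map_zero]
    let q : Equiv.Perm W1 :=
      { toFun := fun w => ⟨L w, hmem _ w.2⟩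
        invFun := fun w => ⟨L (L w), hmem _ (hmem _ w.2)⟩
        left_inv := fun w => Subtype.ext (hL _)
        right_inv := fun w => Subtype.ext (hL _) }
    refine card_mod_three q (Equiv.ext fun w => Subtype.ext ?_) fun w => ⟨fun h => Subtype.ext ?_, fun h => ?_⟩
    · rw [pow_succ, pow_two]; exact hL _
    · have h1 : L (w : Coord 6) = w := congrArg Subtype.val h
      have h2 := LinearMap.mem_ker.mp w.2
      rw [hp, h1, h1, two_self, zero_add] at h2
      exact h2
    · subst h; exact Subtype.ext (map_zero L)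
  have h2 : Nat.card W1 ≠ 1 := by
    intro h
    haveI := (Nat.card_eq_one_iff_unique.mp h).1
    refine hLne (Subtype.ext (LinearEquiv.ext fun v => ?_))
    have : (⟨v + p v, hqm v⟩ : W1) = 0 := Subsingleton.elim _ _
    have h3 : v + p v = 0 := congrArg Subtype.val this
    have h4 : v = p v := by
      calc v = v + p v + p v := by rw [add_assoc, two_self, add_zero]
        _ = _ := by rw [h3, zero_add]
    show L v = v
    rw [h4, (hW0 _).mp (hpm v)]
  have hle : Nat.card W0 ≤ 1024 ∧ Nat.card W1 ≤ 1024 := by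
    obtain ⟨k, hk, ek⟩ := (Nat.dvd_prime_pow Nat.prime_two).mp
      (show Nat.card W1 ∣ 2 ^ 12 from ⟨Nat.card W0, by rw [mul_comm, hcard]; norm_num⟩)
    rw [ek] at h1 h2 hcard ⊢
    interval_cases k <;> omega
  haveI := l.nM
  haveI : (Q.subgroupOf M).Normal := inferInstance
  let s : M →* (Coord 6 ≃ₗ[ZMod 2] Coord 6) := (isoGrp e).subtype.comp (σ.comp M.subtype)
  have hsk : ∀ m : M, s m = 1 ↔ (m : CZ z) ∈ Q := fun m => by
    rw [← P.ker]
    exact ⟨fun h => Subtype.ext h, fun h => congrArg Subtype.val h⟩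
  let f := QuotientGroup.lift (Q.subgroupOf M) s fun m hm => (hsk m).mpr hm
  let π' := QuotientGroup.lift (Q.subgroupOf M) π fun m hm => l.ker.ge (l.leN hm)
  have hs' : Function.Surjective π' := fun y => by
    obtain ⟨m, rfl⟩ := l.surj y
    exact ⟨QuotientGroup.mk m, rfl⟩
  haveI : Finite (Cfsg.PSU 4 K 3) := Finite.of_surjective π l.surj
  have hM : Nat.card M = Nat.card N * Nat.card (Cfsg.PSU 4 K 3) := by
    rw [Subgroup.card_eq_card_quotient_mul_card_subgroup π.ker,
      Nat.card_congr (QuotientGroup.quotientKerEquivOfSurjective π l.surj).toEquiv, l.ker,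
      Nat.card_congr (Subgroup.subgroupOfEquivOfLe l.leM).toEquiv, mul_comm]
  have hk3 : Nat.card π'.ker = 3 := by
    have a := Subgroup.card_eq_card_quotient_mul_card_subgroup π'.ker
    rw [Nat.card_congr (QuotientGroup.quotientKerEquivOfSurjective π' hs').toEquiv] at a
    have b := Subgroup.card_eq_card_quotient_mul_card_subgroup (Q.subgroupOf M)
    rw [Nat.card_congr (Subgroup.subgroupOfEquivOfLe (l.leN.trans l.leM)).toEquiv, a, hM, l.cardN] at b
    have hpos : 0 < Nat.card (Cfsg.PSU 4 K 3) * Nat.card Q := Nat.mul_pos Nat.card_pos Nat.card_pos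
    nlinarith
  have hkeep : ∀ (W : Submodule (ZMod 2) (Coord 6)) (q : Coord 6 →ₗ[ZMod 2] Coord 6),
      W = LinearMap.ker q → (∀ m : M, ∀ v, q (s m v) = s m (q v)) → ∀ g, ∀ w ∈ W, f g w ∈ W := by
    intro W q hW hq g w hw
    induction g using QuotientGroup.induction_on with
    | H m =>
      rw [hW, LinearMap.mem_ker] at hw ⊢
      show q (s m w) = 0
      rw [hq, hw, map_zero]
  obtain ⟨r0, hr0⟩ := restrict_hom f W0 (hkeep W0 d rfl fun m v => by
    show d ((σ m).1 v) = (σ m).1 (d v)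
    rw [hd, hd, map_add, hLm m m.2])
  obtain ⟨r1, hr1⟩ := restrict_hom f W1 (hkeep W1 p rfl fun m v => by
    show p ((σ m).1 v) = (σ m).1 (p v)
    rw [hp, hp, map_add, map_add, hLm m m.2, hLm m m.2, hLm m m.2])
  have k0 := small_hom l.hK π' hs' hk3 hle.1 r0
  have k1 := small_hom l.hK π' hs' hk3 hle.2 r1
  have htriv : ∀ g ∈ commutator (↥M ⧸ Q.subgroupOf M), g = 1 := by
    intro g hg
    have hfg : ∀ v, f g v = v := fun v => by
      obtain ⟨⟨a, b⟩, rfl⟩ := hj.2 v
      show f g ((a : Coord 6) + b) = _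
      rw [map_add, ← hr0, ← hr1, MonoidHom.mem_ker.mp (k0 hg), MonoidHom.mem_ker.mp (k1 hg)]
      rfl
    induction g using QuotientGroup.induction_on with
    | H m => exact (QuotientGroup.eq_one_iff m).mpr ((hsk m).mp (LinearEquiv.ext hfg))
  have hb : commutator (↥M ⧸ Q.subgroupOf M) = ⊥ := (Subgroup.eq_bot_iff_forall _).mpr htriv
  have hperf := psu_perfect l.hK
  rw [commutator_def, ← Subgroup.map_top_of_surjective π' hs', ← Subgroup.map_commutator, ← commutator_def, hb,
    Subgroup.map_bot, Subgroup.map_top_of_surjective π' hs'] at hperf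
  obtain ⟨hsim, -⟩ := psu_simple l.hK
  haveI := hsim
  exact bot_ne_top hperf

/-- the linear part -/
theorem exists_frame [Q.Normal] (l : Lay Q N M π) {e : Fin 6 → ZMod 2} {u : CZ z → Coord 6}
    {σ : CZ z →* isoGrp e} (P : Pre z Q e u σ) :
    ∃ (φ : V6 ≃ Coord 6) (x : CZ z), (∀ a b, φ (a + b) = φ a + φ b) ∧ (∀ a, ιK (qq e (φ a)) = nrm a) ∧
      x ∈ N ∧ x ∉ Q ∧ (∀ a, φ.symm ((σ x).1 (φ a)) = el 2 • a) ∧
      (∀ n ∈ N, ∃ c : K4, ∀ a, φ.symm ((σ n).1 (φ a)) = c • a) ∧
      (∀ m ∈ M, ∃ c ∈ coreK, ∀ a, φ.symm ((σ m).1 (φ a)) = mv c a) ∧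
      ∀ c ∈ coreK, ∃ m ∈ M, ∀ a, φ.symm ((σ m).1 (φ a)) = mv c a := by
  classical
  obtain ⟨x, hx, hxQ, hx3, hN, hsq, hcomm⟩ := fix_free l P
  have hnd := bb_nondeg e
  have hrot : Rot (qq e) (bb e) (σ x).1 :=
    { pol := fun a b => by
        show cBil e (a + b) (a + b) = cBil e a a + cBil e b b + (cBil e a b + cBil e b a)
        simp only [map_add, LinearMap.add_apply]; abel
      nd := hnd
      iso := (σ x).2
      sq := hsq }
  obtain ⟨φ, hφa, hφw, hφq⟩ := hrot.exists_coord (card_coord)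
  let f : M → V6 → V6 := fun m a => φ.symm ((σ m).1 (φ a))
  have hφ0 : φ 0 = 0 := by
    have h := hφa 0 0
    rw [add_zero] at h
    exact left_eq_add.mp h
  have hφs : ∀ a b, φ.symm (a + b) = φ.symm a + φ.symm b := fun a b =>
    φ.injective (by rw [hφa, φ.apply_symm_apply, φ.apply_symm_apply, φ.apply_symm_apply])
  have hfm : ∀ m : M, ∃ A : Matrix (Fin 6) (Fin 6) K4, (∀ a, f m a = A *ᵥ a) ∧
      ∀ a b, hval (A *ᵥ a) (A *ᵥ b) = hval a b := by
    intro m
    refine exists_mat (f m) (fun a b => by simp only [f]; rw [hφa, map_add, hφs]) (fun a => ?_) fun a => ?_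
    · simp only [f]
      rw [hφw]
      refine φ.injective ?_
      rw [hφw, φ.apply_symm_apply, φ.apply_symm_apply]
      exact LinearEquiv.congr_fun (congrArg Subtype.val (hcomm m m.2)) (φ a)
    · show nrm (φ.symm _) = _
      rw [← hφq, φ.apply_symm_apply, ← hφq]
      exact congrArg ιK ((σ (m : CZ z)).2 (φ a))
  choose A hA hAh using hfm
  have hAuniq : ∀ (m : M) (B : Matrix (Fin 6) (Fin 6) K4), (∀ a, f m a = B *ᵥ a) → A m = B := fun m B h =>
    Matrix.toLin'.injective (LinearMap.ext fun a => by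
      rw [Matrix.toLin'_apply, Matrix.toLin'_apply, ← hA, h])
  let D : M →* K4 :=
    { toFun := fun m => (A m).det
      map_one' := by
        rw [hAuniq 1 1 fun a => by
          show φ.symm ((σ (1 : CZ z)).1 (φ a)) = _
          rw [map_one, Matrix.one_mulVec]
          exact φ.symm_apply_apply a]
        exact Matrix.det_one
      map_mul' := fun m n => by
        rw [hAuniq (m * n) (A m * A n) fun a => by
          rw [← Matrix.mulVec_mulVec, ← hA, ← hA]
          show φ.symm ((σ ((m : CZ z) * n)).1 (φ a)) = φ.symm ((σ m).1 (φ (φ.symm ((σ n).1 (φ a)))))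
          rw [map_mul, φ.apply_symm_apply]
          rfl]
        exact Matrix.det_mul _ _ }
  have hQker : ∀ m : M, (m : CZ z) ∈ Q → A m = 1 := fun m hm => hAuniq m 1 fun a => by
    show φ.symm ((σ m).1 (φ a)) = _
    rw [(P.ker _).mpr hm, Matrix.one_mulVec]
    exact φ.symm_apply_apply a
  let xM : M := ⟨x, l.leM hx⟩
  have hxA : A xM = el 2 • 1 := hAuniq xM _ fun a => by
    show φ.symm ((σ x).1 (φ a)) = _
    rw [← hφw, φ.symm_apply_apply, Matrix.smul_mulVec, Matrix.one_mulVec]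
  have hD : D.toHomUnits.ker = ⊤ := by
    refine l.eq_top ?_ (Abelianization.commutator_subset_ker _)
    intro m hm
    obtain ⟨i, q, hq, e1⟩ := hN m hm
    have hm' : m = xM ^ (i : ℕ) * ⟨q, l.leM (l.leN hq)⟩ := Subtype.ext (by simpa [xM] using e1)
    rw [MonoidHom.mem_ker, hm', map_mul, map_pow]
    have h1 : D.toHomUnits xM = 1 := Units.ext (by
      show (A xM).det = 1
      rw [hxA, Matrix.det_smul, Matrix.det_one, mul_one, Fintype.card_fin, el_vals.2.2.2.1])
    have h2 : D.toHomUnits ⟨q, l.leM (l.leN hq)⟩ = 1 := Units.ext (by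
      show (A _).det = 1
      rw [hQker _ hq, Matrix.det_one])
    rw [h1, h2, one_pow, mul_one]
  have hdet : ∀ m, (A m).det = 1 := fun m =>
    congrArg Units.val (MonoidHom.mem_ker.mp (hD ▸ Subgroup.mem_top m : m ∈ D.toHomUnits.ker))
  choose t ht using fun m => exists_of_matrix (hAh m) (hdet m)
  let τ : M →* SU62 := MonoidHom.mk' t fun m n => USixUFour.su_ext fun a => by
    rw [USixUFour.mv_mul, ht, ht, ht, ← hA, ← hA, ← hA]
    show φ.symm ((σ ((m : CZ z) * n)).1 (φ a)) = φ.symm ((σ m).1 (φ (φ.symm ((σ n).1 (φ a)))))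
    rw [map_mul, φ.apply_symm_apply]
    rfl
  have hτ : ∀ m a, mv (τ m) a = f m a := fun m a => (ht m a).trans (hA m a).symm
  have hker : ∀ m : M, τ m = 1 ↔ (m : CZ z) ∈ Q := by
    intro m
    rw [← P.ker]
    constructor
    · intro h
      refine Subtype.ext (LinearEquiv.ext fun a => ?_)
      have h1 := hτ m (φ.symm a)
      rw [h, USixUFour.mv_one] at h1
      simp only [f, φ.apply_symm_apply] at h1
      exact (φ.symm.injective h1).symm
    · intro h
      refine USixUFour.su_ext fun a => ?_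
      rw [hτ, USixUFour.mv_one]
      show φ.symm ((σ m).1 (φ a)) = a
      rw [h]; exact φ.symm_apply_apply a
  haveI := l.nN
  haveI : Finite (Cfsg.PSU 4 K 3) := Finite.of_surjective π l.surj
  let K0 := τ.range
  let p : K0 →* Cfsg.PSU 4 K 3 := MonoidHom.liftOfSurjective τ.rangeRestrict τ.rangeRestrict_surjective
    ⟨π, fun m hm => l.ker.ge (l.leN ((hker m).mp (by simpa using congrArg Subtype.val hm)))⟩
  have hp : ∀ m, p (τ.rangeRestrict m) = π m := fun m =>
    MonoidHom.liftOfRightInverse_comp_apply _ _ _ _ _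
  have hps : Function.Surjective p := fun y => by
    obtain ⟨m, rfl⟩ := l.surj y
    exact ⟨_, hp m⟩
  have hpk : p.ker = (N.subgroupOf M).map τ.rangeRestrict := by
    ext k
    obtain ⟨m, rfl⟩ := τ.rangeRestrict_surjective k
    rw [MonoidHom.mem_ker, hp, ← MonoidHom.mem_ker, l.ker]
    refine ⟨fun h => ⟨m, h, rfl⟩, ?_⟩
    rintro ⟨n, hn, e1⟩
    have h1 : τ (n⁻¹ * m) = 1 := by
      rw [map_mul, map_inv, inv_mul_eq_one]
      exact congrArg Subtype.val e1
    have := mul_mem hn (show n⁻¹ * m ∈ N.subgroupOf M from l.leN ((hker _).mp h1))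
    rwa [mul_inv_cancel_left] at this
  have hcen : Subgroup.center K0 = p.ker := by
    refine le_antisymm (fun k hk => ?_) ?_
    · obtain ⟨hsim, -⟩ := psu_simple l.hK
      haveI := hsim
      rcases (inferInstance : (Subgroup.center (Cfsg.PSU 4 K 3)).Normal).eq_bot_or_eq_top with hb | hT
      · rw [MonoidHom.mem_ker, ← Subgroup.mem_bot, ← hb, Subgroup.mem_center_iff]
        intro y
        obtain ⟨k', rfl⟩ := hps y
        rw [← map_mul, ← map_mul, Subgroup.mem_center_iff.mp hk k']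
      · exfalso
        have hperf := psu_perfect l.hK
        rw [commutator_def, ← hT, Subgroup.commutator_eq_bot_iff_le_centralizer.mpr
          (fun a ha => Subgroup.mem_centralizer_iff.mpr fun b _ => Subgroup.mem_center_iff.mp ha b)] at hperf
        exact bot_ne_top (hperf.trans hT)
    · rw [hpk]
      rintro _ ⟨n, hn, rfl⟩
      rw [Subgroup.mem_center_iff]
      intro k
      obtain ⟨m, rfl⟩ := τ.rangeRestrict_surjective k
      refine Subtype.ext ?_
      show τ m * τ n = τ n * τ m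
      obtain ⟨i, q, hq, e1⟩ := hN n hn
      have hn' : n = xM ^ (i : ℕ) * ⟨q, l.leM (l.leN hq)⟩ := Subtype.ext (by simpa [xM] using e1)
      rw [hn', map_mul, (hker ⟨q, l.leM (l.leN hq)⟩).mpr hq, mul_one, map_pow]
      have hc : Commute (τ m) (τ xM) := USixUFour.su_ext fun a => by
        have hx1 : ∀ b, mv (τ xM) b = el 2 • b := fun b => by
          rw [show mv (τ xM) b = A xM *ᵥ b from ht xM b, hxA, Matrix.smul_mulVec, Matrix.one_mulVec]
        rw [USixUFour.mv_mul, USixUFour.mv_mul, hx1, hx1, USixUFour.mv_smul]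
      exact hc.pow_right _
  have hk3 : Nat.card (Subgroup.center K0) = 3 := by
    rw [hcen]
    have hτk : τ.ker = Q.subgroupOf M := by
      ext m; rw [MonoidHom.mem_ker, hker]; rfl
    have a := Subgroup.card_eq_card_quotient_mul_card_subgroup τ.ker
    rw [Nat.card_congr (QuotientGroup.quotientKerEquivRange τ).toEquiv, hτk,
      Nat.card_congr (Subgroup.subgroupOfEquivOfLe (l.leN.trans l.leM)).toEquiv] at a
    have b := Subgroup.card_eq_card_quotient_mul_card_subgroup p.ker
    rw [Nat.card_congr (QuotientGroup.quotientKerEquivOfSurjective p hps).toEquiv] at b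
    have c := Subgroup.card_eq_card_quotient_mul_card_subgroup π.ker
    rw [Nat.card_congr (QuotientGroup.quotientKerEquivOfSurjective π l.surj).toEquiv, l.ker,
      Nat.card_congr (Subgroup.subgroupOfEquivOfLe l.leM).toEquiv, l.cardN] at c
    have hb : Nat.card τ.range = Nat.card (Cfsg.PSU 4 K 3) * Nat.card p.ker := b
    rw [hb, c] at a
    have hpos : 0 < Nat.card (Cfsg.PSU 4 K 3) * Nat.card Q := Nat.mul_pos Nat.card_pos Nat.card_pos
    nlinarith
  have htri : Triple K K0 :=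
    ⟨hk3, ⟨(QuotientGroup.quotientMulEquivOfEq hcen).trans (QuotientGroup.quotientKerEquivOfSurjective p hps)⟩⟩
  obtain ⟨g, j, hgj⟩ := USixUFour.exists_class l.hK htri
  let τe : V6 ≃ V6 :=
    { toFun := fun b => mv g⁻¹ (dv j b)
      invFun := fun a => dv (2 * (j : ℕ)) (mv g a)
      left_inv := fun b => by
        have : mv g (mv g⁻¹ (dv j b)) = dv j b := by rw [← USixUFour.mv_mul, mul_inv_cancel, USixUFour.mv_one]
        simp only [this, (USixUFour.dv_inv _ _).2]
      right_inv := fun a => by simp only [(USixUFour.dv_inv _ _).1, USixUFour.mv_inv] }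
  have hτs : ∀ (c : K4) (b : V6), τe (c • b) = c • τe b := fun c b => by
    show mv g⁻¹ (dv j (c • b)) = c • mv g⁻¹ (dv j b)
    rw [USixUFour.dv_smul, USixUFour.mv_smul]
  have hτa : ∀ a b : V6, τe (a + b) = τe a + τe b := fun a b => by
    show mv g⁻¹ (dv j (a + b)) = _
    rw [dv_add, USixUFour.mv_add]; rfl
  have key : ∀ m : M, ∀ c : SU62, MulAut.conj g (τ m) = dg j c →
      ∀ a, τe.symm (φ.symm ((σ m).1 (φ (τe a)))) = mv c a := by
    intro m c hc a
    rw [τe.symm_apply_eq]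
    show f m (τe a) = _
    rw [← hτ]
    show mv (τ m) (mv g⁻¹ (dv j a)) = mv g⁻¹ (dv j (mv c a))
    rw [← USixUFour.mv_dg, ← hc, MulAut.conj_apply, USixUFour.mv_mul, USixUFour.mv_mul, USixUFour.mv_inv]
  have hsc : ∀ n ∈ N, ∃ c : K4, ∀ a, φ.symm ((σ n).1 (φ a)) = c • a := by
    intro n hn
    obtain ⟨i, q, hq, rfl⟩ := hN n hn
    refine ⟨el 2 ^ (i : ℕ), fun a => ?_⟩
    rw [map_mul, (P.ker q).mpr hq, mul_one, map_pow]
    induction (i : ℕ) with
    | zero => rw [pow_zero, pow_zero, one_smul]; exact φ.symm_apply_apply a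
    | succ k ih =>
      rw [pow_succ', pow_succ', mul_smul, ← ih]
      refine φ.injective ?_
      rw [hφw, φ.apply_symm_apply, φ.apply_symm_apply]
      rfl
  refine ⟨τe.trans φ, x, fun a b => by simp [hτa, hφa], fun a => ?_, hx, hxQ, fun a => ?_, ?_, ?_, ?_⟩
  · show ιK (qq e (φ (τe a))) = nrm a
    rw [hφq]
    show nrm (mv g⁻¹ (dv j a)) = nrm a
    rw [USixUFour.mv_nrm, USixUFour.dv_nrm]
  · show τe.symm (φ.symm ((σ x).1 (φ (τe a)))) = el 2 • a
    rw [← hφw, φ.symm_apply_apply, ← hτs, τe.symm_apply_apply]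
  · intro n hn
    obtain ⟨c, hc⟩ := hsc n hn
    exact ⟨c, fun a => by
      show τe.symm (φ.symm ((σ n).1 (φ (τe a)))) = c • a
      rw [hc, ← hτs, τe.symm_apply_apply]⟩
  · intro m hm
    have h : MulAut.conj g (τ ⟨m, hm⟩) ∈ subK j := hgj ▸ ⟨_, ⟨_, rfl⟩, rfl⟩
    obtain ⟨c, hc, e1⟩ := h
    exact ⟨c, hc, key ⟨m, hm⟩ c e1.symm⟩
  · intro c hc
    have h : dg j c ∈ K0.map (MulAut.conj g).toMonoidHom := hgj.symm ▸ ⟨c, hc, rfl⟩
    obtain ⟨_, ⟨m, rfl⟩, e1⟩ := h
    exact ⟨m, m.2, key m c e1⟩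

/-- the action, for a weakly closed centre as well (as in `LargeFischer.exists_pre`) -/
theorem exists_pre_of (Q : Subgroup (CZ z)) [Q.Normal] (hz : orderOf z = 2)
    (hF : Cfsg.generalizedFittingSubgroup (CZ z) = Q) (hQ : Cfsg.IsExtraspecial 2 Q)
    (hcard : Nat.card Q = 2 ^ (2 * 6 + 1)) :
    ∃ (e : Fin 6 → ZMod 2) (u : CZ z → Coord 6) (σ : CZ z →* isoGrp e), Pre z Q e u σ := by
  classical
  have st : Setting (QG Q) z := Setting.of_fStar hz (QG Q) (by rw [hF])
    (haveI := Fact.mk Nat.prime_two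
     isExtraspecial_congr (Q.equivMapOfInjective _ (Subgroup.subtype_injective (CZ z))) hQ)
  have hQG : Nat.card (QG Q) = 2 ^ 13 :=
    (Subgroup.card_map_of_injective (Subgroup.subtype_injective (CZ z))).trans hcard
  obtain ⟨e, ⟨ψ⟩⟩ : ∃ e : Fin 6 → ZMod 2, Nonempty (Q ≃* Model e) := by
    by_cases hA : ∃ A : Subgroup Q, Cfsg.IsElementaryAbelian 2 A ∧ Nat.card ↥A = 2 ^ (6 + 1)
    · exact ⟨0, equiv_model 0 hQ (by norm_num) hcard true (iff_of_true rfl hA)
        (by rw [if_pos rfl]; exact prod_zero)⟩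
    · exact ⟨Pi.single (Fin.last 5) 1, equiv_model _ hQ (by norm_num) hcard false
        (iff_of_false Bool.false_ne_true hA) (by rw [if_neg Bool.false_ne_true]; exact prod_last 5)⟩
  let σ : CZ z →* isoGrp e :=
    Model.autHom.comp ((MulAut.congr ψ).toMonoidHom.comp (MulAut.conjNormal (H := Q)))
  let u : CZ z → Coord 6 := fun x => if hx : x ∈ Q then (ψ ⟨x, hx⟩).v else 0
  have hu : ∀ (x : CZ z) (hx : x ∈ Q), u x = (ψ ⟨x, hx⟩).v := fun x hx => dif_pos hx
  have hcen : ∀ (x : CZ z) (hx : x ∈ Q), (ψ ⟨x, hx⟩).v = 0 ↔ (x : G) = 1 ∨ (x : G) = z := by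
    intro x hx
    rw [← Model.mem_center_iff]
    constructor
    · intro h
      refine st.eq_of_forall (mem_QG hx) ?_
      rintro _ ⟨q, hq, rfl⟩
      have h1 := Subgroup.mem_center_iff.mp h (ψ ⟨q, hq⟩)
      rw [← map_mul, ← map_mul] at h1
      exact congrArg (fun w : Q => ((w : CZ z) : G)) (ψ.injective h1)
    · intro h
      refine Subgroup.mem_center_iff.mpr fun m => ?_
      obtain ⟨q, rfl⟩ := ψ.surjective m
      rw [← map_mul, ← map_mul]
      refine congrArg ψ (Subtype.ext (Subtype.ext ?_))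
      show ((q : CZ z) : G) * x = x * (q : CZ z)
      rcases h with h | h
      · rw [h, mul_one, one_mul]
      · rw [h]; exact st.z_comm (mem_QG q.2)
  refine ⟨e, u, σ, st, hQG, ?_, ?_, ?_, ?_, ?_, ?_⟩
  · intro x hx y hy
    rw [hu x hx, hu y hy, hu _ (mul_mem hx hy), ← Model.mul_v, ← map_mul]
    rfl
  · intro x hx; rw [hu x hx, hcen]
  · intro x hx
    rw [hu x hx]
    have h2 : ψ (⟨x, hx⟩ * ⟨x, hx⟩) = (⟨0, qq e (ψ ⟨x, hx⟩).v⟩ : Model e) := by
      rw [map_mul]
      ext1
      · rw [Model.mul_v]; exact funext fun i => CharTwo.add_self_eq_zero _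
      · rw [Model.mul_a, CharTwo.add_self_eq_zero, zero_add]; rfl
    constructor
    · intro h
      have h1 : (⟨x, hx⟩ * ⟨x, hx⟩ : Q) = 1 := Subtype.ext (Subtype.ext h)
      rw [h1, map_one] at h2
      exact (congrArg Model.a h2).symm
    · intro h
      rw [h] at h2
      have h1 : (⟨x, hx⟩ * ⟨x, hx⟩ : Q) = 1 := ψ.injective (by rw [h2, map_one]; rfl)
      exact congrArg (fun w : Q => ((w : CZ z) : G)) h1
  · intro a
    exact ⟨_, (ψ.symm ⟨a, 0⟩).2, by rw [hu _ (ψ.symm _).2]; simp⟩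
  · intro h x hx
    rw [hu x hx, hu _ ((inferInstance : Q.Normal).conj_mem x hx h)]
    show _ = Model.autEquiv (MulAut.congr ψ (MulAut.conjNormal h)) (ψ ⟨x, hx⟩).v
    show _ = ((MulAut.congr ψ (MulAut.conjNormal h)) (⟨(ψ ⟨x, hx⟩).v, 0⟩ : Model e)).v
    rw [← Model.aut_v]
    show _ = (ψ ((MulAut.conjNormal h) (ψ.symm (ψ ⟨x, hx⟩)))).v
    rw [ψ.symm_apply_apply]
    refine congrArg (fun w => (ψ w).v) (Subtype.ext ?_)
    rw [MulAut.conjNormal_apply]
  · intro h
    constructor
    · intro hh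
      have hk : MulAut.congr ψ (MulAut.conjNormal h) ∈ Cfsg.Inn (Model e) := by
        rw [← Model.ker_autHom]; exact hh
      obtain ⟨m, hm⟩ := hk
      obtain ⟨a, rfl⟩ := ψ.surjective m
      have key : ∀ q : Q, (h : CZ z) * q * h⁻¹ = (a : CZ z) * q * (a : CZ z)⁻¹ := fun q => by
        have h1 := congrArg (fun f : MulAut (Model e) => f (ψ q)) hm
        simp only [MulAut.conj_apply] at h1
        have h2 : ψ (a * q * a⁻¹) = ψ (MulAut.conjNormal h q) := by
          rw [map_mul, map_mul, map_inv, h1]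
          show ψ ((MulAut.conjNormal h) (ψ.symm (ψ q))) = _
          rw [ψ.symm_apply_apply]
        have h3 := congrArg (Subtype.val) (ψ.injective h2)
        rw [MulAut.conjNormal_apply] at h3
        exact h3.symm
      have hc : (((a : CZ z)⁻¹ * h : CZ z) : G) ∈ Subgroup.centralizer (QG Q : Set G) := by
        rw [Subgroup.mem_centralizer_iff]
        rintro _ ⟨q, hq, rfl⟩
        have h1 := key ⟨q, hq⟩
        simp only at h1
        have h2 : q * ((a : CZ z)⁻¹ * h) = (a : CZ z)⁻¹ * h * q := by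
          calc q * ((a : CZ z)⁻¹ * h) = (a : CZ z)⁻¹ * ((a : CZ z) * q * (a : CZ z)⁻¹) * h := by group
            _ = (a : CZ z)⁻¹ * (h * q * h⁻¹) * h := by rw [h1]
            _ = _ := by group
        exact congrArg Subtype.val h2
      rw [st.cQ] at hc
      have hmem : (a : CZ z)⁻¹ * h ∈ Q := of_mem_QG ((Subgroup.zpowers_le.mpr st.z_mem) hc)
      have := mul_mem a.2 hmem
      rwa [mul_inv_cancel_left] at this
    · intro hh
      show MulAut.congr ψ (MulAut.conjNormal h) ∈ (Model.autHom : MulAut (Model e) →* isoGrp e).ker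
      rw [Model.ker_autHom]
      refine ⟨ψ ⟨h, hh⟩, MulEquiv.ext fun m => ?_⟩
      obtain ⟨q, rfl⟩ := ψ.surjective m
      show ψ ⟨h, hh⟩ * ψ q * (ψ ⟨h, hh⟩)⁻¹ = ψ ((MulAut.conjNormal h) (ψ.symm (ψ q)))
      rw [ψ.symm_apply_apply, ← map_inv, ← map_mul, ← map_mul]
      refine congrArg ψ (Subtype.ext ?_)
      rw [MulAut.conjNormal_apply]
      rfl

end CfsgLib.FiTwentyFourType
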