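import Cfsg.Agent.Lib.FiTwentyFourType.Sign
import Cfsg.Agent.Lib.LargeFischer.Trace

/-!
Conjugates of the central involution inside the extraspecial group avoid the point vectors, and, with the
core alone, all vectors.
-/

set_option autoImplicit false
set_option maxRecDepth 100000
set_option linter.style.haveILetI false
set_option linter.unusedSectionVars false

namespace CfsgLib.FiTwentyFourType

open CfsgLib.Extraspecial
open CfsgLib.LargeFischer (CZ QG mem_QG of_mem_QG KKp oP coreFix v0 s0 rGen xGen fam15)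
open CfsgLib.Fi22USix (V6 code nrm)
open CfsgLib.USixUFour (InP isOff mv act coreK)

variable {G : Type*} [Group G] [Finite G] {z : G} {Q K : Subgroup (CZ z)} {v : CZ z → V6}
  {ρ : CZ z →* Equiv.Perm V6}

/-- a 2-group normalised by the point stabiliser of the core has at most four elements -/
theorem point_four (E : Subgroup (Equiv.Perm V6)) (hle : E ≤ ExtS) (hfix : ∀ a ∈ E, a v0 = v0)
    (hn : ∀ f ∈ coreFix v0, ∀ a ∈ E, f * a * f⁻¹ ∈ E) (hE : IsPGroup 2 E) : Nat.card E ≤ 4 := by
  classical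
  obtain ⟨heq, φ, hinj, htr⟩ := LargeFischer.point_core
  let E0 : Subgroup ↥(Subgroup.closure (Set.range rGen)) := E.subgroupOf _
  haveI : E0.Normal := ⟨fun a ha g => hn _ (heq.le g.2) _ ha⟩
  have hE0 : IsPGroup 2 E0 := by
    refine hE.of_injective (MonoidHom.mk' (fun a => (⟨(a.1 : Equiv.Perm V6), a.2⟩ : E)) fun a b => rfl) fun a b e => ?_
    exact Subtype.ext (Subtype.ext (congrArg (fun u : E => (u : Equiv.Perm V6)) e))
  have htriv := LargeFischer.two_trivial φ (by norm_num) htr E0 hE0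
  have key : ∀ a ∈ E, a ∈ KKp → a = 1 := fun a ha hk => by
    have hc : a ∈ coreFix v0 := ⟨hk, hfix a ha⟩
    have h1 : φ ⟨a, heq.ge hc⟩ = φ 1 := (MonoidHom.mem_ker.mp (htriv ha)).trans (map_one φ).symm
    exact congrArg Subtype.val (hinj h1)
  let F : E → Option (Fin 3) := fun a =>
    if (a : Equiv.Perm V6) ∈ KKp then none else
      if h : ∃ o : Fin 3, oP o * (a : Equiv.Perm V6) ∈ KKp then some h.choose else none
  have hF : Function.Injective F := by
    intro a b e
    by_cases ha : (a : Equiv.Perm V6) ∈ KKp <;> by_cases hb : (b : Equiv.Perm V6) ∈ KKp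
    · exact Subtype.ext ((key _ a.2 ha).trans (key _ b.2 hb).symm)
    · have h := (ext_cases (hle b.2)).resolve_left hb
      simp [F, ha, hb, h] at e
    · have h := (ext_cases (hle a.2)).resolve_left ha
      simp [F, ha, hb, h] at e
    · have h := (ext_cases (hle a.2)).resolve_left ha
      have h' := (ext_cases (hle b.2)).resolve_left hb
      simp only [F, if_neg ha, if_neg hb, dif_pos h, dif_pos h', Option.some.injEq] at e
      exact Subtype.ext (inv_mul_eq_one.mp
        (key _ (mul_mem (inv_mem a.2) b.2) (same_coset h.choose_spec (e ▸ h'.choose_spec))))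
  refine (Nat.card_le_card_of_injective F hF).trans (le_of_eq ?_)
  rw [Nat.card_eq_fintype_card, Fintype.card_option, Fintype.card_fin]

/-- a 2-group normalised by the off stabiliser of the core and inside it has at most sixteen elements -/
theorem off_sixteen (E : Subgroup (Equiv.Perm V6)) (hle : E ≤ coreFix s0)
    (hn : ∀ f ∈ coreFix s0, ∀ a ∈ E, f * a * f⁻¹ ∈ E) (hE : IsPGroup 2 E) : Nat.card E ≤ 16 := by
  classical
  have heq := LargeFischer.coreFix_eq
  obtain ⟨φ, -, hφt⟩ := LargeFischer.exists_fam fam15 LargeFischer.fam15_inj xGen LargeFischer.x15Perm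
    fun k => by rw [LargeFischer.xGen_coe]; exact (LargeFischer.x15_agree k).1
  have hge := LargeFischer.range_ge φ hφt LargeFischer.x15_ok
  have htr := LargeFischer.trans_of φ hφt (ls := LargeFischer.x15Lev.tail) (l := LargeFischer.x15Lev.headI)
    (prog := LargeFischer.x15Prog) ((show LargeFischer.x15Lev.headI :: LargeFischer.x15Lev.tail = LargeFischer.x15Lev
      by decide +kernel).symm ▸ LargeFischer.x15_ok.1) (by decide +kernel) (by decide +kernel)
  let E' : Subgroup ↥(Subgroup.closure (Set.range xGen)) := E.subgroupOf _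
  haveI : E'.Normal := ⟨fun a ha g => hn _ (heq.le g.2) _ ha⟩
  have hEle : E ≤ Subgroup.closure (Set.range xGen) := heq.symm ▸ hle
  have hker := LargeFischer.two_trivial φ (by norm_num) htr E'
    (hE.of_equiv (Subgroup.subgroupOfEquivOfLe hEle).symm)
  have hsplit := Subgroup.card_eq_card_quotient_mul_card_subgroup φ.ker
  rw [Nat.card_congr (QuotientGroup.quotientKerEquivRange φ).toEquiv] at hsplit
  have hc : Nat.card ↥(Subgroup.closure (Set.range xGen)) ≤ 5760 := heq ▸ LargeFischer.coreFix_off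
  have hk : 360 * Nat.card φ.ker ≤ 5760 := (Nat.mul_le_mul_right _ hge).trans (hsplit ▸ hc)
  rw [← Nat.card_congr (Subgroup.subgroupOfEquivOfLe hEle).toEquiv]
  have := Subgroup.card_le_of_le hker
  exact le_trans this (by omega)

namespace CX

variable (C : CX z Q K v ρ)
include C

/-- a commutative subgroup of the extraspecial group has at most 128 elements -/
theorem comm_card_le {A : Subgroup (CZ z)} (hA : A ≤ Q) (hc : ∀ a ∈ A, ∀ b ∈ A, (a : G) * b = b * a) :
    Nat.card A ≤ 128 := by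
  classical
  set W := Finset.univ.filter fun w => ∃ a ∈ A, v a = w with hWd
  have hmem : ∀ {w}, w ∈ W ↔ ∃ a ∈ A, v a = w := fun {w} =>
    ⟨fun hw => (Finset.mem_filter.mp hw).2, fun hw => Finset.mem_filter.mpr ⟨Finset.mem_univ _, hw⟩⟩
  have hW : Closed W := by
    refine ⟨hmem.mpr ⟨1, one_mem _, C.v_one⟩, fun a ha b hb => ?_⟩
    obtain ⟨x, hx, rfl⟩ := hmem.mp ha
    obtain ⟨y, hy, rfl⟩ := hmem.mp hb
    exact hmem.mpr ⟨x * y, mul_mem hx hy, C.vmul x (hA hx) y (hA hy)⟩
  have h64 := C.iso_le hW fun a ha b hb => by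
    obtain ⟨x, hx, rfl⟩ := hmem.mp ha
    obtain ⟨y, hy, rfl⟩ := hmem.mp hb
    exact (C.comm_iff (hA hx) (hA hy)).mpr (hc x hx y hy)
  let s : ↥W → A := fun w => ⟨(hmem.mp w.2).choose, (hmem.mp w.2).choose_spec.1⟩
  have hs : ∀ w, v (s w : CZ z) = w.1 := fun w => (hmem.mp w.2).choose_spec.2
  let π : A → Bool × ↥W := fun a =>
    (decide ((a : G) = ((s ⟨v a, hmem.mpr ⟨a, a.2, rfl⟩⟩ : CZ z) : G)), ⟨v a, hmem.mpr ⟨a, a.2, rfl⟩⟩)
  have hπ : Function.Injective π := by
    intro a b e
    simp only [π, Prod.mk.injEq] at e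
    obtain ⟨e1, e2⟩ := e
    rw [e2] at e1
    have hvab : v (a : CZ z) = v (b : CZ z) := congrArg Subtype.val e2
    set w := s ⟨v (b : CZ z), hmem.mpr ⟨b, b.2, rfl⟩⟩ with hw
    have hvw : v (w : CZ z) = v (b : CZ z) := hs _
    refine Subtype.ext (Subtype.ext ?_)
    rcases C.eq_cases (hA w.2) (hA a.2) (hvw.trans hvab.symm) with ea | ea <;>
      rcases C.eq_cases (hA w.2) (hA b.2) hvw with eb | eb
    · rw [ea, eb]
    · exfalso
      rw [ea, eb, decide_eq_decide] at e1
      exact C.st.ne_one (mul_eq_right.mp (e1.mp rfl))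
    · exfalso
      rw [ea, eb, decide_eq_decide] at e1
      exact C.st.ne_one (mul_eq_right.mp (e1.mpr rfl))
    · rw [ea, eb]
  have h2 := Nat.card_le_card_of_injective π hπ
  rw [Nat.card_prod, Nat.card_eq_fintype_card (α := Bool), Fintype.card_bool, Nat.card_eq_finsetCard] at h2
  omega

/-- the trace of a conjugate in the extraspecial group, over a chosen image of its vector -/
theorem exists_trace {x : CZ z} (hx : x ∈ Q) {g : G} (ex : (x : G) = g * z * g⁻¹) (hne : (x : G) ≠ z)
    {w : V6} (hw : ∃ h : CZ z, ρ h (v x) = w) :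
    ∃ E : Subgroup (Equiv.Perm V6), E ≤ ρ.range ∧ (∀ a ∈ E, a w = w) ∧
      (∀ f ∈ KKp, f w = w → ∀ a ∈ E, f * a * f⁻¹ ∈ E) ∧ IsPGroup 2 E ∧ 32 ≤ Nat.card E := by
  obtain ⟨h, rfl⟩ := hw
  obtain ⟨x', hx'd⟩ : ∃ x', x' = h * x * h⁻¹ := ⟨_, rfl⟩
  have hx' : x' ∈ Q := hx'd ▸ C.qn.conj_mem x hx h
  set g' := (h : G) * g with hg'
  have ex' : (x' : G) = g' * z * g'⁻¹ := by
    rw [hx'd]
    show (h : G) * x * (h : G)⁻¹ = _
    rw [ex, hg']; group
  have hne' : g' * z * g'⁻¹ ≠ z := fun e => hne (by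
    have h1 : (h : G) * z = z * h := Subgroup.mem_centralizer_singleton_iff.mp h.2
    calc (x : G) = (h : G)⁻¹ * (g' * z * g'⁻¹) * h := by rw [ex, hg']; group
      _ = (h : G)⁻¹ * (z * h) := by rw [e, mul_assoc]
      _ = z := by rw [← h1, inv_mul_cancel_left])
  have c : Pair (QG Q) z g' := ⟨C.st, ex' ▸ mem_QG hx', hne', by rw [C.card]; norm_num⟩
  have hv : v x' = ρ h (v x) := hx'd ▸ C.vconj h x hx
  have hv0 : v x' ≠ 0 := fun e => by
    rcases (C.vzero x' hx').mp e with e1 | e1
    · exact c.ne_one' (ex' ▸ e1)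
    · exact hne' (ex' ▸ e1)
  refine ⟨(PB Q g').map ρ, ?_, ?_, ?_, C.image_two g', ?_⟩
  · rintro _ ⟨b, -, rfl⟩; exact ⟨b, rfl⟩
  · rintro _ ⟨b, hb, rfl⟩
    have hbx : b * x' = x' * b := Subtype.ext (by
      rw [Subgroup.coe_mul, Subgroup.coe_mul, ex']; exact c.s'.z_comm hb)
    rw [← hv, ← C.vconj b x' hx', hbx, mul_inv_cancel_right]
  · rintro f hf hfw _ ⟨b, hb, rfl⟩
    obtain ⟨k, -, rfl⟩ := C.onto f hf
    have hkx := C.qn.conj_mem x' hx' k
    have hkv : v (k * x' * k⁻¹) = v x' := by rw [C.vconj k x' hx', hv]; exact hfw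
    obtain ⟨u, hu, eu⟩ := C.conj_same hkx hx' hkv (by rw [hkv]; exact hv0)
    have hn : ((u * k : CZ z) : G) ∈ Subgroup.normalizer (((QG Q).map (MulAut.conj g').toMonoidHom : Subgroup G) : Set G) := by
      refine c.s'.cz (Subgroup.mem_centralizer_singleton_iff.mpr ?_)
      rw [← ex']
      refine mul_inv_eq_iff_eq_mul.mp (congrArg Subtype.val (show u * k * x' * (u * k)⁻¹ = x' from ?_))
      calc u * k * x' * (u * k)⁻¹ = u * (k * x' * k⁻¹) * u⁻¹ := by group
        _ = _ := eu
    refine ⟨u * k * b * (u * k)⁻¹, (Subgroup.mem_normalizer_iff.mp hn (b : G)).mp hb, ?_⟩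
    rw [map_mul, map_mul, map_inv, map_mul, (C.ker u).mpr hu, one_mul]
  · obtain ⟨_, ⟨q, hq, rfl⟩, eq⟩ := c.mem'
    have eq' : g' * (q : G) * g'⁻¹ = z := eq
    have e2 : (q : G) = g'⁻¹ * z * g' := by
      calc (q : G) = g'⁻¹ * (g' * (q : G) * g'⁻¹) * g' := by group
        _ = _ := by rw [eq']
    have h4096 : 4096 ≤ Nat.card (PA Q q) := by
      refine le_trans (le_of_eq ?_) (C.pa_ge q).1
      have h1 : ρ q = 1 := (C.ker q).mpr hq
      simp only [h1, Equiv.Perm.one_apply]
      rw [Nat.card_congr (Equiv.subtypeUnivEquiv fun _ => trivial), Nat.card_fun, Nat.card_fin, Nat.card_eq_fintype_card,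
        HePres.K4.card_eq]
      norm_num
    have hD : Nat.card (PD Q g') ≤ 128 := C.comm_card_le inf_le_left fun a ha b hb => by
      rcases C.st.comm_cases (mem_QG ha.1) (mem_QG hb.1) with e | e
      · exact mul_inv_eq_iff_eq_mul.mp e
      · rcases c.s'.comm_cases ha.2 hb.2 with e' | e'
        · exact mul_inv_eq_iff_eq_mul.mp e'
        · exact absurd (mul_right_cancel (e'.symm.trans e)) hne'
    rw [← C.pb_card e2, ← C.image_card g'] at h4096
    by_contra hlt
    have := Nat.mul_le_mul (show Nat.card ↥((PB Q g').map ρ) ≤ 31 by omega) hD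
    omega

/-- no conjugate of the central involution lies over a point vector -/
theorem no_point : NoP z Q v := by
  intro g x hx ex hne hP
  obtain ⟨c, hc, e⟩ := LargeFischer.inP_move hP
  obtain ⟨k, -, ek⟩ := C.onto _ (show (act c)⁻¹ ∈ KKp from inv_mem ⟨c, hc, rfl⟩)
  have hw : ρ k (v x) = v0 := by rw [ek, ← e]; exact (act c).symm_apply_apply v0
  obtain ⟨E, hle, hfix, hn, hp, h32⟩ := C.exists_trace hx ex hne ⟨k, hw⟩
  have := point_four E (fun a ha => by obtain ⟨h, rfl⟩ := hle ha; exact C.ext h) hfix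
    (fun f hf => hn f hf.1 hf.2) hp
  omega

/-- with the core alone the central involution is weakly closed -/
theorem wcl_of_core (hall : ∀ h : CZ z, ρ h ∈ KKp) : WCl z Q := by
  intro g x hx ex
  by_contra hne
  have h2 : (x : G) * x = 1 := ex ▸ (C.st.conj g).zz
  have h0 : v x ≠ 0 := fun e => by
    rcases (C.vzero x hx).mp e with e1 | e1
    · exact (C.st.conj g).ne_one (ex ▸ e1)
    · exact hne e1
  have hoff : isOff (code (v x)) = true :=
    (LargeFischer.isotropic_cases ((C.vsq x hx).mp h2) h0).resolve_left (C.no_point g x hx ex hne)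
  have hs : isOff (code s0) = true :=
    (LargeFischer.isotropic_cases LargeFischer.v0_spec.2.2.2.1 LargeFischer.v0_spec.2.2.2.2.1).resolve_left
      LargeFischer.v0_spec.2.2.2.2.2
  obtain ⟨c, hc, e⟩ := USixUFour.off_move hoff hs
  obtain ⟨k, -, ek⟩ := C.onto _ (show act c ∈ KKp from ⟨c, hc, rfl⟩)
  have hw : ρ k (v x) = s0 := by rw [ek]; exact e
  obtain ⟨E, hle, hfix, hn, hp, h32⟩ := C.exists_trace hx ex hne ⟨k, hw⟩
  have := off_sixteen E (fun a ha => ⟨by obtain ⟨h, rfl⟩ := hle ha; exact hall h, hfix a ha⟩)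
    (fun f hf => hn f hf.1 hf.2) hp
  omega

/-- weak closure forces isolation -/
theorem isolated (hwc : WCl z Q) (g : G) (hg : g * z * g⁻¹ ∈ CZ z) : g * z * g⁻¹ = z := by
  by_contra hne
  set t : CZ z := ⟨_, hg⟩
  have c : Cj z Q g t := ⟨rfl, fun h => hne (hwc g t h rfl)⟩
  have hlin : ∀ (g : G) (t : CZ z), Cj z Q g t → Turn (Fi22USix.el 2) (ρ t) → t ∈ K :=
    fun g t c h => C.no_linear_outer C.no_point c.et h
  rcases (C.ext t).2.2.1 with h | h
  · exact C.wc_inner hwc c (hlin g t c h)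
  · exact C.wc_semi hwc c h hlin

end CX

end CfsgLib.FiTwentyFourType
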