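import Cfsg.Agent.Lib.FiTwentyFourType.Fusion
import Cfsg.Agent.Lib.Fi24Amalgam.Final
import Cfsg.Agent.Lib.M24Recog.Glue
import Cfsg.Agent.Lib.GTwoTwo.FieldCongr
import Cfsg.Agent.Lib.Layer.CharP
import Cfsg.Agent.Lib.Extraspecial.LargeCriteria
import Cfsg.Agent.Lib.USixType.Main

/-!
The characterisation of the largest Fischer groups by the centraliser of an involution.
-/

set_option autoImplicit false
set_option maxRecDepth 100000
set_option linter.style.haveILetI false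
set_option linter.unusedSectionVars false

namespace CfsgLib.FiTwentyFourType

open CfsgLib.Extraspecial
open CfsgLib.LargeFischer (CZ QG mem_QG of_mem_QG KKp oP)
open CfsgLib.Fi22USix (V6)

variable {G : Type*} [Group G] [Finite G] {z : G} {Q K : Subgroup (CZ z)} {v : CZ z → V6}
  {ρ : CZ z →* Equiv.Perm V6}

namespace CX

variable (C : CX z Q K v ρ) [K.Normal]
include C

theorem quot_sq (x : CZ z ⧸ K) : x ^ 2 = 1 := by
  obtain ⟨h, rfl⟩ := QuotientGroup.mk_surjective x
  rw [pow_two, ← QuotientGroup.mk_mul, QuotientGroup.eq_one_iff]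
  exact C.sq_mem h

/-- the index of the core: one, two or four, and four only with every coset -/
theorem index_cases : (K.index = 1 ∨ K.index = 2 ∨ K.index = 4) ∧ (K.index = 4 → oP 0 ∈ ρ.range) := by
  classical
  have hcase : ∀ h : CZ z, h ∈ K ∨ ∃ o : Fin 3, oP o * ρ h ∈ KKp := fun h =>
    (ext_cases (C.ext h)).imp_left (C.core h).mp
  let F : CZ z ⧸ K → Option (Fin 3) := fun x =>
    if hx : x.out ∈ K then none else some ((hcase x.out).resolve_left hx).choose
  have hF : Function.Injective F := by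
    intro a b e
    refine (QuotientGroup.out_eq' a).symm.trans ((QuotientGroup.eq.mpr ?_).trans (QuotientGroup.out_eq' b))
    by_cases ha : a.out ∈ K <;> by_cases hb : b.out ∈ K
    · exact mul_mem (inv_mem ha) hb
    · simp [F, ha, hb] at e
    · simp [F, ha, hb] at e
    · simp only [F, dif_neg ha, dif_neg hb, Option.some.injEq] at e
      refine (C.core _).mp ?_
      rw [map_mul, map_inv]
      exact same_coset ((hcase a.out).resolve_left ha).choose_spec (e ▸ ((hcase b.out).resolve_left hb).choose_spec)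
  have h4 : K.index ≤ 4 := by
    refine (Nat.card_le_card_of_injective F hF).trans (le_of_eq ?_)
    rw [Nat.card_eq_fintype_card, Fintype.card_option, Fintype.card_fin]
  refine ⟨?_, fun h => ?_⟩
  · haveI := Fact.mk Nat.prime_two
    obtain ⟨k, hk⟩ := IsPGroup.iff_card.mp (show IsPGroup 2 (CZ z ⧸ K) from fun x => ⟨1, by rw [pow_one]; exact C.quot_sq x⟩)
    have hi : K.index = 2 ^ k := hk
    rw [hi] at h4 ⊢
    have : k ≤ 2 := (Nat.pow_le_pow_iff_right one_lt_two).mp (h4.trans (le_of_eq (by norm_num)))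
    interval_cases k <;> simp
  · have hb : Function.Bijective F := (Nat.bijective_iff_injective_and_card F).mpr ⟨hF, by
      rw [show Nat.card (CZ z ⧸ K) = 4 from h, Nat.card_eq_fintype_card, Fintype.card_option, Fintype.card_fin]⟩
    obtain ⟨a, ha⟩ := hb.2 (some 0)
    have hn : a.out ∉ K := fun hx => by simp [F, hx] at ha
    simp only [F, dif_neg hn, Option.some.injEq] at ha
    have hs := ((hcase a.out).resolve_left hn).choose_spec
    rw [ha] at hs
    obtain ⟨k, -, ek⟩ := C.onto _ hs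
    refine ⟨k * (a.out)⁻¹, ?_⟩
    rw [map_mul, map_inv, ek, mul_inv_cancel_right]

/-- index four: the hypotheses of the recognition hold in the kernel of the sign -/
theorem iso_of_four {M : Subgroup (CZ z)} [hM : M.Normal] (hz : orderOf z = 2)
    (hCQ : Subgroup.centralizer (Cfsg.pCore 2 (CZ z) : Set (CZ z)) ≤ Cfsg.pCore 2 (CZ z))
    (hQ : Q = Cfsg.pCore 2 (CZ z)) (hex : Cfsg.IsExtraspecial 2 Q) (hQM : Q ≤ M) (hMK : M ≤ K)
    (hM3 : Nat.card M = 3 * Nat.card Q) {L : Type} [Field L] [Fintype L] (hL : Fintype.card L = 9)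
    (e : K ⧸ M.subgroupOf K ≃* Cfsg.PSU 4 L 3) (h4 : K.index = 4)
    {g : G} {x : CZ z} (hx : x ∈ Q) (ex : (x : G) = g * z * g⁻¹) (hne : (x : G) ≠ z) :
    Nonempty (G ≃* Cfsg.Spor.Fi24) := by
  classical
  haveI := C.qn
  haveI := Fact.mk Nat.prime_two
  obtain ⟨V, ⟨g1, hg1⟩, hVK, hVout⟩ := C.exists_sign C.no_point (C.index_cases.2 h4)
  obtain ⟨zc, hzc, ez, -⟩ := C.z_in
  obtain ⟨h0, e0⟩ := C.index_cases.2 h4
  have hV0 : V (h0 : G) = -1 := hVout h0 (by rw [e0, oP_invol]; exact one_mem _)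
  have hu : ∀ a : ℤˣ, a = 1 ∨ a = -1 := Int.units_eq_one_or
  let G0 : Subgroup G := V.ker
  have hidx : G0.index = 2 := by
    have hs : Function.Surjective V := fun a => (hu a).elim (fun ha => ⟨1, by rw [map_one, ha]⟩) fun ha => ⟨g1, by rw [hg1, ha]⟩
    rw [Subgroup.index_ker, MonoidHom.range_eq_top.mpr hs, Subgroup.card_top, Nat.card_eq_fintype_card, Fintype.card_units_int]
  have hzG : z ∈ G0 := MonoidHom.mem_ker.mpr (ez ▸ hVK zc (C.q_le hzc))
  let z' : ↥G0 := ⟨z, hzG⟩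
  let W : CZ z →* ℤˣ := V.comp (CZ z).subtype
  let Hs : Subgroup (CZ z) := W.ker
  haveI : Hs.Normal := MonoidHom.normal_ker W
  have hKH : K ≤ Hs := fun k hk => hVK k hk
  let i : CZ z' →* CZ z := MonoidHom.mk' (fun a => ⟨((a : ↥G0) : G), Subgroup.mem_centralizer_singleton_iff.mpr
    (congrArg Subtype.val (Subgroup.mem_centralizer_singleton_iff.mp a.2))⟩) fun a b => rfl
  have hi : Function.Injective i := fun a b h =>
    Subtype.ext (Subtype.ext (congrArg Subtype.val h :))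
  have hir : i.range = Hs := by
    refine le_antisymm ?_ fun h hh => ?_
    · rintro _ ⟨a, rfl⟩; exact (a : ↥G0).2
    · exact ⟨⟨⟨(h : G), hh⟩, Subgroup.mem_centralizer_singleton_iff.mpr (Subtype.ext
        (Subgroup.mem_centralizer_singleton_iff.mp h.2))⟩, rfl⟩
  let eI : CZ z' ≃* ↥Hs := (MonoidHom.ofInjective hi).trans (MulEquiv.subgroupCongr hir)
  have heI : ∀ a, ((eI a : ↥Hs) : CZ z) = i a := fun a => rfl
  let Q' : Subgroup (CZ z') := Q.comap i
  let M' : Subgroup (CZ z') := M.comap i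
  let K' : Subgroup (CZ z') := K.comap i
  haveI : Q'.Normal := Subgroup.Normal.comap C.qn i
  haveI : M'.Normal := Subgroup.Normal.comap hM i
  haveI : K'.Normal := Subgroup.Normal.comap (inferInstance : K.Normal) i
  have hmap : ∀ {S : Subgroup (CZ z)}, S ≤ Hs → (S.comap i).map i = S := fun {S} h => by
    rw [Subgroup.map_comap_eq, hir, inf_eq_right]; exact h
  have hcard : ∀ {S : Subgroup (CZ z)}, S ≤ Hs → Nat.card (S.comap i) = Nat.card S := fun {S} h => by
    rw [← Subgroup.card_map_of_injective hi, hmap h]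
  have hQH : Q ≤ Hs := C.q_le.trans hKH
  -- the setting
  have hC' : Subgroup.centralizer (Cfsg.pCore 2 (CZ z') : Set (CZ z')) ≤ Cfsg.pCore 2 (CZ z') :=
    CharCore.cp_congr eI.symm (PSolvable.centralizer_pCore_le_of_normal hCQ Hs)
  have hcore : Cfsg.pCore 2 (CZ z') = Q' := by
    refine le_antisymm (fun a ha => ?_) (Fitting.le_pCore inferInstance ?_)
    · have h1 : eI a ∈ Cfsg.pCore 2 Hs := CharCore.map_pCore (p := 2) eI ▸ Subgroup.mem_map_of_mem _ ha
      have h2 := PSolvable.map_pCore_le (p := 2) Hs (Subgroup.mem_map_of_mem Hs.subtype h1)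
      rw [← hQ] at h2
      exact h2
    · exact IsPGroup.comap_of_injective ((IsPGroup.of_card (show Nat.card Q = 2 ^ 13 by
        rw [← C.card]; exact (Subgroup.card_map_of_injective (CZ z).subtype_injective).symm))) i hi
  have hF' : Cfsg.generalizedFittingSubgroup (CZ z') = Q' := by
    rw [Layer.generalizedFitting_eq_pCore_iff.mpr hC']; exact hcore
  have hQ13 : Nat.card Q = 2 ^ 13 := by
    rw [← C.card]; exact (Subgroup.card_map_of_injective (CZ z).subtype_injective).symm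
  have hex' : Cfsg.IsExtraspecial 2 Q' :=
    isExtraspecial_congr (((Q'.equivMapOfInjective i hi).trans (MulEquiv.subgroupCongr (hmap hQH))).symm) hex
  have hz' : orderOf z' = 2 := by rw [← hz]; exact (Subgroup.orderOf_coe z').symm
  -- a conjugate inside
  have hVx : V g = 1 ∨ V g = -1 := hu _
  obtain ⟨g', hg', eg'⟩ : ∃ g', V g' = 1 ∧ g' * z * g'⁻¹ = (x : G) := by
    rcases hVx with h | h
    · exact ⟨g, h, ex.symm⟩
    · refine ⟨g * h0, by rw [map_mul, h, hV0, neg_mul_neg, one_mul], ?_⟩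
      have h1 : (h0 : G) * z = z * h0 := Subgroup.mem_centralizer_singleton_iff.mp h0.2
      calc g * h0 * z * (g * h0)⁻¹ = g * ((h0 : G) * z) * (h0 : G)⁻¹ * g⁻¹ := by group
        _ = _ := by rw [h1, ex]; group
  let gz : ↥G0 := ⟨g', hg'⟩
  have hgz : gz * z' * gz⁻¹ ∈ CZ z' := Subgroup.mem_centralizer_singleton_iff.mpr (Subtype.ext (by
    show g' * z * g'⁻¹ * z = z * (g' * z * g'⁻¹)
    rw [eg']
    exact Subgroup.mem_centralizer_singleton_iff.mp x.2))
  have hsub : (M'.subgroupOf K').map (i.subgroupComap K) = M.subgroupOf K := by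
    ext a
    constructor
    · rintro ⟨b, hb, rfl⟩; exact hb
    · intro ha
      obtain ⟨b, hb⟩ : (a : CZ z) ∈ i.range := hir.symm ▸ hKH a.2
      exact ⟨⟨b, by show i b ∈ K; rw [hb]; exact a.2⟩, show i b ∈ M by rw [hb]; exact ha, Subtype.ext hb⟩
  have hbij : Function.Bijective (i.subgroupComap K) := by
    refine ⟨fun a b h => Subtype.ext (hi (congrArg Subtype.val h)), fun a => ?_⟩
    obtain ⟨b, hb⟩ : (a : CZ z) ∈ i.range := hir.symm ▸ hKH a.2
    exact ⟨⟨b, by show i b ∈ K; rw [hb]; exact a.2⟩, Subtype.ext hb⟩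
  let eK : ↥K' ≃* ↥K := MulEquiv.ofBijective (i.subgroupComap K) hbij
  have hidx' : K'.index = 2 := by
    have h1 : K'.index = K.relIndex Hs := by rw [Subgroup.index_comap, hir]
    have h2 := Subgroup.relIndex_mul_index hKH
    have h3 : Hs.index = 2 := by
      have hs : Function.Surjective W := fun a => (hu a).elim (fun ha => ⟨1, by rw [map_one, ha]⟩) fun ha => ⟨h0, hV0.trans ha.symm⟩
      rw [Subgroup.index_ker, MonoidHom.range_eq_top.mpr hs, Subgroup.card_top, Nat.card_eq_fintype_card, Fintype.card_units_int]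
    rw [h4, h3] at h2
    omega
  have hFi : Cfsg.IsOfLargeFischerTypeAt z' Q' := by
    refine ⟨⟨hz', hF', hex', by rw [hcard hQH, hQ13], gz, ⟨hgz, ?_⟩, ?_⟩, M', K', inferInstance, inferInstance,
      Subgroup.comap_mono hQM, Subgroup.comap_mono hMK, ?_, ⟨L, inferInstance, inferInstance, hL, ?_⟩, hidx'⟩
    · show i _ ∈ Q
      convert hx using 1
      exact Subtype.ext eg'
    · intro h
      exact hne (eg'.symm.trans (congrArg Subtype.val h))
    · rw [hcard (hMK.trans hKH), hcard hQH, hM3]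
    · exact ⟨(QuotientGroup.congr (M'.subgroupOf K') (M.subgroupOf K) eK hsub).trans e⟩
  -- the two-centrality
  have hQG : QG Q' = (QG Q).comap G0.subtype := by
    ext a
    constructor
    · rintro ⟨b, hb, rfl⟩; exact ⟨i b, hb, rfl⟩
    · rintro ⟨q, hq, e⟩
      have e' : (q : G) = (a : G) := e
      obtain ⟨b, hb⟩ : q ∈ i.range := hir.symm ▸ hQH hq
      exact ⟨b, show i b ∈ Q from hb.symm ▸ hq, Subtype.ext (by rw [← e', ← hb]; rfl)⟩
  have hQG0 : QG Q ≤ G0 := by rintro _ ⟨q, hq, rfl⟩; exact hVK q (C.q_le hq)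
  have hcentral : ∃ P : Sylow 2 ↥G0, z' ∈ (P : Subgroup ↥G0) ∧ ∀ x ∈ (P : Subgroup ↥G0), Commute x z' := by
    obtain ⟨⟨P, hP⟩, -⟩ := Large.two_central_of_large hz' (Q := QG Q') (by rintro _ ⟨b, -, rfl⟩; exact b.2)
      (fun g hg q hq => by
        obtain ⟨b, hb, rfl⟩ := hq
        exact ⟨⟨g, hg⟩ * b * ⟨g, hg⟩⁻¹, (inferInstance : Q'.Normal).conj_mem b hb _, rfl⟩)
      (hex'.1.1.of_equiv (Q'.equivMapOfInjective _ (CZ z').subtype_injective))
      ((isExtraspecial_congr (Q'.equivMapOfInjective _ (CZ z').subtype_injective) hex').2)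
      (fun a ha => by
        have h1 : (a : G) ∈ Subgroup.centralizer (QG Q : Set G) := by
          refine Subgroup.mem_centralizer_iff.mpr fun q hq => ?_
          exact congrArg Subtype.val (Subgroup.mem_centralizer_iff.mp ha ⟨q, hQG0 hq⟩ (hQG ▸ hq))
        rw [hQG, Subgroup.mem_comap]
        rw [C.st.cQ] at h1
        exact Subgroup.zpowers_le.mpr C.st.z_mem h1)
    exact ⟨P, Large.mem_sylow_of_central P hz' fun s hs => Subgroup.mem_centralizer_singleton_iff.mp (hP hs),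
      fun s hs => Subgroup.mem_centralizer_singleton_iff.mp (hP hs)⟩
  have hFX : (Cfsg.generalizedFittingSubgroup ↥(Subgroup.centralizer ({(z' : G)} : Set G))).map (Subgroup.subtype _) =
      (Q'.map (Subgroup.subtype _)).map G0.subtype := by
    show (Cfsg.generalizedFittingSubgroup (CZ z)).map (CZ z).subtype = (QG Q').map G0.subtype
    rw [Layer.generalizedFitting_eq_pCore_iff.mpr hCQ, ← hQ, hQG, Subgroup.map_comap_eq, Subgroup.range_subtype,
      inf_eq_right.mpr hQG0]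
  obtain ⟨⟨Ψ⟩, -⟩ := M24Recog.type24_of_fischer G0 hidx z' Q' hFi hcentral hFX
  exact ⟨Ψ.symm⟩

end CX

/-- The statement. -/
theorem main {G : Type*} [Group G] [Finite G] (z : G) (hz : orderOf z = 2)
    {L : Type*} [Field L] [Fintype L] (hL : Fintype.card L = 9)
    (hJ : Cfsg.IsExtraspecial 2 ↥(Cfsg.pCore 2 ↥(CZ z))) (hJc : Nat.card ↥(Cfsg.pCore 2 ↥(CZ z)) = 2 ^ 13)
    (hCJ : Subgroup.centralizer ((Cfsg.pCore 2 ↥(CZ z)) : Set ↥(CZ z)) ≤ Cfsg.pCore 2 ↥(CZ z))
    (M K : Subgroup ↥(CZ z)) [hMn : M.Normal] [hKn : K.Normal] (hJM : Cfsg.pCore 2 ↥(CZ z) ≤ M) (hMK : M ≤ K)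
    (hM3 : Nat.card ↥M = 3 * Nat.card ↥(Cfsg.pCore 2 ↥(CZ z))) (e : (↥K ⧸ M.subgroupOf K) ≃* Cfsg.PSU 4 L 3) :
    CZ z ⊔ Cfsg.oddCore G = ⊤ ∨ (K.index = 2 ∧ Cfsg.Spor.IsoFi24' G) ∨
      (K.index = 4 ∧ (∀ x : ↥(CZ z) ⧸ K, x ^ 2 = 1) ∧ Nonempty (G ≃* Cfsg.Spor.Fi24)) := by
  classical
  haveI := Fact.mk Nat.prime_two
  haveI hQn : (Cfsg.pCore 2 ↥(CZ z)).Normal := Fitting.pCore_normal 2
  obtain ⟨L0, _, _, hL0⟩ := exists_nine
  obtain ⟨e1⟩ := GTwoTwo.psu_equiv (FiniteField.ringEquivOfCardEq (K := L) (K' := L0) (hL.trans hL0.symm)) 4 3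
  let e' := e.trans e1
  let π : ↥K →* Cfsg.PSU 4 L0 3 := e'.toMonoidHom.comp (QuotientGroup.mk' (M.subgroupOf K))
  have hker : π.ker = M.subgroupOf K := by
    ext m
    rw [MonoidHom.mem_ker]
    show e' (QuotientGroup.mk' _ m) = 1 ↔ _
    rw [MulEquiv.map_eq_one_iff, QuotientGroup.mk'_apply, QuotientGroup.eq_one_iff]
  have l : Lay (Cfsg.pCore 2 ↥(CZ z)) M K π := ⟨hMn, hKn, hL0, hJM, hMK, hM3,
    e'.surjective.comp (QuotientGroup.mk'_surjective _), hker⟩
  have hF := Layer.generalizedFitting_eq_pCore_iff.mpr hCJ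
  obtain ⟨v, ρ, C⟩ := exists_cx hz hF hJ hJc l
  by_cases hwc : WCl z (Cfsg.pCore 2 ↥(CZ z))
  · exact Or.inl (USixType.sup_oddCore_of_isolated hz fun g hg => C.isolated hwc g hg)
  obtain ⟨hidx, -⟩ := C.index_cases
  have hne1 : K.index ≠ 1 := fun h => hwc (C.wcl_of_core fun x =>
    (C.core x).mpr (Subgroup.index_eq_one.mp h ▸ Subgroup.mem_top x))
  simp only [WCl, not_forall] at hwc
  obtain ⟨g, x, hx, ex, hne⟩ := hwc
  rcases hidx with h | h | h
  · exact absurd h hne1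
  · refine Or.inr (Or.inl ⟨h, Fi24Amalgam.iso_fi24 (z := z) (Cfsg.pCore 2 ↥(CZ z)) ⟨⟨hz, hF, hJ, hJc, g, ?_, ?_⟩,
      M, K, hMn, hKn, hJM, hMK, hM3, ⟨L0, inferInstance, inferInstance, hL0, ⟨e'⟩⟩, h⟩⟩)
    · refine ⟨ex ▸ x.2, ?_⟩
      rwa [show (⟨g * z * g⁻¹, ex ▸ x.2⟩ : CZ z) = x from Subtype.ext ex.symm]
    · exact ex ▸ hne
  · exact Or.inr (Or.inr ⟨h, C.quot_sq, C.iso_of_four hz hCJ rfl hJ hJM hMK hM3 hL0 e' h hx ex hne⟩)

end CfsgLib.FiTwentyFourType
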