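import Cfsg.Agent.Lib.FiTwentyFourType.Coords
import Cfsg.Agent.Lib.Extraspecial.Pair

/-!
Conjugates of the central involution in its centraliser, outside the extraspecial group.
-/

set_option autoImplicit false
set_option maxRecDepth 100000
set_option linter.style.haveILetI false
set_option linter.unusedSectionVars false

namespace CfsgLib.FiTwentyFourType

open CfsgLib.Extraspecial
open CfsgLib.LargeFischer (CZ QG mem_QG of_mem_QG KKp)
open CfsgLib.HePres (K4)
open CfsgLib.Fi22USix (V6 el nrm)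
open scoped commutatorElement

variable {G : Type*} [Group G] [Finite G] {z : G}

/-- the part of the conjugate extraspecial group in the centraliser -/
def PB (Q : Subgroup (CZ z)) (g : G) : Subgroup (CZ z) :=
  ((QG Q).map (MulAut.conj g).toMonoidHom).subgroupOf (CZ z)

/-- the intersection of the two extraspecial groups -/
def PD (Q : Subgroup (CZ z)) (g : G) : Subgroup (CZ z) := Q ⊓ PB Q g

/-- the centraliser in the extraspecial group -/
def PA (Q : Subgroup (CZ z)) (t : CZ z) : Subgroup (CZ z) := Q ⊓ Subgroup.centralizer ({t} : Set (CZ z))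

/-- all elements over fixed vectors commute with the element -/
def Full (Q : Subgroup (CZ z)) (v : CZ z → V6) (ρ : CZ z →* Equiv.Perm V6) (t : CZ z) : Prop :=
  ∀ q ∈ Q, ρ t (v q) = v q → q * t = t * q

/-- the central involution is alone in its class in the extraspecial group -/
def WCl (z : G) (Q : Subgroup (CZ z)) : Prop :=
  ∀ (g : G) (x : CZ z), x ∈ Q → (x : G) = g * z * g⁻¹ → (x : G) = z

/-- the images of the intersection -/
noncomputable def SD (Q : Subgroup (CZ z)) (v : CZ z → V6) (g : G) : Finset V6 :=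
  @Finset.filter _ (fun w => ∃ d ∈ PD Q g, v d = w) (_root_.Classical.decPred _) Finset.univ

theorem mem_SD {Q : Subgroup (CZ z)} {v : CZ z → V6} {g : G} {w : V6} :
    w ∈ SD Q v g ↔ ∃ d ∈ PD Q g, v d = w := by simp [SD]

/-- a conjugate of the central involution outside the extraspecial group -/
structure Cj (z : G) (Q : Subgroup (CZ z)) (g : G) (t : CZ z) : Prop where
  et : (t : G) = g * z * g⁻¹
  out : t ∉ Q

theorem mem_PB {Q : Subgroup (CZ z)} {g : G} {h : CZ z} :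
    h ∈ PB Q g ↔ ∃ q ∈ Q, (q : G) = g⁻¹ * h * g := by
  constructor
  · rintro ⟨_, ⟨q, hq, rfl⟩, e⟩
    refine ⟨q, hq, ?_⟩
    have e' : g * (q : G) * g⁻¹ = (h : G) := e
    rw [← e']; group
  · rintro ⟨q, hq, e⟩
    exact ⟨q, mem_QG hq, by show g * (q : G) * g⁻¹ = (h : G); rw [e]; group⟩

theorem mem_PA {Q : Subgroup (CZ z)} {t a : CZ z} : a ∈ PA Q t ↔ a ∈ Q ∧ a * t = t * a := by
  rw [PA, Subgroup.mem_inf, Subgroup.mem_centralizer_singleton_iff]

variable {Q K : Subgroup (CZ z)} {v : CZ z → V6} {ρ : CZ z →* Equiv.Perm V6}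

theorem pd_symm (g : G) : Nat.card (PD Q g) = Nat.card (PD Q g⁻¹) := by
  classical
  have key : ∀ g : G, Nat.card (PD Q g) ≤ Nat.card (PD Q g⁻¹) := fun g => by
    have hex : ∀ d : PD Q g, ∃ e : PD Q g⁻¹, ((e : CZ z) : G) = g⁻¹ * ((d : CZ z) : G) * g := by
      rintro ⟨d, hd, hd'⟩
      obtain ⟨q, hq, e⟩ := mem_PB.mp hd'
      exact ⟨⟨q, hq, mem_PB.mpr ⟨d, hd, by rw [e]; group⟩⟩, e⟩
    choose f hf using hex
    refine Nat.card_le_card_of_injective f fun a b e => Subtype.ext (Subtype.ext ?_)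
    have h := hf a
    rw [e, hf b] at h
    exact (mul_left_cancel (mul_right_cancel h)).symm
  refine le_antisymm (key g) ?_
  have := key g⁻¹
  rwa [inv_inv] at this

namespace CX

variable (C : CX z Q K v ρ)
include C

theorem z_in : ∃ zq ∈ Q, (zq : G) = z ∧ v zq = 0 := by
  obtain ⟨w, hw, e⟩ := C.st.z_mem
  exact ⟨w, hw, e, (C.vzero w hw).mpr (Or.inr e)⟩

/-- an isotropic subspace has at most 64 vectors -/
theorem iso_le {W : Finset V6} (hW : Closed W) (hiso : ∀ a ∈ W, ∀ b ∈ W, bf a b = 0) : W.card ≤ 64 := by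
  classical
  let ε : K4 → ℤ := fun a => if a = 0 then 1 else -1
  have hε : ∀ a b : V6, ∀ w, bf a w = 1 → ε (bf (b + a) w) = -ε (bf b w) := by
    intro a b w h
    rw [bf_add_left, h]
    rcases bf_values b w with e | e <;> rw [e] <;> decide +kernel
  have hex : ∀ w : V6, w ≠ 0 → ∃ a, bf a w = 1 := by
    intro w hw
    obtain ⟨q, hq, rfl⟩ := C.vsurj w
    have h1 := mt (C.vzero q hq).mpr hw
    push Not at h1
    obtain ⟨_, ⟨u, hu, rfl⟩, e⟩ := C.st.exists_move (mem_QG hq) h1.1 h1.2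
    refine ⟨v u, (bf_values _ _).resolve_left fun h0 => h1.2 ?_⟩
    have hc := (C.comm_iff hu hq).mp h0
    have e' : (u : G) * q * (u : G)⁻¹ = z * q := e
    rw [hc, mul_inv_cancel_right] at e'
    exact absurd (right_eq_mul.mp e') C.st.ne_one
  have hcol : ∀ w, w ≠ 0 → ∑ a : V6, ε (bf a w) = 0 := by
    intro w hw
    obtain ⟨a0, h0⟩ := hex w hw
    have h := Equiv.sum_comp (Equiv.addRight a0) fun a => ε (bf a w)
    simp only [Equiv.coe_addRight, hε a0 _ w h0, Finset.sum_neg_distrib] at h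
    omega
  have hrow : ∀ a, ∑ w ∈ W, ε (bf a w) = if ∀ w ∈ W, bf a w = 0 then (W.card : ℤ) else 0 := by
    intro a
    split_ifs with h
    · rw [Finset.sum_congr rfl fun w hw => show ε (bf a w) = 1 by rw [h w hw]; rfl]
      simp
    · push Not at h
      obtain ⟨w0, hw0, hn⟩ := h
      have h1 := (bf_values a w0).resolve_left hn
      have hh : ∑ w ∈ W, ε (bf a w) = ∑ w ∈ W, -ε (bf a w) := by
        refine Finset.sum_nbij' (fun w => w + w0) (fun w => w + w0) (fun w hw => hW.2 _ hw _ hw0)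
          (fun w hw => hW.2 _ hw _ hw0) (fun w _ => by rw [add_assoc, v6_self, add_zero])
          (fun w _ => by rw [add_assoc, v6_self, add_zero]) fun w _ => ?_
        rw [bf_comm a (w + w0), hε w0 w a (by rw [bf_comm]; exact h1), bf_comm w a, neg_neg]
      rw [Finset.sum_neg_distrib] at hh
      omega
  have hsum : ∑ a : V6, ∑ w ∈ W, ε (bf a w) = 4096 := by
    rw [Finset.sum_comm, Finset.sum_eq_single_of_mem 0 hW.1 fun w _ hw => hcol w hw,
      Finset.sum_congr rfl fun a _ => show ε (bf a 0) = 1 by rw [bf_zero]; rfl,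
      Finset.sum_const, nsmul_eq_mul, mul_one, Finset.card_univ, Fintype.card_pi_const, HePres.K4.card_eq]
    norm_num
  simp only [hrow, Finset.sum_ite, Finset.sum_const_zero, add_zero, Finset.sum_const, nsmul_eq_mul] at hsum
  have hle : W.card ≤ (Finset.univ.filter fun a => ∀ w ∈ W, bf a w = 0).card :=
    Finset.card_le_card fun a ha => Finset.mem_filter.mpr ⟨Finset.mem_univ _, hiso a ha⟩
  have h2 : W.card * W.card ≤ 4096 := by
    refine (Nat.mul_le_mul_right _ hle).trans (le_of_eq ?_)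
    exact_mod_cast hsum
  nlinarith

variable {g : G} {t : CZ z}

theorem tt (c : Cj z Q g t) : t * t = 1 := Subtype.ext (by
  rw [Subgroup.coe_mul, c.et, Subgroup.coe_one, ← c.et]
  exact c.et ▸ (C.st.conj g).zz)

theorem rho_sq (c : Cj z Q g t) : ρ t * ρ t = 1 := by rw [← map_mul, C.tt c, map_one]

theorem rho_ne (c : Cj z Q g t) : ρ t ≠ 1 := fun e => c.out ((C.ker t).mp e)

theorem z_out (c : Cj z Q g t) : z ∉ (QG Q).map (MulAut.conj g).toMonoidHom := by
  rintro ⟨w, hw, e⟩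
  have e' : g * w * g⁻¹ = z := e
  have e2 : g⁻¹ * z * g⁻¹⁻¹ = w := by rw [← e']; group
  have hne : g⁻¹ * z * g⁻¹⁻¹ ≠ z := fun h => by
    have hz' : g * z * g⁻¹ = z := by
      calc g * z * g⁻¹ = g * (g⁻¹ * z * g⁻¹⁻¹) * g⁻¹ := by rw [h]
        _ = z := by group
    exact c.out (of_mem_QG (by rw [c.et, hz']; exact C.st.z_mem))
  have p : Pair (QG Q) z g⁻¹ := ⟨C.st, by rw [e2]; exact hw, hne, by rw [C.card]; norm_num⟩
  obtain ⟨u, hu, eu⟩ := p.mem'
  have eu' : g⁻¹ * u * g⁻¹⁻¹ = z := eu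
  exact c.out (of_mem_QG (by rw [c.et, show g * z * g⁻¹ = u by rw [← eu']; group]; exact hu))

theorem symm (c : Cj z Q g t) : ∃ t2 : CZ z, Cj z Q g⁻¹ t2 ∧ (t2 : G) = g⁻¹ * z * g := by
  have hm : g⁻¹ * z * g ∈ CZ z := by
    refine Subgroup.mem_centralizer_singleton_iff.mpr ?_
    have h : (t : G) * z = z * t := Subgroup.mem_centralizer_singleton_iff.mp t.2
    rw [c.et] at h
    calc g⁻¹ * z * g * z = g⁻¹ * (z * (g * z * g⁻¹)) * g := by group
      _ = g⁻¹ * ((g * z * g⁻¹) * z) * g := by rw [h]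
      _ = _ := by group
  refine ⟨⟨_, hm⟩, ⟨by rw [inv_inv], fun h => C.z_out c ⟨_, mem_QG h, ?_⟩⟩, rfl⟩
  show g * (g⁻¹ * z * g) * g⁻¹ = z
  group

theorem t_mem (c : Cj z Q g t) : t ∈ PB Q g := by
  obtain ⟨w, hw, e, -⟩ := C.z_in
  exact mem_PB.mpr ⟨w, hw, by rw [e, c.et]; group⟩

theorem pb_comm (c : Cj z Q g t) {b : CZ z} (hb : b ∈ PB Q g) : b * t = t * b := Subtype.ext (by
  rw [Subgroup.coe_mul, Subgroup.coe_mul, c.et]
  exact (C.st.conj g).z_comm hb)

theorem pb_conj (c : Cj z Q g t) {a b : CZ z} (ha : a * t = t * a) (hb : b ∈ PB Q g) :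
    a * b * a⁻¹ ∈ PB Q g := by
  have hn : (a : G) ∈ Subgroup.normalizer (((QG Q).map (MulAut.conj g).toMonoidHom : Subgroup G) : Set G) := by
    refine (C.st.conj g).cz (Subgroup.mem_centralizer_singleton_iff.mpr ?_)
    rw [← c.et, ← Subgroup.coe_mul, ← Subgroup.coe_mul, ha]
  exact (Subgroup.mem_normalizer_iff.mp hn (b : G)).mp hb

theorem pd_le_pa (c : Cj z Q g t) : PD Q g ≤ PA Q t :=
  fun _ hd => mem_PA.mpr ⟨hd.1, C.pb_comm c hd.2⟩

theorem pd_comm (c : Cj z Q g t) {a d : CZ z} (ha : a ∈ PA Q t) (hd : d ∈ PD Q g) : a * d = d * a := by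
  rw [mem_PA] at ha
  rcases C.st.comm_cases (mem_QG ha.1) (mem_QG hd.1) with e | e
  · exact Subtype.ext (mul_inv_eq_iff_eq_mul.mp e)
  · have h : ((a * d * a⁻¹ * d⁻¹ : CZ z) : G) ∈ (QG Q).map (MulAut.conj g).toMonoidHom :=
      mul_mem (C.pb_conj c ha.2 hd.2) (inv_mem hd.2)
    rw [Subgroup.coe_mul, Subgroup.coe_mul, Subgroup.coe_mul, Subgroup.coe_inv, Subgroup.coe_inv, e,
      mul_inv_cancel_right] at h
    exact absurd h (C.z_out c)

theorem pd_sq (c : Cj z Q g t) {d : CZ z} (hd : d ∈ PD Q g) : d * d = 1 := by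
  refine Subtype.ext ?_
  have h1 : (d : G) * d = 1 ∨ (d : G) * d = z := C.st.sq_cases (mem_QG hd.1)
  rcases h1 with e | e
  · exact e
  · have h2 : (d : G) * d = 1 ∨ (d : G) * d = g * z * g⁻¹ := (C.st.conj g).sq_cases hd.2
    rcases h2 with e' | e'
    · exact e'
    · exact absurd (of_mem_QG (Q := Q) (x := t) (by rw [c.et, ← e', e]; exact C.st.z_mem)) c.out

theorem pd_zero (c : Cj z Q g t) {d : CZ z} (hd : d ∈ PD Q g) (h : v d = 0) : d = 1 := by
  rcases (C.vzero d hd.1).mp h with e | e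
  · exact Subtype.ext e
  · have h2 : (d : G) ∈ (QG Q).map (MulAut.conj g).toMonoidHom := hd.2
    rw [e] at h2
    exact absurd h2 (C.z_out c)

theorem pd_inj (c : Cj z Q g t) {d e : CZ z} (hd : d ∈ PD Q g) (he : e ∈ PD Q g) (h : v d = v e) : d = e := by
  have hdQ : d ∈ Q := hd.1
  have heQ : e ∈ Q := he.1
  have h0 : v (d⁻¹ * e) = 0 := by
    rw [C.vmul _ (inv_mem hdQ) _ heQ, C.v_inv hdQ, h]; exact v6_self _
  exact inv_mul_eq_one.mp (C.pd_zero c (mul_mem (inv_mem hd) he) h0)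

theorem move (c : Cj z Q g t) {a b : CZ z} (ha : a ∈ PA Q t) (hb : b ∈ PB Q g) :
    ∃ d ∈ PD Q g, v d = ρ b (v a) + v a := by
  rw [mem_PA] at ha
  have hba := C.qn.conj_mem a ha.1 b
  refine ⟨b * a * b⁻¹ * a⁻¹, Subgroup.mem_inf.mpr ⟨mul_mem hba (inv_mem ha.1), ?_⟩, ?_⟩
  · rw [show b * a * b⁻¹ * a⁻¹ = b * (a * b⁻¹ * a⁻¹) by group]
    exact mul_mem hb (C.pb_conj c ha.2 (inv_mem hb))
  · rw [C.vmul _ hba _ (inv_mem ha.1), C.v_inv ha.1, C.vconj b a ha.1]

theorem fixed_cases {q : CZ z} (hq : q ∈ Q) (h : ρ t (v q) = v q) :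
    q * t = t * q ∨ (t : G) * q * (t : G)⁻¹ = z * q := by
  have hc := C.qn.conj_mem q hq t
  rcases C.eq_cases hq hc (by rw [C.vconj t q hq, h]) with e | e
  · exact Or.inl (mul_inv_eq_iff_eq_mul.mp (Subtype.ext e)).symm
  · exact Or.inr e

theorem not_full (h : ¬ Full Q v ρ t) :
    ∃ q ∈ Q, ρ t (v q) = v q ∧ (t : G) * q * (t : G)⁻¹ = z * q := by
  simp only [Full] at h
  push Not at h
  obtain ⟨q, hq, h1, h2⟩ := h
  exact ⟨q, hq, h1, (C.fixed_cases hq h1).resolve_left h2⟩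

theorem fixed_of_comm {a : CZ z} (ha : a ∈ PA Q t) : ρ t (v a) = v a := by
  rw [mem_PA] at ha
  rw [← C.vconj t a ha.1, ← ha.2, mul_inv_cancel_right]

theorem zq_comm {q q0 : CZ z} (hq : q ∈ Q) (h : (t : G) * q * (t : G)⁻¹ = z * q)
    (h0 : (t : G) * q0 * (t : G)⁻¹ = z * q0) : q * q0 * t = t * (q * q0) := by
  refine Subtype.ext (mul_inv_eq_iff_eq_mul.mp (?_ : (t : G) * (q * q0) * (t : G)⁻¹ = q * q0)).symm
  calc (t : G) * (q * q0) * (t : G)⁻¹ = (t * q * (t : G)⁻¹) * (t * q0 * (t : G)⁻¹) := by group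
    _ = z * ((q : G) * z) * q0 := by rw [h, h0]; group
    _ = _ := by rw [C.st.z_comm (mem_QG hq), ← mul_assoc, C.st.zz, one_mul]

theorem sd_props (g : G) : Closed (SD Q v g) ∧ (SD Q v g).card ≤ Nat.card (PD Q g) := by
  refine ⟨⟨mem_SD.mpr ⟨1, one_mem _, C.v_one⟩, ?_⟩, ?_⟩
  · intro a ha b hb
    obtain ⟨d, hd, rfl⟩ := mem_SD.mp ha
    obtain ⟨e, he, rfl⟩ := mem_SD.mp hb
    exact mem_SD.mpr ⟨d * e, mul_mem hd he, C.vmul d hd.1 e he.1⟩
  · rw [← Nat.card_eq_finsetCard]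
    refine Nat.card_le_card_of_surjective
      (fun d : PD Q g => (⟨v d, mem_SD.mpr ⟨d, d.2, rfl⟩⟩ : ↥(SD Q v g))) fun w => ?_
    obtain ⟨d, hd, e⟩ := mem_SD.mp w.2
    exact ⟨⟨d, hd⟩, Subtype.ext e⟩

theorem move_full (c : Cj z Q g t) (hf : Full Q v ρ t) {b : CZ z} (hb : b ∈ PB Q g) {w : V6}
    (hw : ρ t w = w) : ρ b w + w ∈ SD Q v g := by
  obtain ⟨q, hq, rfl⟩ := C.vsurj w
  exact mem_SD.mpr (C.move c (mem_PA.mpr ⟨hq, hf q hq hw⟩) hb)

theorem move_any (c : Cj z Q g t) {b : CZ z} (hb : b ∈ PB Q g) :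
    ∃ T : Finset V6, Closed T ∧ T.card ≤ 2 * Nat.card (PD Q g) ∧ ∀ w, ρ t w = w → ρ b w + w ∈ T := by
  classical
  obtain ⟨hS, hcard⟩ := C.sd_props g
  by_cases hf : Full Q v ρ t
  · exact ⟨_, hS, hcard.trans (Nat.le_mul_of_pos_left _ two_pos), fun w hw => C.move_full c hf hb hw⟩
  obtain ⟨q0, hq0, hw0, hz0⟩ := C.not_full hf
  set S := SD Q v g with hSd
  set s0 := ρ b (v q0) + v q0 with hs0
  refine ⟨S ∪ S.image (· + s0), ⟨Finset.mem_union_left _ hS.1, ?_⟩, ?_, ?_⟩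
  · have hss : ∀ a : V6, a + s0 + s0 = a := fun a => by rw [add_assoc, v6_self, add_zero]
    intro a ha b hb
    simp only [Finset.mem_union, Finset.mem_image] at ha hb ⊢
    rcases ha with ha | ⟨a, ha, rfl⟩ <;> rcases hb with hb | ⟨b, hb, rfl⟩
    · exact Or.inl (hS.2 a ha b hb)
    · exact Or.inr ⟨a + b, hS.2 a ha b hb, add_assoc a b s0⟩
    · exact Or.inr ⟨a + b, hS.2 a ha b hb, add_right_comm a b s0⟩
    · refine Or.inl ?_
      rw [show a + s0 + (b + s0) = a + b + (s0 + s0) by abel, v6_self, add_zero]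
      exact hS.2 a ha b hb
  · refine (Finset.card_union_le _ _).trans ?_
    have := Finset.card_image_le (s := S) (f := (· + s0))
    omega
  · intro w hw
    obtain ⟨q, hq, rfl⟩ := C.vsurj w
    rcases C.fixed_cases hq hw with e | e
    · exact Finset.mem_union_left _ (mem_SD.mpr (C.move c (mem_PA.mpr ⟨hq, e⟩) hb))
    · refine Finset.mem_union_right _ (Finset.mem_image.mpr ⟨ρ b (v (q * q0)) + v (q * q0),
        mem_SD.mpr (C.move c (mem_PA.mpr ⟨mul_mem hq hq0, C.zq_comm hq e hz0⟩) hb), ?_⟩)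
      rw [hs0, C.vmul q hq q0 hq0, (C.ext b).1,
        show ρ b (v q) + ρ b (v q0) + (v q + v q0) + (ρ b (v q0) + v q0) =
          ρ b (v q) + v q + (ρ b (v q0) + ρ b (v q0)) + (v q0 + v q0) by abel,
        v6_self, v6_self, add_zero, add_zero]

/-- lower bound of the centraliser through its vectors -/
theorem image_pa_le (t : CZ z) (htz : (t : G) * z = z * t) :
    2 * Nat.card {w : V6 // ∃ a ∈ PA Q t, v a = w} ≤ Nat.card (PA Q t) := by
  obtain ⟨zq, hzq, ez, v0⟩ := C.z_in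
  have hzA : zq ∈ PA Q t := mem_PA.mpr ⟨hzq, Subtype.ext (by
    rw [Subgroup.coe_mul, Subgroup.coe_mul, ez, htz])⟩
  let s : {w : V6 // ∃ a ∈ PA Q t, v a = w} → PA Q t := fun w => ⟨w.2.choose, w.2.choose_spec.1⟩
  have hs : ∀ w, v (s w) = w.1 := fun w => w.2.choose_spec.2
  let F : Bool × {w : V6 // ∃ a ∈ PA Q t, v a = w} → PA Q t :=
    fun p => bif p.1 then s p.2 else ⟨zq, hzA⟩ * s p.2
  have hv : ∀ p, v (F p) = p.2.1 := by
    rintro ⟨_ | _, w⟩
    · show v (zq * (s w : CZ z)) = w.1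
      rw [C.vmul _ hzq _ (s w).2.1, v0, zero_add, hs]
    · exact hs w
  have hne : (⟨zq, hzA⟩ : PA Q t) ≠ 1 := fun e => C.st.ne_one (by
    rw [← ez]
    exact congrArg (fun x : PA Q t => ((x : CZ z) : G)) e)
  have hinj : Function.Injective F := by
    intro p q e
    have hw : p.2 = q.2 := Subtype.ext (by rw [← hv p, ← hv q, e])
    obtain ⟨a, w⟩ := p
    obtain ⟨b, w'⟩ := q
    obtain rfl : w = w' := hw
    rcases a with _ | _ <;> rcases b with _ | _
    · rfl
    · exact absurd (mul_eq_right.mp e) hne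
    · exact absurd (mul_eq_right.mp e.symm) hne
    · rfl
  have := Nat.card_le_card_of_injective F hinj
  rwa [Nat.card_prod, Nat.card_eq_fintype_card (α := Bool), Fintype.card_bool] at this

/-- size of the centraliser in the extraspecial group -/
theorem pa_ge (t : CZ z) : Nat.card {w : V6 // ρ t w = w} ≤ Nat.card (PA Q t) ∧
    (Full Q v ρ t → 2 * Nat.card {w : V6 // ρ t w = w} ≤ Nat.card (PA Q t)) := by
  classical
  have htz : (t : G) * z = z * t := Subgroup.mem_centralizer_singleton_iff.mp t.2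
  have h := C.image_pa_le t htz
  have hful : Full Q v ρ t →
      Nat.card {w : V6 // ρ t w = w} ≤ Nat.card {w : V6 // ∃ a ∈ PA Q t, v a = w} := fun hf =>
    Nat.card_le_card_of_injective (fun w => ⟨w.1, by
      obtain ⟨q, hq, e⟩ := C.vsurj w.1
      exact ⟨q, mem_PA.mpr ⟨hq, hf q hq (by rw [e]; exact w.2)⟩, e⟩⟩)
      fun a b e => Subtype.ext (congrArg Subtype.val e :)
  refine ⟨?_, fun hf => by have := hful hf; omega⟩
  by_cases hf : Full Q v ρ t
  · have := hful hf; omega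
  obtain ⟨q0, hq0, -, hz0⟩ := C.not_full hf
  have hcase : ∀ w : {w : V6 // ρ t w = w},
      (∃ a ∈ PA Q t, v a = w.1) ∨ ∃ a ∈ PA Q t, v a = w.1 + v q0 := by
    intro w
    obtain ⟨q, hq, e⟩ := C.vsurj w.1
    rcases C.fixed_cases hq (show ρ t (v q) = v q by rw [e]; exact w.2) with h1 | h1
    · exact Or.inl ⟨q, mem_PA.mpr ⟨hq, h1⟩, e⟩
    · exact Or.inr ⟨q * q0, mem_PA.mpr ⟨mul_mem hq hq0, C.zq_comm hq h1 hz0⟩, by rw [C.vmul q hq q0 hq0, e]⟩
  let F : {w : V6 // ρ t w = w} → Bool × {w : V6 // ∃ a ∈ PA Q t, v a = w} := fun w =>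
    if h : ∃ a ∈ PA Q t, v a = w.1 then (true, ⟨w.1, h⟩)
    else (false, ⟨w.1 + v q0, (hcase w).resolve_left h⟩)
  have hF : Function.Injective F := by
    intro a b e
    by_cases ha : ∃ x ∈ PA Q t, v x = a.1 <;> by_cases hb : ∃ x ∈ PA Q t, v x = b.1 <;>
      simp only [F, dif_pos, dif_neg, ha, hb, not_false_eq_true, Prod.mk.injEq, Subtype.mk.injEq,
        reduceCtorEq, false_and, true_and] at e
    · exact Subtype.ext e
    · exact Subtype.ext (add_right_cancel e)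
  have h2 := Nat.card_le_card_of_injective F hF
  rw [Nat.card_prod, Nat.card_eq_fintype_card (α := Bool), Fintype.card_bool] at h2
  omega

/-- a large centraliser is not abelian -/
theorem not_comm {t : CZ z} (h : 256 ≤ Nat.card (PA Q t)) :
    ∃ a ∈ PA Q t, ∃ b ∈ PA Q t, (a : G) * b * (a : G)⁻¹ = z * b := by
  classical
  by_contra hh
  push Not at hh
  set W := Finset.univ.filter fun w => ∃ a ∈ PA Q t, v a = w with hWd
  have hmem : ∀ {w}, w ∈ W ↔ ∃ a ∈ PA Q t, v a = w := fun {w} =>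
    ⟨fun hw => (Finset.mem_filter.mp hw).2, fun hw => Finset.mem_filter.mpr ⟨Finset.mem_univ _, hw⟩⟩
  have hW : Closed W := by
    refine ⟨hmem.mpr ⟨1, one_mem _, C.v_one⟩, fun a ha b hb => ?_⟩
    obtain ⟨x, hx, rfl⟩ := hmem.mp ha
    obtain ⟨y, hy, rfl⟩ := hmem.mp hb
    exact hmem.mpr ⟨x * y, mul_mem hx hy, C.vmul x hx.1 y hy.1⟩
  have hiso : ∀ a ∈ W, ∀ b ∈ W, bf a b = 0 := by
    intro a ha b hb
    obtain ⟨x, hx, rfl⟩ := hmem.mp ha
    obtain ⟨y, hy, rfl⟩ := hmem.mp hb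
    exact (C.comm_iff hx.1 hy.1).mpr (mul_inv_eq_iff_eq_mul.mp
      ((C.st.comm_cases (mem_QG hx.1) (mem_QG hy.1)).resolve_right (hh x hx y hy)))
  have h64 := C.iso_le hW hiso
  let s : ↥W → PA Q t := fun w => ⟨(hmem.mp w.2).choose, (hmem.mp w.2).choose_spec.1⟩
  let π : PA Q t → Bool × ↥W := fun a =>
    (decide ((a : G) = ((s ⟨v a, hmem.mpr ⟨a, a.2, rfl⟩⟩ : CZ z) : G)), ⟨v a, hmem.mpr ⟨a, a.2, rfl⟩⟩)
  have hπ : Function.Injective π := by
    intro a b e
    simp only [π, Prod.mk.injEq] at e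
    obtain ⟨e1, e2⟩ := e
    rw [e2] at e1
    set w := s ⟨v (b : CZ z), hmem.mpr ⟨b, b.2, rfl⟩⟩ with hw
    have hvw : v (w : CZ z) = v (b : CZ z) :=
      (hmem.mp (hmem.mpr ⟨b, b.2, rfl⟩ : v (b : CZ z) ∈ W)).choose_spec.2
    have hvab : v (a : CZ z) = v (b : CZ z) := congrArg Subtype.val e2
    refine Subtype.ext (Subtype.ext ?_)
    rcases C.eq_cases w.2.1 a.2.1 (hvw.trans hvab.symm) with ea | ea <;>
      rcases C.eq_cases w.2.1 b.2.1 hvw with eb | eb
    · rw [ea, eb]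
    · exfalso
      rw [ea, eb, decide_eq_decide] at e1
      exact C.st.ne_one (mul_eq_right.mp (e1.mp rfl))
    · exfalso
      rw [ea, eb, decide_eq_decide] at e1
      exact C.st.ne_one (mul_eq_right.mp (e1.mpr rfl))
    · rw [ea, eb]
  have h2 := Nat.card_le_card_of_injective π hπ
  rw [Nat.card_prod, Nat.card_eq_fintype_card (α := Bool), Fintype.card_bool, Nat.card_eq_finsetCard] at h2
  omega

theorem partner_mem (c : Cj z Q g t) (h : 256 ≤ Nat.card (PA Q t)) {t2 : CZ z}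
    (e2 : (t2 : G) = g⁻¹ * z * g) : t2 ∈ K := by
  obtain ⟨a, ha, b, hb, hab⟩ := C.not_comm h
  have hm : ∀ x : CZ z, x ∈ PA Q t → g⁻¹ * (x : G) * g ∈ CZ z := by
    intro x hx
    refine Subgroup.mem_centralizer_singleton_iff.mpr ?_
    have h : (x : G) * t = t * x := congrArg Subtype.val (mem_PA.mp hx).2
    rw [c.et] at h
    calc g⁻¹ * (x : G) * g * z = g⁻¹ * ((x : G) * (g * z * g⁻¹)) * g := by group
      _ = g⁻¹ * ((g * z * g⁻¹) * x) * g := by rw [h]
      _ = _ := by group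
  have e : t2 = ⁅(⟨_, hm a ha⟩ : CZ z), (⟨_, hm b hb⟩ : CZ z)⁆ := by
    refine Subtype.ext ?_
    simp only [commutatorElement_def, Subgroup.coe_mul, Subgroup.coe_inv, e2]
    calc g⁻¹ * z * g = g⁻¹ * ((z * b) * (b : G)⁻¹) * g := by group
      _ = g⁻¹ * ((a : G) * b * (a : G)⁻¹ * (b : G)⁻¹) * g := by rw [hab]
      _ = _ := by group
  rw [e]
  exact C.comm_mem _ _

theorem pb_card {t2 : CZ z} (e2 : (t2 : G) = g⁻¹ * z * g) : Nat.card (PB Q g) = Nat.card (PA Q t2) := by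
  classical
  refine le_antisymm ?_ ?_
  · have hex : ∀ b : PB Q g, ∃ a : PA Q t2, ((a : CZ z) : G) = g⁻¹ * ((b : CZ z) : G) * g := by
      rintro ⟨b, hb⟩
      obtain ⟨q, hq, e⟩ := mem_PB.mp hb
      refine ⟨⟨q, mem_PA.mpr ⟨hq, Subtype.ext ?_⟩⟩, e⟩
      have hb' : (b : G) * z = z * b := Subgroup.mem_centralizer_singleton_iff.mp b.2
      rw [Subgroup.coe_mul, Subgroup.coe_mul, e, e2]
      calc g⁻¹ * (b : G) * g * (g⁻¹ * z * g) = g⁻¹ * ((b : G) * z) * g := by group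
        _ = g⁻¹ * (z * b) * g := by rw [hb']
        _ = _ := by group
    choose f hf using hex
    refine Nat.card_le_card_of_injective f fun a b e => Subtype.ext (Subtype.ext ?_)
    have h := hf a
    rw [e, hf b] at h
    exact (mul_left_cancel (mul_right_cancel h)).symm
  · have hex : ∀ a : PA Q t2, ∃ b : PB Q g, ((b : CZ z) : G) = g * ((a : CZ z) : G) * g⁻¹ := by
      rintro ⟨a, ha⟩
      have ha' : (a : G) * t2 = t2 * a := congrArg Subtype.val (mem_PA.mp ha).2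
      rw [e2] at ha'
      have hm : g * (a : G) * g⁻¹ ∈ CZ z := by
        refine Subgroup.mem_centralizer_singleton_iff.mpr ?_
        calc g * (a : G) * g⁻¹ * z = g * ((a : G) * (g⁻¹ * z * g)) * g⁻¹ := by group
          _ = g * ((g⁻¹ * z * g) * a) * g⁻¹ := by rw [ha']
          _ = _ := by group
      exact ⟨⟨⟨_, hm⟩, mem_PB.mpr ⟨a, ha.1, by group⟩⟩, rfl⟩
    choose f hf using hex
    refine Nat.card_le_card_of_injective f fun a b e => Subtype.ext (Subtype.ext ?_)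
    have h := hf a
    rw [e, hf b] at h
    exact (mul_left_cancel (mul_right_cancel h)).symm

theorem image_card (g : G) : Nat.card ↥((PB Q g).map ρ) * Nat.card (PD Q g) = Nat.card (PB Q g) := by
  let r := ρ.comp (PB Q g).subtype
  have hsplit := Subgroup.card_eq_card_quotient_mul_card_subgroup r.ker
  rw [Nat.card_congr (QuotientGroup.quotientKerEquivRange r).toEquiv,
    show r.range = (PB Q g).map ρ from by rw [MonoidHom.range_comp, Subgroup.range_subtype]] at hsplit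
  rw [hsplit]
  congr 1
  exact Nat.card_congr
    { toFun := fun d => ⟨⟨d.1, d.2.2⟩, (C.ker _).mpr d.2.1⟩
      invFun := fun a => ⟨a.1.1, (C.ker _).mp a.2, a.1.2⟩
      left_inv := fun _ => rfl
      right_inv := fun _ => rfl }

theorem image_two (g : G) : IsPGroup 2 ↥((PB Q g).map ρ) := by
  refine IsPGroup.map ?_ ρ
  let j : ↥(PB Q g) →* ↥((QG Q).map (MulAut.conj g).toMonoidHom) :=
    MonoidHom.mk' (fun h => ⟨((h : CZ z) : G), h.2⟩) fun a b => rfl
  exact (IsPGroup.of_card ((Subgroup.card_map_of_injective (MulAut.conj g).injective).trans C.card)).of_injective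
    j fun a b e => Subtype.ext (Subtype.ext (congrArg Subtype.val e :))

theorem image_le (g : G) : (PB Q g).map ρ ≤ ExtS := by rintro _ ⟨h, -, rfl⟩; exact C.ext h

/-- an inner conjugate with a small intersection has a small partner -/
theorem inner_false (c : Cj z Q g t) (hk : t ∈ K) {t2 : CZ z} (e2 : (t2 : G) = g⁻¹ * z * g)
    (h4 : Nat.card (PD Q g) ≤ 4) (hbig : 128 * Nat.card (PD Q g) ≤ Nat.card (PA Q t2)) : False := by
  have h := inner_small (C.image_le g) (C.image_two g) ⟨t, C.t_mem c, rfl⟩ ((C.core t).mpr hk)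
    (C.rho_sq c) (C.rho_ne c) (by
      rintro _ ⟨b, hb, rfl⟩
      obtain ⟨T, h1, h2, h3⟩ := C.move_any c hb
      exact ⟨T, h1, by omega, h3⟩)
  rw [← C.pb_card e2, ← C.image_card g] at hbig
  have := Nat.le_of_mul_le_mul_right hbig Nat.card_pos
  omega

/-- the same for a semilinear conjugate -/
theorem semi_false (c : Cj z Q g t) (ht : Turn (el 3) (ρ t)) {t2 : CZ z} (e2 : (t2 : G) = g⁻¹ * z * g)
    (h4 : Nat.card (PD Q g) ≤ 4) (hfull : Full Q v ρ t ∨ Nat.card (PD Q g) ≤ 1)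
    (hbig : 32 * Nat.card (PD Q g) ≤ Nat.card (PA Q t2)) : False := by
  classical
  obtain ⟨hS, hcard⟩ := C.sd_props g
  have h := semi_small (C.image_le g) (C.image_two g) ⟨t, C.t_mem c, rfl⟩ ht
    (C.rho_sq c) hS (hcard.trans h4) (by
      rintro _ ⟨b, hb, rfl⟩
      rcases hfull with hf | h1
      · exact Or.inl fun w hw => C.move_full c hf hb hw
      · obtain ⟨T, t1, t2, t3⟩ := C.move_any c hb
        exact Or.inr ⟨T, t1, by omega, t3⟩)
  rw [← C.pb_card e2, ← C.image_card g] at hbig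
  have := Nat.le_of_mul_le_mul_right hbig Nat.card_pos
  omega

/-- in the weakly closed case a commutator over the intersection carries the central involution -/
theorem wc_rule (hwc : WCl z Q) (c : Cj z Q g t) {d q : CZ z} (hd : d ∈ PD Q g) (hd1 : d ≠ 1) (hq : q ∈ Q)
    (h : ρ t (v q) + v q = v d) : (t : G) * q * (t : G)⁻¹ * (q : G)⁻¹ = z * d := by
  have hc := C.qn.conj_mem q hq t
  have hcQ : t * q * t⁻¹ * q⁻¹ ∈ Q := mul_mem hc (inv_mem hq)
  have hvc : v (t * q * t⁻¹ * q⁻¹) = v d := by rw [C.vmul _ hc _ (inv_mem hq), C.v_inv hq, C.vconj t q hq, h]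
  rcases C.eq_cases hd.1 hcQ hvc.symm with e | e
  · exfalso
    obtain ⟨d', hd', ed⟩ := mem_PB.mp hd.2
    obtain ⟨zq, hzq, ez, -⟩ := C.z_in
    have e' : (t : G) * q * (t : G)⁻¹ * (q : G)⁻¹ = d := e
    have htt : (t : G) * t = 1 := congrArg Subtype.val (C.tt c)
    have hti : (t : G)⁻¹ = t := inv_eq_of_mul_eq_one_right htt
    have key : (q : G) * t * (q : G)⁻¹ = t * d := by
      rw [← e', hti]
      calc (q : G) * t * (q : G)⁻¹ = ((t : G) * t) * q * t * (q : G)⁻¹ := by rw [htt, one_mul]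
        _ = _ := by group
    have hval : ((zq * d' : CZ z) : G) = (g⁻¹ * q * g) * z * (g⁻¹ * q * g)⁻¹ := by
      rw [Subgroup.coe_mul, ez, ed]
      calc z * (g⁻¹ * d * g) = g⁻¹ * ((g * z * g⁻¹) * d) * g := by group
        _ = g⁻¹ * ((q : G) * (g * z * g⁻¹) * (q : G)⁻¹) * g := by rw [← c.et, ← key]
        _ = _ := by group
    have h1 := hwc _ _ (mul_mem hzq hd') hval
    rw [Subgroup.coe_mul, ez] at h1
    have h2 : g⁻¹ * (d : G) * g = 1 := ed ▸ mul_eq_left.mp h1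
    refine hd1 (Subtype.ext ?_)
    calc (d : G) = g * (g⁻¹ * d * g) * g⁻¹ := by group
      _ = _ := by rw [h2]; simp
  · exact e

/-- not full: the intersection avoids the image -/
theorem wc_meet (hwc : WCl z Q) (c : Cj z Q g t) (hf : ¬ Full Q v ρ t) {d q : CZ z} (hd : d ∈ PD Q g)
    (hq : q ∈ Q) (h : ρ t (v q) + v q = v d) : d = 1 := by
  by_contra hd1
  obtain ⟨q0, hq0, hw0, hz0⟩ := C.not_full hf
  have e1 := C.wc_rule hwc c hd hd1 hq h
  have e2 := C.wc_rule hwc c hd hd1 (mul_mem hq hq0) (by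
    rw [C.vmul q hq q0 hq0, (C.ext t).1, hw0,
      show ρ t (v q) + v q0 + (v q + v q0) = ρ t (v q) + v q + (v q0 + v q0) by abel, v6_self, add_zero, h])
  have hcz : (t : G) * q * (t : G)⁻¹ * z = z * ((t : G) * q * (t : G)⁻¹) :=
    C.st.z_comm (mem_QG (C.qn.conj_mem q hq t))
  have e3 : (t : G) * ((q * q0 : CZ z) : G) * (t : G)⁻¹ * ((q * q0 : CZ z) : G)⁻¹ =
      z * ((t : G) * q * (t : G)⁻¹ * (q : G)⁻¹) := by
    rw [Subgroup.coe_mul, ← mul_assoc z, ← hcz]
    calc (t : G) * ((q : G) * q0) * (t : G)⁻¹ * ((q : G) * q0)⁻¹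
        = ((t : G) * q * (t : G)⁻¹) * ((t : G) * q0 * (t : G)⁻¹) * (q0 : G)⁻¹ * (q : G)⁻¹ := by group
      _ = _ := by rw [hz0]; group
  rw [e2, e1] at e3
  exact C.st.ne_one (mul_eq_right.mp e3.symm)

/-- not full: at most two elements -/
theorem wc_two (hwc : WCl z Q) (c : Cj z Q g t) (hf : ¬ Full Q v ρ t)
    (hperp : ∀ w, PerpFix (ρ t) w → ∃ x, ρ t x + x = w) : Nat.card (PD Q g) ≤ 2 := by
  classical
  obtain ⟨q0, hq0, hw0, hz0⟩ := C.not_full hf
  have key : ∀ d ∈ PD Q g, bf (v d) (v q0) = 0 → d = 1 := by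
    intro d hd h0
    have hA : ∀ a ∈ PA Q t, bf (v d) (v a) = 0 := fun a ha =>
      (C.comm_iff hd.1 ha.1).mpr (congrArg Subtype.val (C.pd_comm c ha hd)).symm
    obtain ⟨x, hx⟩ := hperp (v d) (fun w hw => by
      obtain ⟨q, hq, rfl⟩ := C.vsurj w
      rcases C.fixed_cases hq hw with e | e
      · exact hA q (mem_PA.mpr ⟨hq, e⟩)
      · have h2 := hA _ (mem_PA.mpr ⟨mul_mem hq hq0, C.zq_comm hq e hz0⟩)
        rwa [C.vmul q hq q0 hq0, bf_add_right, h0, add_zero] at h2)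
    obtain ⟨q, hq, rfl⟩ := C.vsurj x
    exact C.wc_meet hwc c hf hd hq hx
  refine (Nat.card_le_card_of_injective (fun d : PD Q g => decide (bf (v d) (v q0) = 0)) fun a b e => ?_).trans
    (le_of_eq (by rw [Nat.card_eq_fintype_card, Fintype.card_bool]))
  have hab : bf (v a) (v q0) = bf (v b) (v q0) := by
    have e' := decide_eq_decide.mp e
    rcases bf_values (v a) (v q0) with p | p <;> rcases bf_values (v b) (v q0) with r | r
    · rw [p, r]
    · exact absurd (r.symm.trans (e'.mp p)) one_ne_zero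
    · exact absurd (p.symm.trans (e'.mpr r)) one_ne_zero
    · rw [p, r]
  have h1 := key _ (mul_mem (inv_mem a.2) b.2) (by
    rw [C.vmul _ (inv_mem a.2.1) _ b.2.1, C.v_inv a.2.1, bf_add_left, hab, k4_self])
  exact Subtype.ext (inv_mul_eq_one.mp h1)

/-- full: at most four elements -/
theorem wc_four (hwc : WCl z Q) (c : Cj z Q g t) (hf : Full Q v ρ t)
    (hperp : ∀ w, PerpFix (ρ t) w → ∃ x, ρ t x + x = w) : Nat.card (PD Q g) ≤ 4 := by
  classical
  have hq : ∀ d ∈ PD Q g, ∃ q ∈ Q, ρ t (v q) + v q = v d := by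
    intro d hd
    obtain ⟨x, hx⟩ := hperp (v d) fun w hw => by
      obtain ⟨q, hq, rfl⟩ := C.vsurj w
      exact (C.comm_iff hd.1 hq).mpr (congrArg Subtype.val (C.pd_comm c (mem_PA.mpr ⟨hq, hf q hq hw⟩) hd)).symm
    obtain ⟨q, hq, rfl⟩ := C.vsurj x
    exact ⟨q, hq, hx⟩
  by_cases hone : ∀ d ∈ PD Q g, d = 1
  · haveI : Subsingleton (PD Q g) := ⟨fun a b => Subtype.ext ((hone _ a.2).trans (hone _ b.2).symm)⟩
    rw [Nat.card_of_subsingleton (1 : PD Q g)]; norm_num
  push Not at hone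
  obtain ⟨d1, hd1, hn1⟩ := hone
  obtain ⟨q1, hq1, h1⟩ := hq d1 hd1
  have lam : ∀ d ∈ PD Q g, d ≠ 1 → d ≠ d1 → bf (v q1) (v d) = 1 := by
    intro d hd hn hne
    refine (bf_values _ _).resolve_left fun h0 => ?_
    obtain ⟨q2, hq2, h2⟩ := hq d hd
    have hdd : d1 * d ≠ 1 := fun e => hne
      ((eq_inv_of_mul_eq_one_right e).trans (inv_eq_of_mul_eq_one_right (C.pd_sq c hd1)))
    have e1 := C.wc_rule hwc c hd1 hn1 hq1 h1
    have e2 := C.wc_rule hwc c hd hn hq2 h2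
    have e12 := C.wc_rule hwc c (mul_mem hd1 hd) hdd (mul_mem hq1 hq2) (by
      rw [C.vmul q1 hq1 q2 hq2, C.vmul d1 hd1.1 d hd.1, (C.ext t).1, ← h1, ← h2]; abel)
    have e : (t : G) * ((q1 * q2 : CZ z) : G) * (t : G)⁻¹ * ((q1 * q2 : CZ z) : G)⁻¹ =
        ((t : G) * q1 * (t : G)⁻¹ * (q1 : G)⁻¹) * (q1 * ((t : G) * q2 * (t : G)⁻¹ * (q2 : G)⁻¹) * (q1 : G)⁻¹) := by
      rw [Subgroup.coe_mul]; group
    have hc0 : (q1 : G) * d = d * q1 := (C.comm_iff hq1 hd.1).mp h0
    have hz1 : (q1 : G) * z = z * q1 := C.st.z_comm (mem_QG hq1)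
    have hzd : (d1 : G) * z = z * d1 := C.st.z_comm (mem_QG hd1.1)
    rw [e12, e1, e2, Subgroup.coe_mul] at e
    refine C.st.ne_one ?_
    have h3 : z * (d1 : G) * (q1 * (z * d) * (q1 : G)⁻¹) = (d1 : G) * d := by
      rw [← mul_assoc (q1 : G) z, hz1, mul_assoc z (q1 : G), hc0]
      calc z * (d1 : G) * (z * ((d : G) * q1) * (q1 : G)⁻¹) = z * ((d1 : G) * z) * d := by group
        _ = _ := by rw [hzd, ← mul_assoc, C.st.zz, one_mul]
    rw [h3] at e
    exact mul_eq_right.mp e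
  by_cases htwo : ∀ d ∈ PD Q g, d = 1 ∨ d = d1
  · refine (Nat.card_le_card_of_injective (fun d : PD Q g => decide ((d : CZ z) = 1)) fun a b e => ?_).trans
      (by rw [Nat.card_eq_fintype_card, Fintype.card_bool]; norm_num)
    refine Subtype.ext ?_
    have e' := decide_eq_decide.mp e
    rcases htwo _ a.2 with ea | ea <;> rcases htwo _ b.2 with eb | eb
    · rw [ea, eb]
    · rw [ea]; exact (e'.mp ea).symm
    · rw [eb]; exact e'.mpr eb
    · rw [ea, eb]
  push Not at htwo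
  obtain ⟨d2, hd2, hn2, hne2⟩ := htwo
  have hsub : ∀ d ∈ PD Q g, d ∈ ({1, d1, d2, d1 * d2} : Finset (CZ z)) := by
    intro d hd
    simp only [Finset.mem_insert, Finset.mem_singleton]
    by_cases a1 : d = 1
    · exact Or.inl a1
    by_cases a2 : d = d1
    · exact Or.inr (Or.inl a2)
    by_cases a3 : d * d2 = 1
    · exact Or.inr (Or.inr (Or.inl ((eq_inv_of_mul_eq_one_left a3).trans
        (inv_eq_of_mul_eq_one_right (C.pd_sq c hd2)))))
    by_cases a4 : d * d2 = d1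
    · refine Or.inr (Or.inr (Or.inr ?_))
      rw [← a4, mul_assoc, C.pd_sq c hd2, mul_one]
    exfalso
    have h := lam _ (mul_mem hd hd2) a3 a4
    rw [C.vmul d hd.1 d2 hd2.1, bf_add_right, lam d hd a1 a2, lam d2 hd2 hn2 hne2, k4_self] at h
    exact zero_ne_one h
  refine (Nat.card_le_card_of_injective
    (fun d : PD Q g => (⟨d.1, hsub d.1 d.2⟩ : ↥({1, d1, d2, d1 * d2} : Finset (CZ z))))
    fun a b e => Subtype.ext (congrArg Subtype.val e :)).trans ?_
  rw [Nat.card_eq_finsetCard]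
  exact Finset.card_le_four

/-- in the weakly closed case no inner conjugate lies outside the extraspecial group -/
theorem wc_inner (hwc : WCl z Q) (c : Cj z Q g t) (hk : t ∈ K) : False := by
  obtain ⟨t2, c2, e2⟩ := C.symm c
  obtain ⟨hfix, hperp⟩ := inner_facts ((C.core t).mpr hk) (C.rho_sq c) (C.rho_ne c)
  have hA := C.pa_ge t
  rw [hfix] at hA
  have hk2 := C.partner_mem c hA.1 e2
  obtain ⟨hfix2, hperp2⟩ := inner_facts ((C.core t2).mpr hk2) (C.rho_sq c2) (C.rho_ne c2)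
  have hA2 := C.pa_ge t2
  rw [hfix2] at hA2
  by_cases hf : Full Q v ρ t
  · have h4 := C.wc_four hwc c hf hperp
    by_cases hf2 : Full Q v ρ t2
    · exact C.inner_false c hk e2 h4 (by have := hA2.2 hf2; omega)
    · have h2 := C.wc_two hwc c2 hf2 hperp2
      rw [← pd_symm] at h2
      exact C.inner_false c hk e2 h4 (by have := hA2.1; omega)
  · have h2 := C.wc_two hwc c hf hperp
    exact C.inner_false c hk e2 (h2.trans (by norm_num)) (by have := hA2.1; omega)

/-- in the weakly closed case no semilinear conjugate either -/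
theorem wc_semi (hwc : WCl z Q) (c : Cj z Q g t) (ht : Turn (el 3) (ρ t))
    (hlin : ∀ (g : G) (t : CZ z), Cj z Q g t → Turn (el 2) (ρ t) → t ∈ K) : False := by
  obtain ⟨t2, c2, e2⟩ := C.symm c
  have ht2 : Turn (el 3) (ρ t2) := (C.ext t2).2.2.1.resolve_left fun h =>
    C.wc_inner hwc c2 (hlin _ _ c2 h)
  obtain ⟨hfix, hperp, himg⟩ := semi_facts (C.ext t) ht (C.rho_sq c)
  obtain ⟨hfix2, hperp2, himg2⟩ := semi_facts (C.ext t2) ht2 (C.rho_sq c2)
  have hA2 := C.pa_ge t2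
  rw [hfix2] at hA2
  have hone : ∀ (g : G) (t : CZ z), Cj z Q g t → ¬ Full Q v ρ t →
      (∀ w, ρ t w = w → ∃ x, ρ t x + x = w) → Nat.card (PD Q g) = 1 := by
    intro g t c hf himg
    have : ∀ d ∈ PD Q g, d = 1 := fun d hd => by
      obtain ⟨x, hx⟩ := himg (v d) (C.fixed_of_comm (C.pd_le_pa c hd))
      obtain ⟨q, hq, rfl⟩ := C.vsurj x
      exact C.wc_meet hwc c hf hd hq hx
    haveI : Subsingleton (PD Q g) := ⟨fun a b => Subtype.ext ((this _ a.2).trans (this _ b.2).symm)⟩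
    exact Nat.card_of_subsingleton (1 : PD Q g)
  by_cases hf : Full Q v ρ t
  · have h4 := C.wc_four hwc c hf hperp
    by_cases hf2 : Full Q v ρ t2
    · exact C.semi_false c ht e2 h4 (Or.inl hf) (by have := hA2.2 hf2; omega)
    · have h1 := hone _ _ c2 hf2 himg2
      rw [← pd_symm] at h1
      exact C.semi_false c ht e2 h4 (Or.inl hf) (by have := hA2.1; omega)
  · have h1 := hone g t c hf himg
    exact C.semi_false c ht e2 (by omega) (Or.inr h1.le) (by have := hA2.1; omega)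

end CX

end CfsgLib.FiTwentyFourType
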