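import Cfsg.Agent.Lib.FiTwentyFourType.Pairs
import Cfsg.Agent.Lib.USixTwo.Transfer

/-!
When the swap is in the image, the transfer detects it, and no conjugate of the central involution lies over it.
-/

set_option autoImplicit false
set_option maxRecDepth 100000
set_option linter.style.haveILetI false
set_option linter.unusedSectionVars false

namespace CfsgLib.FiTwentyFourType

open CfsgLib.Extraspecial
open CfsgLib.LargeFischer (CZ QG mem_QG of_mem_QG KKp oP bas)
open CfsgLib.HePres (K4)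
open CfsgLib.Fi22USix (V6 el nrm)
open CfsgLib.USixUFour (InP)
open scoped commutatorElement

variable {G : Type*} [Group G] [Finite G] {z : G} {Q K : Subgroup (CZ z)} {v : CZ z → V6}
  {ρ : CZ z →* Equiv.Perm V6}

/-- no conjugate of the central involution lies over a point vector -/
def NoP (z : G) (Q : Subgroup (CZ z)) (v : CZ z → V6) : Prop :=
  ∀ (g : G) (x : CZ z), x ∈ Q → (x : G) = g * z * g⁻¹ → (x : G) ≠ z → ¬ InP 0 (v x)

theorem sh2_mul {f g : Equiv.Perm V6} (hf : f ∈ ExtS) (hg : g ∈ ExtS) (hf' : f ∉ Sh2) (hg' : g ∉ Sh2) :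
    f * g ∈ Sh2 := by
  have hc : ∀ {f : Equiv.Perm V6}, f ∈ ExtS → f ∉ Sh2 →
      ∃ o : Fin 3, o ≠ 2 ∧ oP o * f ∈ KKp := fun {f} hf hf' => by
    rcases ext_cases hf with h | ⟨o, h⟩
    · exact absurd (mem_Sh2.mpr (Or.inl h)) hf'
    · exact ⟨o, fun e => hf' (mem_Sh2.mpr (Or.inr (e ▸ h))), h⟩
  obtain ⟨o, ho, k1⟩ := hc hf hf'
  obtain ⟨p, hp, k2⟩ := hc hg hg'
  have key : oP o * oP p ∈ Sh2 := by
    have h01 : oP 0 * oP 1 = oP 2 := Equiv.ext fun v => rfl
    have h10 : oP 1 * oP 0 = oP 2 := oP_two.symm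
    have h2 : oP 2 ∈ Sh2 := mem_Sh2.mpr (Or.inr (by rw [oP_invol]; exact one_mem _))
    fin_cases o <;> fin_cases p <;> simp at ho hp ⊢
    · rw [oP_invol]; exact one_mem _
    · rw [h01]; exact h2
    · rw [h10]; exact h2
    · rw [oP_invol]; exact one_mem _
  have hk : oP p * (oP o * f) * (oP p)⁻¹ ∈ KKp := kkp_conj (oP_ext p) k1
  have e : f * g = (oP o * oP p) * ((oP p * (oP o * f) * (oP p)⁻¹) * (oP p * g)) := by
    rw [show (oP o * oP p) * ((oP p * (oP o * f) * (oP p)⁻¹) * (oP p * g)) =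
      oP o * (oP p * oP p) * oP o * f * g by group, oP_invol, mul_one, oP_invol, one_mul]
  rw [e]
  exact mul_mem key (mem_Sh2.mpr (Or.inl (mul_mem hk k2)))

theorem oP0_not_sh2 : oP 0 ∉ Sh2 := fun h => by
  rcases mem_Sh2.mp h with h | h
  · exact od_not_kkp h
  · rw [show oP 2 * oP 0 = oP 1 by rw [oP_two, mul_assoc, oP_invol, mul_one]] at h
    exact oP_not_kkp 1 h

open _root_.Classical in
/-- the sign of the coset -/
noncomputable def sgn (f : Equiv.Perm V6) : ℤˣ := if f ∈ Sh2 then 1 else -1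

theorem sgn_mul {f g : Equiv.Perm V6} (hf : f ∈ ExtS) (hg : g ∈ ExtS) : sgn (f * g) = sgn f * sgn g := by
  by_cases a : f ∈ Sh2 <;> by_cases b : g ∈ Sh2
  · simp [sgn, a, b, mul_mem a b]
  · have : f * g ∉ Sh2 := fun h => b (by simpa using mul_mem (inv_mem a) h)
    simp [sgn, a, b, this]
  · have : f * g ∉ Sh2 := fun h => a (by simpa using mul_mem h (inv_mem b))
    simp [sgn, a, b, this]
  · simp [sgn, a, b, sh2_mul hf hg a b]

theorem el2_fix {w : V6} (h : el 2 • w = w) : w = 0 := by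
  have h2 : (el 2 + 1) • w = 0 := by rw [add_smul, one_smul, h, v6_self]
  exact (smul_eq_zero.mp h2).resolve_left (by decide +kernel)

namespace CX

variable (C : CX z Q K v ρ)
include C

theorem z_central {zc : CZ z} (e : (zc : G) = z) (h : CZ z) : zc * h = h * zc := Subtype.ext (by
  rw [Subgroup.coe_mul, Subgroup.coe_mul, e]
  exact (Subgroup.mem_centralizer_singleton_iff.mp h.2).symm)

/-- a lift of the swap that commutes with the scalar -/
theorem exists_lift {h1 : CZ z} (e1 : ρ h1 = oP 0) {x : CZ z} (hx3 : x ^ 3 = 1) (hx : ∀ u, ρ x u = el 2 • u) :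
    ∃ h : CZ z, ρ h = oP 0 ∧ x * h = h * x := by
  set p := h1 * x * h1⁻¹ * x⁻¹ with hp
  have hpQ : p ∈ Q := (C.ker p).mp (by
    have hc : ρ h1 * ρ x = ρ x * ρ h1 := Equiv.ext fun u => by
      simp only [Equiv.Perm.mul_apply, hx, e1]
      exact oP_turn.1 u
    rw [hp, map_mul, map_mul, map_mul, map_inv, map_inv, hc, mul_inv_cancel_right, mul_inv_cancel])
  obtain ⟨q, hq, eq⟩ := C.vsurj (el 2 • v p)
  have hxq := C.qn.conj_mem q⁻¹ (inv_mem hq) x
  have hv0 : v (q * p * (x * q⁻¹ * x⁻¹)) = 0 := by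
    rw [C.vmul _ (mul_mem hq hpQ) _ hxq, C.vmul q hq p hpQ, C.vconj x q⁻¹ (inv_mem hq), C.v_inv hq, hx, eq,
      smul_smul]
    rw [show el 2 • v p + v p + (el 2 * el 2) • v p = (el 2 + 1 + el 2 * el 2) • v p by
      rw [add_smul, add_smul, one_smul], show el 2 + 1 + el 2 * el 2 = 0 by decide +kernel, zero_smul]
  refine ⟨q * h1, by rw [map_mul, (C.ker q).mpr hq, one_mul, e1], ?_⟩
  have hy : q * h1 * x * (q * h1)⁻¹ = (q * p * (x * q⁻¹ * x⁻¹)) * x := by rw [hp]; group
  rcases (C.vzero _ (mul_mem (mul_mem hq hpQ) hxq)).mp hv0 with e | e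
  · rw [show q * p * (x * q⁻¹ * x⁻¹) = 1 from Subtype.ext e, one_mul] at hy
    exact (mul_inv_eq_iff_eq_mul.mp hy).symm
  · exfalso
    set w := q * p * (x * q⁻¹ * x⁻¹) with hw
    have h3 : (q * h1 * x * (q * h1)⁻¹) ^ 3 = 1 := by rw [conj_pow, hx3, mul_one, mul_inv_cancel]
    have hcomm : Commute w x := C.z_central e x
    have hw2 : w * w = 1 := Subtype.ext (by rw [Subgroup.coe_mul, e, C.st.zz, Subgroup.coe_one])
    rw [hy, hcomm.mul_pow, hx3, mul_one, pow_succ, pow_two, hw2, one_mul] at h3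
    exact C.st.ne_one (by rw [← e, h3, Subgroup.coe_one])

/-- the lift centralises the preimage of its fixed vectors, and its square is central -/
theorem lift_facts {h : CZ z} (eh : ρ h = oP 0) {x : CZ z} (hx : ∀ u, ρ x u = el 2 • u)
    (hc : x * h = h * x) : (((h : G) * h = 1) ∨ (h : G) * h = z) ∧
      ∀ q ∈ Q, oP 0 (v q) = v q → q * h = h * q := by
  refine ⟨?_, fun q hq hfix => ?_⟩
  · have hQ : h * h ∈ Q := (C.ker _).mp (by rw [map_mul, eh, oP_invol])
    have hcx : x * (h * h) * x⁻¹ = h * h := by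
      rw [← mul_assoc, hc, mul_assoc h x h, hc, ← mul_assoc, mul_inv_cancel_right]
    have h0 := C.vconj x _ hQ
    rw [hcx, hx] at h0
    exact (C.vzero _ hQ).mp (el2_fix h0.symm)
  · rcases C.fixed_cases hq (show ρ h (v q) = v q by rw [eh]; exact hfix) with e | e
    · exact e
    exfalso
    obtain ⟨zc, hzc, ez, -⟩ := C.z_in
    set a := x * q * x⁻¹ with ha
    set b := x * a * x⁻¹ with hb
    have haQ : a ∈ Q := C.qn.conj_mem q hq x
    have hbQ : b ∈ Q := C.qn.conj_mem a haQ x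
    have e0 : h * q * h⁻¹ = zc * q := Subtype.ext (by
      rw [Subgroup.coe_mul, Subgroup.coe_mul, Subgroup.coe_mul, Subgroup.coe_inv, ez]; exact e)
    have step : ∀ w : CZ z, h * w * h⁻¹ = zc * w → h * (x * w * x⁻¹) * h⁻¹ = zc * (x * w * x⁻¹) := fun w hw => by
      calc h * (x * w * x⁻¹) * h⁻¹ = (h * x) * w * (h * x)⁻¹ := by group
        _ = x * (h * w * h⁻¹) * x⁻¹ := by rw [← hc]; group
        _ = (x * zc) * w * x⁻¹ := by rw [hw]; group
        _ = _ := by rw [← C.z_central ez x]; group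
    have ea : h * a * h⁻¹ = zc * a := step q e0
    have eb : h * b * h⁻¹ = zc * b := step a ea
    have hv : v (q * a * b) = 0 := by
      rw [C.vmul _ (mul_mem hq haQ) _ hbQ, C.vmul q hq a haQ, hb, C.vconj x a haQ, ha, C.vconj x q hq, hx, hx,
        smul_smul, show v q + el 2 • v q + (el 2 * el 2) • v q = (1 + el 2 + el 2 * el 2) • v q by
          rw [add_smul, add_smul, one_smul], show 1 + el 2 + el 2 * el 2 = 0 by decide +kernel, zero_smul]
    have hfixr : h * (q * a * b) * h⁻¹ = q * a * b := by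
      rcases (C.vzero _ (mul_mem (mul_mem hq haQ) hbQ)).mp hv with e1 | e1
      · rw [show q * a * b = 1 from Subtype.ext e1, mul_one, mul_inv_cancel]
      · rw [← C.z_central e1 h, mul_inv_cancel_right]
    have h3 : h * (q * a * b) * h⁻¹ = zc * zc * zc * (q * a * b) := by
      calc h * (q * a * b) * h⁻¹ = (h * q * h⁻¹) * (h * a * h⁻¹) * (h * b * h⁻¹) := by group
        _ = zc * (q * zc) * (a * zc) * b := by rw [e0, ea, eb]; group
        _ = zc * (zc * q) * (zc * a) * b := by rw [C.z_central ez q, C.z_central ez a]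
        _ = zc * zc * (q * zc) * a * b := by group
        _ = _ := by rw [← C.z_central ez q]; group
    rw [hfixr] at h3
    have h4 := congrArg Subtype.val (mul_eq_right.mp h3.symm)
    rw [Subgroup.coe_mul, Subgroup.coe_mul, ez, C.st.zz, one_mul, Subgroup.coe_one] at h4
    exact C.st.ne_one h4

/-- an involution over the swap centralising the preimage of the hyperplane -/
theorem exists_swap_inv (hex : oP 0 ∈ ρ.range) :
    ∃ d : CZ z, ρ d = oP 0 ∧ d * d = 1 ∧ ∀ q ∈ Q, InL (v q) → q * d = d * q := by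
  obtain ⟨h1, e1⟩ := hex
  obtain ⟨x, -, hx3, hx⟩ := C.scal
  obtain ⟨h, eh, hc⟩ := C.exists_lift e1 hx3 hx
  obtain ⟨hsq, hcent⟩ := C.lift_facts eh hx hc
  rcases hsq with e | e
  · exact ⟨h, eh, Subtype.ext e, fun q hq hL => hcent q hq (inL_fix hL)⟩
  obtain ⟨j, hj, ej⟩ := C.vsurj (bas 2)
  obtain ⟨hjfix, hjn, hjL⟩ : oP 0 (bas 2) = bas 2 ∧ nrm (bas 2) ≠ 0 ∧ Fi22USix.code (bas 2) = 16 := by decide +kernel
  have hjh : j * h = h * j := hcent j hj (by rw [ej]; exact hjfix)
  have hjj : (j : G) * j = z := (C.st.sq_cases (mem_QG hj)).resolve_left fun h1 => hjn (ej ▸ (C.vsq j hj).mp h1)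
  refine ⟨h * j, by rw [map_mul, (C.ker j).mpr hj, mul_one, eh], ?_, fun q hq hL => ?_⟩
  · refine Subtype.ext ?_
    rw [show h * j * (h * j) = h * (j * h) * j by group, hjh, show h * (h * j) * j = (h * h) * (j * j) by group,
      Subgroup.coe_mul, Subgroup.coe_mul, Subgroup.coe_mul, e, hjj, C.st.zz, Subgroup.coe_one]
  · have hperp : bf (v q) (v j) = 0 := by
      have h' : lB (Fi22USix.code (v q)) = true := hL
      rw [lB, Bool.and_eq_true, Bool.not_eq_true', ← hjL, pb_spec, ← ej] at h'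
      exact h'.2
    have hqj : q * j = j * q := Subtype.ext ((C.comm_iff hq hj).mp hperp)
    rw [← mul_assoc, hcent q hq (inL_fix hL), mul_assoc, hqj, ← mul_assoc]

/-- the transfer separates the swap from the core -/
theorem exists_sign (hnp : NoP z Q v) (hex : oP 0 ∈ ρ.range) :
    ∃ V : G →* ℤˣ, (∃ g, V g = -1) ∧ (∀ k ∈ K, V (k : G) = 1) ∧
      ∀ h : CZ z, oP 0 * ρ h ∈ KKp → V (h : G) = -1 := by
  classical
  obtain ⟨d, ed, hd2, hdL⟩ := C.exists_swap_inv hex
  obtain ⟨zc, hzc, ez, -⟩ := C.z_in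
  let φ : CZ z →* ℤˣ := MonoidHom.mk' (fun h => sgn (ρ h)) fun a b => by
    rw [map_mul, sgn_mul (C.ext a) (C.ext b)]
  let V := MonoidHom.transfer φ
  have hd2' : (d : G) * d = 1 := congrArg Subtype.val hd2
  have hzd : zc ∈ PA Q d := mem_PA.mpr ⟨hzc, C.z_central ez d⟩
  have hA : 1024 ≤ Nat.card (PA Q d) := by
    refine le_trans ?_ (C.image_pa_le d (Subgroup.mem_centralizer_singleton_iff.mp d.2))
    rw [show (1024 : ℕ) = 2 * 512 from rfl, ← inL_card]
    refine Nat.mul_le_mul_left _ (Nat.card_le_card_of_injective (fun w => ⟨w.1, ?_⟩) fun a b e =>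
      Subtype.ext (congrArg Subtype.val e :))
    obtain ⟨q, hq, eq⟩ := C.vsurj w.1
    exact ⟨q, mem_PA.mpr ⟨hq, hdL q hq (eq ▸ w.2)⟩, eq⟩
  have hVd : V (d : G) = -1 := by
    have h := CfsgLib.USixTwo.transfer_centralizer (z := z) (u := (d : G)) φ (by rw [hd2', one_mul])
      (fun g h => by
        have e : (⟨_, h⟩ : CZ z) = 1 := Subtype.ext (by
          show g⁻¹ * ((d : G) * d) * g = 1
          rw [hd2']; group)
        rw [e, map_one])
      d.2 ((PA Q d).map (CZ z).subtype) (IsPGroup.map (by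
        let j : ↥(PA Q d) →* ↥(QG Q) :=
          MonoidHom.mk' (fun a => ⟨((a : CZ z) : G), mem_QG a.2.1⟩) fun a b => rfl
        exact (IsPGroup.of_card C.card).of_injective j fun a b e =>
          Subtype.ext (Subtype.ext (congrArg Subtype.val e :))) _)
      (by rintro _ ⟨a, -, rfl⟩; exact a.2)
      (by rintro _ ⟨a, ha, rfl⟩; exact congrArg Subtype.val (mem_PA.mp ha).2)
      (fun g hne _ hD _ => by
        exfalso
        have hzt : g * z * g⁻¹ ∈ CZ z := Subgroup.mem_centralizer_singleton_iff.mpr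
          ((hD z ⟨zc, hzd, ez⟩).symm)
        set t : CZ z := ⟨_, hzt⟩ with ht
        have hcomm : ∀ a ∈ PA Q d, a * t = t * a := fun a ha => Subtype.ext (hD _ ⟨a, ha, rfl⟩)
        have hfix : ∀ w, InL w → ρ t w = w := fun w hw => by
          obtain ⟨q, hq, rfl⟩ := C.vsurj w
          have hqA : q ∈ PA Q t := mem_PA.mpr ⟨hq, hcomm q (mem_PA.mpr ⟨hq, hdL q hq hw⟩)⟩
          exact C.fixed_of_comm hqA
        have hperp : ∀ y ∈ Q, (∀ a ∈ PA Q d, a * y = y * a) → ∀ w, InL w → bf (v y) w = 0 := by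
          intro y hy hyc w hw
          obtain ⟨q, hq, rfl⟩ := C.vsurj w
          exact (C.comm_iff hy hq).mpr (congrArg Subtype.val (hyc q (mem_PA.mpr ⟨hq, hdL q hq hw⟩))).symm
        rcases fixer (C.ext t) hfix with e | e
        · have htQ : t ∈ Q := (C.ker t).mp e
          have h2 : nrm (v t) = 0 := (C.vsq t htQ).mp (C.st.conj g).zz
          rcases rad_sing.1 (v t) (hperp t htQ hcomm) h2 with e0 | e0
          · rcases (C.vzero t htQ).mp e0 with e1 | e1
            · exact (C.st.conj g).ne_one e1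
            · exact hne e1
          · exact hnp g t htQ rfl hne e0
        · have c : Cj z Q g t := ⟨rfl, fun h => by
            have h1 := (C.ker t).mpr h
            rw [e] at h1
            exact od_not_kkp (h1 ▸ one_mem _)⟩
          have hsub : PA Q d ≤ PA Q t := fun a ha => mem_PA.mpr ⟨ha.1, hcomm a ha⟩
          have hAt : 1024 ≤ Nat.card (PA Q t) := hA.trans (Subgroup.card_le_of_le hsub)
          have h4 : Nat.card (PD Q g) ≤ 4 := by
            refine le_trans (Nat.card_le_card_of_injective (fun y : PD Q g =>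
              (⟨v y, hperp y y.2.1 fun a ha => C.pd_comm c (hsub ha) y.2,
                (C.vsq y y.2.1).mp (congrArg Subtype.val (C.pd_sq c y.2))⟩ :
                {w : V6 // (∀ u, InL u → bf w u = 0) ∧ nrm w = 0})) fun a b e => ?_) rad_sing.2
            exact Subtype.ext (C.pd_inj c a.2 b.2 (congrArg Subtype.val e :))
          obtain ⟨t2, c2, e2⟩ := C.symm c
          refine C.inner_false (t2 := t) c2 (C.partner_mem c (by omega) e2) ?_ ?_ ?_
          · rw [inv_inv]
          · rwa [← pd_symm]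
          · rw [← pd_symm]; omega)
    show MonoidHom.transfer φ (d : G) = -1
    rw [h]
    show sgn (ρ d) = -1
    rw [ed]
    simp [sgn, oP0_not_sh2]
  let W : CZ z →* ℤˣ := V.comp (CZ z).subtype
  have hcm : ∀ a b : CZ z, W ⁅a, b⁆ = 1 := fun a b => by
    simp only [map_commutatorElement]
    exact commutatorElement_eq_one_iff_mul_comm.mpr (mul_comm _ _)
  obtain ⟨x, -, hx3, hx⟩ := C.scal
  have hz1 : W zc = 1 := by
    obtain ⟨q, hq, eq⟩ := C.vsurj (bas 2)
    obtain ⟨_, ⟨u, hu, rfl⟩, eu⟩ := C.st.exists_move (mem_QG hq)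
      (fun h => absurd (eq ▸ (C.vzero q hq).mpr (Or.inl h)) (by decide +kernel : (bas 2 : V6) ≠ 0))
      (fun h => absurd (eq ▸ (C.vzero q hq).mpr (Or.inr h)) (by decide +kernel : (bas 2 : V6) ≠ 0))
    have e' : (u : G) * q * (u : G)⁻¹ = z * q := eu
    have : zc = ⁅u, q⁆ := Subtype.ext (by
      simp only [commutatorElement_def, Subgroup.coe_mul, Subgroup.coe_inv, e', ez, mul_inv_cancel_right])
    rw [this, hcm]
  have hWQ : ∀ q ∈ Q, W q = 1 := by
    intro q hq
    obtain ⟨p, hp, ep⟩ := C.vsurj (el 2 • v q)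
    have hxp := C.qn.conj_mem p hp x
    have hv : v ⁅x, p⁆ = v q := by
      rw [commutatorElement_def, C.vmul _ hxp _ (inv_mem hp), C.v_inv hp, C.vconj x p hp, hx, ep, smul_smul,
        ← add_smul, show el 2 * el 2 + el 2 = 1 by decide +kernel, one_smul]
    have hQc : ⁅x, p⁆ ∈ Q := by rw [commutatorElement_def]; exact mul_mem hxp (inv_mem hp)
    rcases C.eq_cases hQc hq hv with e | e
    · rw [show q = ⁅x, p⁆ from Subtype.ext e, hcm]
    · rw [show q = zc * ⁅x, p⁆ from Subtype.ext (by rw [Subgroup.coe_mul, ez]; exact e), map_mul, hz1, hcm,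
        one_mul]
  have hWK : ∀ k ∈ K, W k = 1 := by
    intro k hk
    have hle : KKp ≤ W.ker.map ρ := by
      conv_lhs => rw [← kkp_comm]
      rw [Subgroup.commutator_le]
      intro f hf g hg
      obtain ⟨a, -, rfl⟩ := C.onto f hf
      obtain ⟨b, -, rfl⟩ := C.onto g hg
      exact ⟨⁅a, b⁆, hcm a b, map_commutatorElement ρ a b⟩
    obtain ⟨k', hk', e⟩ := hle ((C.core k).mpr hk)
    have hq : k'⁻¹ * k ∈ Q := (C.ker _).mp (by rw [map_mul, map_inv, e, inv_mul_cancel])
    have := hWQ _ hq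
    rwa [map_mul, map_inv, MonoidHom.mem_ker.mp hk', inv_one, one_mul] at this
  refine ⟨V, ⟨_, hVd⟩, hWK, fun h hh => ?_⟩
  have hk : d⁻¹ * h ∈ K := (C.core _).mp (by
    rw [map_mul, map_inv, ed, inv_eq_of_mul_eq_one_right (oP_invol 0)]; exact hh)
  have h1 := hWK _ hk
  rw [map_mul, map_inv, inv_mul_eq_one] at h1
  show W h = -1
  rw [← h1]
  exact hVd

/-- conjugates of the central involution with linear image lie in the core -/
theorem no_linear_outer (hnp : NoP z Q v) {g : G} {t : CZ z} (et : (t : G) = g * z * g⁻¹)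
    (hl : Turn (el 2) (ρ t)) : t ∈ K := by
  refine (C.core t).mp ((linear_cases (C.ext t) hl).resolve_right fun h => ?_)
  obtain ⟨k, -, ek⟩ := C.onto _ h
  have hex : oP 0 ∈ ρ.range := ⟨k * t⁻¹, by rw [map_mul, map_inv, ek, mul_inv_cancel_right]⟩
  obtain ⟨V, -, hK, hout⟩ := C.exists_sign hnp hex
  obtain ⟨zc, hzc, ez, -⟩ := C.z_in
  have h1 := hout t h
  have h2 := hK zc (C.q_le hzc)
  rw [ez] at h2
  rw [et, map_mul, map_mul, h2, mul_one, ← map_mul, mul_inv_cancel, map_one] at h1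
  exact absurd h1 (by decide)

end CX

end CfsgLib.FiTwentyFourType
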