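import Cfsg.Agent.Lib.FiTwentyFourType.Ext
import Cfsg.Agent.Lib.FiTwentyFourType.Checks

/-!
A Sylow group of order 512 of the normaliser of the core, element by element.
-/

set_option autoImplicit false
set_option maxRecDepth 100000
set_option linter.style.haveILetI false

namespace CfsgLib.FiTwentyFourType

open CfsgLib.HePres (K4)
open CfsgLib.Fi22USix (V6 el code vec vec_code nrm)
open CfsgLib.LargeFischer (AddPerm colsOf bMap bComp bId gC pEls sylP pGen KKp oP xGen)

theorem ext_add {f : Equiv.Perm V6} (hf : f ∈ ExtS) : AddPerm f := hf.1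

/-- the elements of the core and of its conjugate coset -/
noncomputable def Sh2 : Subgroup (Equiv.Perm V6) where
  carrier := {f | f ∈ KKp ∨ oP 2 * f ∈ KKp}
  one_mem' := Or.inl (one_mem _)
  mul_mem' := by
    intro f g hf hg
    have hc : ∀ {k : Equiv.Perm V6}, k ∈ KKp → oP 2 * k * oP 2 ∈ KKp := fun {k} hk => by
      have := kkp_conj (oP_ext 2) hk
      rwa [inv_eq_of_mul_eq_one_right (oP_invol 2)] at this
    rcases hf with hf | hf <;> rcases hg with hg | hg
    · exact Or.inl (mul_mem hf hg)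
    · refine Or.inr ?_
      have e : oP 2 * (f * g) = oP 2 * f * oP 2 * (oP 2 * g) := by
        rw [show oP 2 * f * oP 2 * (oP 2 * g) = oP 2 * f * (oP 2 * oP 2) * g by group, oP_invol, mul_one]; group
      exact e ▸ mul_mem (hc hf) hg
    · refine Or.inr ?_
      rw [← mul_assoc]
      exact mul_mem hf hg
    · refine Or.inl ?_
      have e : f * g = oP 2 * (oP 2 * f) * oP 2 * (oP 2 * g) := by
        rw [show oP 2 * (oP 2 * f) * oP 2 * (oP 2 * g) = (oP 2 * oP 2) * f * (oP 2 * oP 2) * g by group,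
          oP_invol, one_mul, mul_one]
      exact e ▸ mul_mem (hc hf) hg
  inv_mem' := by
    intro f hf
    rcases hf with hf | hf
    · exact Or.inl (inv_mem hf)
    · refine Or.inr ?_
      have := kkp_conj (oP_ext 2) (inv_mem hf)
      rwa [show oP 2 * (oP 2 * f)⁻¹ * (oP 2)⁻¹ = oP 2 * f⁻¹ * ((oP 2)⁻¹ * (oP 2)⁻¹) by group,
        inv_eq_of_mul_eq_one_right (oP_invol 2), oP_invol, mul_one] at this

theorem mem_Sh2 {f : Equiv.Perm V6} : f ∈ Sh2 ↔ f ∈ KKp ∨ oP 2 * f ∈ KKp := Iff.rfl

theorem sh2_le : Sh2 ≤ ExtS := fun f hf => by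
  rcases hf with hf | hf
  · exact kkp_le_ext hf
  · have := mul_mem (oP_ext 2) (kkp_le_ext hf)
    rwa [← mul_assoc, oP_invol, one_mul] at this

theorem sylP_sh2 : sylP ≤ Sh2 := by
  refine (Subgroup.closure_le _).mpr ?_
  rintro _ ⟨k, rfl⟩
  have hw : ∀ w : List ℕ, LargeFischer.wordP w ∈ Sh2 := by
    intro w
    induction w with
    | nil => exact one_mem _
    | cons i w ih =>
      rw [LargeFischer.wordP_cons]
      refine mul_mem ?_ ih
      unfold LargeFischer.letP
      split_ifs
      · exact Or.inl (LargeFischer.xGen_mem 0).1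
      · exact Or.inl (LargeFischer.xGen_mem 1).1
      · exact Or.inr (by rw [oP_invol]; exact one_mem _)
  exact hw _

/-- the transvection above the Sylow group -/
noncomputable def dEl : Equiv.Perm V6 := xGen 1 * (xGen 1 * (oP 0 * xGen 1))

theorem dEl_ext : dEl ∈ ExtS := by
  have hx := kkp_le_ext (LargeFischer.xGen_mem 1).1
  exact mul_mem hx (mul_mem hx (mul_mem (oP_ext 0) hx))

theorem dEl_cols : colsOf dEl = dCols := by
  have hx := kkp_le_ext (LargeFischer.xGen_mem 1).1
  have cx : colsOf (xGen 1) = xC 1 := List.map_congr_left fun i _ => by rw [LargeFischer.xGen_coe]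
  have co : colsOf (oP 0) = oC := List.map_congr_left fun i _ => rfl
  rw [d_word, dEl, LargeFischer.cols_mul (ext_add hx), LargeFischer.cols_mul (ext_add hx),
    LargeFischer.cols_mul (ext_add (oP_ext 0)), cx, co]

theorem dEl_invol : dEl * dEl = 1 :=
  LargeFischer.cols_inj (ext_add (mul_mem dEl_ext dEl_ext)) (ext_add (one_mem ExtS))
    (by rw [LargeFischer.cols_mul (ext_add dEl_ext), dEl_cols, d_ok.1, LargeFischer.cols_one])

theorem dEl_not_sylP : dEl ∉ sylP := fun h => by
  have h1 := (LargeFischer.sylP_listed h).2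
  rw [dEl_cols] at h1
  have := List.all_eq_true.mp d_ok.2.1 _ h1
  simp at this

theorem dEl_norm {p : Equiv.Perm V6} (hp : p ∈ sylP) : dEl * p * dEl ∈ sylP := by
  have hinv : dEl⁻¹ = dEl := inv_eq_of_mul_eq_one_right dEl_invol
  suffices key : sylP ≤ sylP.comap (MulAut.conj dEl).toMonoidHom by
    have := key hp
    rwa [Subgroup.mem_comap, MulEquiv.coe_toMonoidHom, MulAut.conj_apply, hinv] at this
  refine (Subgroup.closure_le _).mpr ?_
  rintro _ ⟨k, rfl⟩
  show dEl * pGen k * dEl⁻¹ ∈ sylP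
  rw [hinv]
  obtain ⟨h1, h2⟩ := d_ok.2.2 k
  obtain ⟨q, hq, eq⟩ := LargeFischer.sylP_onto _ h2
  have hk : pGen k ∈ ExtS := sh2_le (sylP_sh2 (Subgroup.subset_closure ⟨k, rfl⟩))
  have e : dEl * pGen k * dEl = q :=
    LargeFischer.cols_inj (ext_add (mul_mem (mul_mem dEl_ext hk) dEl_ext)) (LargeFischer.sylP_listed hq).1 (by
      rw [eq, ← h1, mul_assoc, LargeFischer.cols_mul (ext_add dEl_ext), LargeFischer.cols_mul (ext_add hk), dEl_cols,
        LargeFischer.pGen_cols])
  rw [e]
  exact hq

/-- the group of order 512 -/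
noncomputable def P512 : Subgroup (Equiv.Perm V6) where
  carrier := {f | f ∈ sylP ∨ dEl * f ∈ sylP}
  one_mem' := Or.inl (one_mem _)
  mul_mem' := by
    intro f g hf hg
    rcases hf with hf | hf <;> rcases hg with hg | hg
    · exact Or.inl (mul_mem hf hg)
    · refine Or.inr ?_
      have := mul_mem (dEl_norm hf) hg
      rwa [show dEl * f * dEl * (dEl * g) = dEl * f * (dEl * dEl) * g by group, dEl_invol, mul_one,
        mul_assoc] at this
    · refine Or.inr ?_
      rw [← mul_assoc]
      exact mul_mem hf hg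
    · refine Or.inl ?_
      have := mul_mem (dEl_norm hf) hg
      rwa [show dEl * (dEl * f) * dEl * (dEl * g) = dEl * dEl * f * (dEl * dEl) * g by group, dEl_invol,
        one_mul, mul_one] at this
  inv_mem' := by
    intro f hf
    rcases hf with hf | hf
    · exact Or.inl (inv_mem hf)
    · refine Or.inr ?_
      have := dEl_norm (inv_mem hf)
      rwa [show dEl * (dEl * f)⁻¹ * dEl = dEl * f⁻¹ * (dEl⁻¹ * dEl) by group, inv_mul_cancel, mul_one] at this

theorem p512_le : P512 ≤ ExtS := fun f hf => by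
  rcases hf with hf | hf
  · exact sh2_le (sylP_sh2 hf)
  · have := mul_mem dEl_ext (sh2_le (sylP_sh2 hf))
    rwa [← mul_assoc, dEl_invol, one_mul] at this

theorem allEls_getD (i : ℕ) (hi : i < 256) :
    el512 i = pEls.getD i [] ∧ el512 (i + 256) = bComp dCols (pEls.getD i []) := by
  have h : i < pEls.length := hi.trans_eq LargeFischer.els_ok.1.symm
  refine ⟨List.getD_append _ _ _ _ h, ?_⟩
  rw [el512, allEls, List.getD_append_right _ _ _ _ (by rw [LargeFischer.els_ok.1]; omega),
    LargeFischer.els_ok.1, Nat.add_sub_cancel, hi_ok, List.getD_eq_getElem _ _ (by rw [List.length_map]; exact h),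
    List.getElem_map, List.getD_eq_getElem _ _ h]

theorem dEl_mul_cols {f : Equiv.Perm V6} : colsOf (dEl * f) = bComp dCols (colsOf f) := by
  rw [LargeFischer.cols_mul (ext_add dEl_ext), dEl_cols]

/-- every element is listed; those of the old Sylow group first -/
theorem p512_listed {f : Equiv.Perm V6} (hf : f ∈ P512) :
    ∃ i, i < 512 ∧ colsOf f = el512 i ∧ (f ∈ sylP → i < 256) := by
  by_cases hs : f ∈ sylP
  · obtain ⟨i, hi, e⟩ := List.mem_iff_getElem.mp (LargeFischer.sylP_listed hs).2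
    have hi' : i < 256 := hi.trans_eq LargeFischer.els_ok.1
    exact ⟨i, by omega, by rw [(allEls_getD i hi').1, List.getD_eq_getElem _ _ hi, e], fun _ => hi'⟩
  · have h2 := hf.resolve_left hs
    obtain ⟨i, hi, e⟩ := List.mem_iff_getElem.mp (LargeFischer.sylP_listed h2).2
    have hi' : i < 256 := hi.trans_eq LargeFischer.els_ok.1
    refine ⟨i + 256, by omega, ?_, fun h => absurd h hs⟩
    rw [(allEls_getD i hi').2, List.getD_eq_getElem _ _ hi, e, ← dEl_mul_cols, ← mul_assoc, dEl_invol, one_mul]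

theorem p512_onto {i : ℕ} (hi : i < 512) : ∃ f ∈ P512, colsOf f = el512 i := by
  rcases Nat.lt_or_ge i 256 with h | h
  · obtain ⟨f, hf, e⟩ := LargeFischer.sylP_onto i h
    exact ⟨f, Or.inl hf, e.trans (allEls_getD i h).1.symm⟩
  · obtain ⟨f, hf, e⟩ := LargeFischer.sylP_onto (i - 256) (by omega)
    refine ⟨dEl * f, Or.inr (by rw [← mul_assoc, dEl_invol, one_mul]; exact hf), ?_⟩
    rw [dEl_mul_cols, e, ← (allEls_getD (i - 256) (by omega)).2, Nat.sub_add_cancel h]

theorem p512_card : Nat.card P512 = 512 := by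
  classical
  let F : sylP × Bool → P512 := fun p => ⟨cond p.2 dEl 1 * p.1, by
    rcases p with ⟨⟨f, hf⟩, b⟩
    cases b
    · exact Or.inl (by rw [cond_false, one_mul]; exact hf)
    · exact Or.inr (by rw [cond_true, ← mul_assoc, dEl_invol, one_mul]; exact hf)⟩
  have hF : Function.Bijective F := by
    constructor
    · rintro ⟨a, b⟩ ⟨a', b'⟩ e
      have e' : cond b dEl 1 * (a : Equiv.Perm V6) = cond b' dEl 1 * a' := congrArg Subtype.val e
      cases b <;> cases b' <;> simp only [cond_true, cond_false, one_mul] at e'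
      · rw [Subtype.ext e']
      · exact absurd (by rw [← mul_inv_cancel_right dEl (a' : Equiv.Perm V6), ← e']; exact mul_mem a.2 (inv_mem a'.2)) dEl_not_sylP
      · exact absurd (by rw [← mul_inv_cancel_right dEl (a : Equiv.Perm V6), e']; exact mul_mem a'.2 (inv_mem a.2)) dEl_not_sylP
      · rw [Subtype.ext (mul_left_cancel e')]
    · rintro ⟨f, hf | hf⟩
      · exact ⟨(⟨f, hf⟩, false), Subtype.ext (one_mul f)⟩
      · exact ⟨(⟨_, hf⟩, true), Subtype.ext (by show dEl * (dEl * f) = f; rw [← mul_assoc, dEl_invol, one_mul])⟩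
  rw [← Nat.card_congr (Equiv.ofBijective F hF), Nat.card_prod, LargeFischer.sylP_card,
    Nat.card_eq_fintype_card (α := Bool), Fintype.card_bool]

/-- every 2-subgroup is conjugate into the group of order 512 -/
theorem exists_conj {X : Subgroup (Equiv.Perm V6)} (hX : X ≤ ExtS) (h2 : IsPGroup 2 X) :
    ∃ g ∈ ExtS, ∀ x ∈ X, g * x * g⁻¹ ∈ P512 := by
  classical
  haveI := Fact.mk Nat.prime_two
  have hfac : (Nat.card ExtS).factorization 2 = 9 := by
    rw [ext_card, Nat.factorization_mul (by norm_num) (by norm_num), Finsupp.add_apply,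
      Nat.Prime.factorization_pow Nat.prime_two, Finsupp.single_eq_same,
      Nat.factorization_eq_zero_of_not_dvd (by norm_num)]
  let P : Sylow 2 ExtS := Sylow.ofCard (P512.subgroupOf ExtS) (by
    rw [Nat.card_congr (Subgroup.subgroupOfEquivOfLe p512_le).toEquiv, p512_card, hfac]; norm_num)
  obtain ⟨Q, hQ⟩ := (h2.of_equiv (Subgroup.subgroupOfEquivOfLe hX).symm).exists_le_sylow
  obtain ⟨g, hg⟩ := MulAction.exists_smul_eq ExtS Q P
  refine ⟨g, g.2, fun x hx => ?_⟩
  have hxQ : (⟨x, hX hx⟩ : ExtS) ∈ (Q : Subgroup ExtS) := hQ hx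
  have h1 : g * ⟨x, hX hx⟩ * g⁻¹ ∈ (P : Subgroup ExtS) := by
    rw [← hg, Sylow.coe_subgroup_smul]
    exact ⟨_, hxQ, rfl⟩
  exact h1

end CfsgLib.FiTwentyFourType
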